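import Mathlib
import Cfsg.Agent.Lib.SylowNormalInf
import Cfsg.Agent.Lib.NormalAbelian
import Cfsg.Agent.FastGrp
import Cfsg.Agent.Prune
set_option linter.all false

section
prune_inst 0x7fbdfefbbff8addfffff7e7ffefddffffdfdffffffdffbfbfffdfbffefdf6b6f7be5fb8ffffc58ffdff7e2be34f87b53fbffdeffef6bdd7ffffd5ff45ffbff9fffffbfad71febcbe0ffe6ffffbf37fdfffffffffffffffffffffffffffffffffffffffffffff

-- part: H467/OddNorm
section
prune_inst 0x200000000022000000180000000000000000000000400000000000000000080020000000002000000000080000000040000000000000000000000000000000000000000000000100000000000002000000000000000000000000000000000000000000000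
set_option linter.all false
open scoped Cfsg.Agent.FastGrp

/-!
# Involutions normalising Sylow subgroups: the rows of S3855 (helper467)

`Ev p S` : some involution of `S` normalises some Sylow `p`-subgroup of `Aut S`.

* `exists_inv_mem`, `of_real`, `of_hom` : general tools in a group `G` with a normal subgroup `N`;
* `Ev.of_real` : every element of order `p` of `S` with centralizer of index prime to `p` is conjugate to its inverse;
* `Ev.of_hom` : a homomorphism to `ℤˣ` of a subgroup of `Aut S` of index prime to `p`, nontrivial on inner elements;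
* `Ev.of_sub` : from a subgroup `P` of `Aut S` of `p`-power order and index prime to `p`;
* `EvIn p S`, `Ev.of_inner` : the case where the automorphisms of `p`-power order are inner.
-/

set_option autoImplicit false

namespace Cfsg.Agent.H467.OddNorm

open Subgroup

universe u v

section General

variable {G : Type u} [Group G]

/-- an element of even order of `N P`, `P` a `p`-group, has a power which is an involution of `N` -/
theorem exists_inv_mem [Finite G] {p : ℕ} (hp : p.Prime) (hp2 : p ≠ 2) {N : Subgroup G} [hN : N.Normal]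
    {P : Subgroup G} (hP : IsPGroup p ↥P) {n : G} (hn : n ∈ N ⊔ P) (he : Even (orderOf n)) :
    ∃ k : ℕ, orderOf (n ^ k) = 2 ∧ n ^ k ∈ N := by
  obtain ⟨m, hm⟩ := he
  have hpos : 0 < orderOf n := orderOf_pos n
  have hm0 : m ≠ 0 := by
    rintro rfl
    omega
  have h2 : orderOf (n ^ m) = 2 := by
    have h := orderOf_pow_of_dvd hm0 (Dvd.intro 2 (by omega : m * 2 = orderOf n))
    rw [h, hm]
    have : m + m = m * 2 := by ring
    rw [this]
    exact Nat.mul_div_cancel_left 2 (Nat.pos_of_ne_zero hm0)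
  refine ⟨m, h2, ?_⟩
  have h3 : n ^ m ∈ N ⊔ P := pow_mem hn m
  obtain ⟨a, ha, b, hb, hab⟩ := Subgroup.mem_sup_of_normal_left.1 h3
  obtain ⟨k, hk⟩ := hP ⟨b, hb⟩
  have hbk : b ^ p ^ k = 1 := by
    have := congrArg Subtype.val hk
    simpa only [_root_.SubmonoidClass.mk_pow, _root_.OneMemClass.coe_one] using this
  have h4 : (QuotientGroup.mk' N) (n ^ m) = (QuotientGroup.mk' N) b := by
    rw [← hab, map_mul]
    have : (QuotientGroup.mk' N) a = 1 := (QuotientGroup.eq_one_iff a).2 ha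
    rw [this, one_mul]
  have h5 : ((QuotientGroup.mk' N) (n ^ m)) ^ 2 = 1 := by
    rw [← map_pow, ← h2, pow_orderOf_eq_one, map_one]
  have h6 : ((QuotientGroup.mk' N) (n ^ m)) ^ p ^ k = 1 := by
    rw [h4, ← map_pow, hbk, map_one]
  have h7 : orderOf ((QuotientGroup.mk' N) (n ^ m)) ∣ 2 := orderOf_dvd_of_pow_eq_one h5
  have h8 : orderOf ((QuotientGroup.mk' N) (n ^ m)) ∣ p ^ k := orderOf_dvd_of_pow_eq_one h6
  have h9 : Nat.Coprime 2 (p ^ k) :=
    Nat.Coprime.pow_right k ((Nat.coprime_primes Nat.prime_two hp).2 (Ne.symm hp2))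
  have h10 : orderOf ((QuotientGroup.mk' N) (n ^ m)) = 1 :=
    Nat.dvd_one.1 (h9 ▸ Nat.dvd_gcd h7 h8)
  rw [orderOf_eq_one_iff] at h10
  exact (QuotientGroup.eq_one_iff _).1 h10

theorem inv_ne_self {p : ℕ} (hp : p.Prime) (hp2 : p ≠ 2) {z : G} (hz : z ≠ 1) (hzp : ∃ k : ℕ, z ^ p ^ k = 1) :
    z⁻¹ ≠ z := by
  intro h
  obtain ⟨k, hk⟩ := hzp
  have h1 : z ^ 2 = 1 := by
    rw [pow_two]
    nth_rw 1 [← h]
    exact inv_mul_cancel z
  have h9 : Nat.Coprime 2 (p ^ k) :=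
    Nat.Coprime.pow_right k ((Nat.coprime_primes Nat.prime_two hp).2 (Ne.symm hp2))
  have := orderOf_dvd_of_pow_eq_one h1
  have h2 := orderOf_dvd_of_pow_eq_one hk
  exact hz (orderOf_eq_one_iff.1 (Nat.dvd_one.1 (h9 ▸ Nat.dvd_gcd this h2)))

/-- an element inverting a nontrivial element of odd order has even order -/
theorem even_of_inverts {z n : G} (hz : z⁻¹ ≠ z) (h : n * z * n⁻¹ = z⁻¹) : Even (orderOf n) := by
  by_contra ho
  rw [Nat.not_even_iff_odd] at ho
  obtain ⟨k, hk⟩ := ho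
  have h2 : ∀ j : ℕ, n ^ (2 * j) * z * (n ^ (2 * j))⁻¹ = z := by
    intro j
    induction j with
    | zero => simp
    | succ j ih =>
      have e : 2 * (j + 1) = 2 * j + 1 + 1 := by ring
      rw [e, pow_succ, pow_succ]
      have h3 : n ^ (2 * j) * n * n * z * (n ^ (2 * j) * n * n)⁻¹
          = n ^ (2 * j) * (n * (n * z * n⁻¹) * n⁻¹) * (n ^ (2 * j))⁻¹ := by group
      rw [h3, h]
      have h4 : n * z⁻¹ * n⁻¹ = z := by
        have := congrArg (·⁻¹) h
        simpa only [mul_assoc, _root_.mul_inv_rev, _root_.inv_inv] using this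
      rw [h4, ih]
  have h3 : n ^ (2 * k + 1) * z * (n ^ (2 * k + 1))⁻¹ = z⁻¹ := by
    rw [pow_succ']
    have h5 : n * n ^ (2 * k) * z * (n * n ^ (2 * k))⁻¹ = n * (n ^ (2 * k) * z * (n ^ (2 * k))⁻¹) * n⁻¹ := by
      group
    rw [h5, h2, h]
  rw [← hk, pow_orderOf_eq_one] at h3
  apply hz
  rw [← h3]
  group

/-- **Burnside**: a real central element of `P` gives an involution of `N` normalising `P`. -/
theorem of_real [Finite G] {p : ℕ} [hp : Fact p.Prime] (hp2 : p ≠ 2) {N : Subgroup G} [hN : N.Normal]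
    {P : Subgroup G} (hP : IsPGroup p ↥P) (hidx : ¬ p ∣ P.relIndex (N ⊔ P)) {z : G} (hzP : z ∈ P)
    (hzc : ∀ x ∈ P, x * z = z * x) (hz1 : z ≠ 1) {g : G} (hg : g ∈ N ⊔ P) (hgz : g * z * g⁻¹ = z⁻¹) :
    ∃ t ∈ N, orderOf t = 2 ∧ t ∈ normalizer (P : Set G) := by
  classical
  set K : Subgroup G := N ⊔ P with hK
  have hPK : P ≤ K := le_sup_right
  have hPK' : IsPGroup p ↥(P.subgroupOf K) := hP.comap_of_injective K.subtype K.subtype_injective
  let PS : Sylow p ↥K := hPK'.toSylow (by rwa [relIndex] at hidx)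
  have hPS : ∀ y : ↥K, y ∈ (PS : Subgroup ↥K) ↔ (y : G) ∈ P := by
    intro y
    show y ∈ P.subgroupOf K ↔ _
    exact mem_subgroupOf
  have hzpk : ∃ k : ℕ, z ^ p ^ k = 1 := by
    obtain ⟨k, hk⟩ := hP ⟨z, hzP⟩
    exact ⟨k, by simpa only [_root_.SubmonoidClass.mk_pow, _root_.OneMemClass.coe_one] using congrArg Subtype.val hk⟩
  let x : ↥K := ⟨z, hPK hzP⟩
  let g' : ↥K := ⟨g, hg⟩⁻¹
  have hcen : ∀ y : ↥K, (y : G) = z ∨ (y : G) = z⁻¹ → y ∈ centralizer ((PS : Subgroup ↥K) : Set ↥K) := by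
    intro y hy
    rw [mem_centralizer_iff]
    intro u hu
    have hu' : (u : G) ∈ P := (hPS u).1 hu
    apply Subtype.ext
    rw [Subgroup.coe_mul, Subgroup.coe_mul]
    rcases hy with hy | hy
    · rw [hy]; exact hzc _ hu'
    · rw [hy]
      have h1 := hzc _ hu'
      calc (u : G) * z⁻¹ = z⁻¹ * (z * u) * z⁻¹ := by group
        _ = z⁻¹ * (u * z) * z⁻¹ := by rw [h1]
        _ = z⁻¹ * u := by group
  have hx : x ∈ centralizer ((PS : Subgroup ↥K) : Set ↥K) := hcen x (Or.inl rfl)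
  have hy : g'⁻¹ * x * g' ∈ centralizer ((PS : Subgroup ↥K) : Set ↥K) := by
    refine hcen _ (Or.inr ?_)
    simp only [g', x, inv_inv, Subgroup.coe_mul, InvMemClass.coe_inv]
    exact hgz
  obtain ⟨n, hn, hn2⟩ := Sylow.conj_eq_normalizer_conj_of_mem_centralizer PS x g' hx hy
  have h1 : (n : G)⁻¹ * z * (n : G) = z⁻¹ := by
    have := congrArg Subtype.val hn2
    simp only [g', x, inv_inv, Subgroup.coe_mul, InvMemClass.coe_inv] at this
    rw [hgz] at this
    exact this.symm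
  have hinv : z⁻¹ ≠ z := inv_ne_self hp.out hp2 hz1 hzpk
  have heven : Even (orderOf ((n : G)⁻¹)) := even_of_inverts (z := z) hinv (by rw [inv_inv]; exact h1)
  obtain ⟨k, hk2, hkN⟩ := exists_inv_mem hp.out hp2 hP (N := N) (n := (n : G)⁻¹) (inv_mem n.2) heven
  refine ⟨_, hkN, hk2, ?_⟩
  apply pow_mem
  apply inv_mem
  rw [mem_normalizer_iff]
  intro y
  have hn' := mem_normalizer_iff.1 hn
  constructor
  · intro hyP
    have := (hn' ⟨y, hPK hyP⟩).1 ((hPS _).2 hyP)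
    have := (hPS _).1 this
    simpa only [_root_.Subgroup.coe_mul, _root_.InvMemClass.coe_inv] using this
  · intro hyP
    have hyK : y ∈ K := by
      have h2 : (n : G) * y * (n : G)⁻¹ ∈ K := hPK hyP
      have h3 := mul_mem (mul_mem (inv_mem n.2) h2) n.2
      have h4 : (n : G)⁻¹ * ((n : G) * y * (n : G)⁻¹) * (n : G) = y := by group
      rwa [h4] at h3
    have := (hn' ⟨y, hyK⟩).2 ((hPS _).2 (by simpa only [_root_.Subgroup.coe_mul, _root_.InvMemClass.coe_inv] using hyP))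
    exact (hPS _).1 this

/-- a homomorphism to `ℤˣ` of a group `M ≥ P`, nontrivial on `M ∩ N` -/
theorem of_hom [Finite G] {p : ℕ} [hp : Fact p.Prime] (hp2 : p ≠ 2) {N : Subgroup G} [hN : N.Normal]
    {P : Subgroup G} (hP : IsPGroup p ↥P) (hidx : ¬ p ∣ P.relIndex (N ⊔ P)) {M : Subgroup G} (hPM : P ≤ M)
    (χ : ↥M →* ℤˣ) {m : G} (hmM : m ∈ M) (hmN : m ∈ N) (hχ : χ ⟨m, hmM⟩ ≠ 1) :
    ∃ t ∈ N, orderOf t = 2 ∧ t ∈ normalizer (P : Set G) := by
  classical
  set K : Subgroup G := (M ⊓ N) ⊔ P with hK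
  have hKM : K ≤ M := sup_le inf_le_left hPM
  have hPK : P ≤ K := le_sup_right
  have hKN : K ≤ N ⊔ P := sup_le_sup_right inf_le_right P
  have hidxK : ¬ p ∣ P.relIndex K := fun h => hidx (h.trans (by
    rw [← relIndex_mul_relIndex P K (N ⊔ P) hPK hKN]; exact Dvd.intro _ rfl))
  have hPK' : IsPGroup p ↥(P.subgroupOf K) := hP.comap_of_injective K.subtype K.subtype_injective
  let PS : Sylow p ↥K := hPK'.toSylow (by rwa [relIndex] at hidxK)
  have hPS : ∀ y : ↥K, y ∈ (PS : Subgroup ↥K) ↔ (y : G) ∈ P := by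
    intro y
    show y ∈ P.subgroupOf K ↔ _
    exact mem_subgroupOf
  let ψ : ↥K →* ℤˣ := χ.comp (Subgroup.inclusion hKM)
  have hker : (PS : Subgroup ↥K) ≤ ψ.ker := by
    intro y hy
    rw [MonoidHom.mem_ker]
    obtain ⟨k, hk⟩ := PS.isPGroup' ⟨y, hy⟩
    have hk' : y ^ p ^ k = 1 := by simpa only [_root_.SubmonoidClass.mk_pow, _root_.OneMemClass.coe_one] using congrArg Subtype.val hk
    have h1 : (ψ y) ^ p ^ k = 1 := by rw [← map_pow, hk', map_one]
    have hodd : Odd (p ^ k) := (hp.out.odd_of_ne_two hp2).pow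
    rcases Int.units_eq_one_or (ψ y) with h | h
    · exact h
    · rw [h, hodd.neg_one_pow] at h1
      exact absurd h1 (by decide)
  have hfr : normalizer ((PS : Subgroup ↥K) : Set ↥K) ⊔ ψ.ker = ⊤ :=
    Sylow.normalizer_sup_eq_top' PS hker
  have hmK : m ∈ K := mem_sup_left ⟨hmM, hmN⟩
  have hm1 : (⟨m, hmK⟩ : ↥K) ∈ normalizer ((PS : Subgroup ↥K) : Set ↥K) ⊔ ψ.ker := by rw [hfr]; trivial
  obtain ⟨a, ha, b, hb, hab⟩ := Subgroup.mem_sup_of_normal_right.1 hm1
  have hψm : ψ ⟨m, hmK⟩ ≠ 1 := hχ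
  have hψa : ψ a ≠ 1 := by
    intro h
    apply hψm
    rw [← hab, map_mul, h, (MonoidHom.mem_ker).1 hb, one_mul]
  have ha1 : ψ a = -1 := (Int.units_eq_one_or (ψ a)).resolve_left hψa
  have heven : Even (orderOf (a : G)) := by
    rw [Subgroup.orderOf_coe]
    by_contra ho
    rw [Nat.not_even_iff_odd] at ho
    have h1 : (ψ a) ^ orderOf a = 1 := by rw [← map_pow, pow_orderOf_eq_one, map_one]
    rw [ha1, ho.neg_one_pow] at h1
    exact absurd h1 (by decide)
  obtain ⟨k, hk2, hkN⟩ := exists_inv_mem hp.out hp2 hP (N := N) (n := (a : G)) (hKN a.2) heven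
  refine ⟨_, hkN, hk2, ?_⟩
  apply pow_mem
  rw [mem_normalizer_iff]
  intro y
  have hn' := mem_normalizer_iff.1 ha
  constructor
  · intro hyP
    have := (hn' ⟨y, hPK hyP⟩).1 ((hPS _).2 hyP)
    have := (hPS _).1 this
    simpa only [_root_.Subgroup.coe_mul, _root_.InvMemClass.coe_inv] using this
  · intro hyP
    have hyK : y ∈ K := by
      have h2 : (a : G) * y * (a : G)⁻¹ ∈ K := hPK hyP
      have h3 := mul_mem (mul_mem (inv_mem a.2) h2) a.2
      have h4 : (a : G)⁻¹ * ((a : G) * y * (a : G)⁻¹) * (a : G) = y := by group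
      rwa [h4] at h3
    have := (hn' ⟨y, hyK⟩).2 ((hPS _).2 (by simpa only [_root_.Subgroup.coe_mul, _root_.InvMemClass.coe_inv] using hyP))
    exact (hPS _).1 this

theorem of_hom_aux [Finite G] {p : ℕ} [hp : Fact p.Prime] (hp2 : p ≠ 2) {N : Subgroup G} [hN : N.Normal]
    {P : Subgroup G} (hP : IsPGroup p ↥P) (hidx : ¬ p ∣ P.index) {M : Subgroup G} (hPM : P ≤ M)
    (χ : ↥M →* ℤˣ) {m : G} (hmM : m ∈ M) (hmN : m ∈ N) (hχ : χ ⟨m, hmM⟩ ≠ 1) :
    ∃ t ∈ N, orderOf t = 2 ∧ t ∈ normalizer (P : Set G) :=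
  of_hom hp2 hP (fun h3 => hidx (h3.trans (relIndex_dvd_index_of_le le_sup_right))) hPM χ hmM hmN hχ

end General

/-! ### The rows -/

section Rows

variable {S : Type u} [Group S] {p : ℕ}

/-- some involution of `S` normalises some Sylow `p`-subgroup of `Aut S` -/
def Ev (p : ℕ) (S : Type u) [Group S] : Prop :=
  ∃ (P : Sylow p (MulAut S)) (t : S), orderOf t = 2 ∧
    MulAut.conj t ∈ normalizer ((P : Subgroup (MulAut S)) : Set (MulAut S))

/-- some involution of `S` normalises some Sylow `p`-subgroup of `S` -/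
def EvIn (p : ℕ) (S : Type u) [Group S] : Prop :=
  ∃ (P : Sylow p S) (t : S), orderOf t = 2 ∧ t ∈ normalizer ((P : Subgroup S) : Set S)

theorem conj_conj (α : MulAut S) (s : S) : α * MulAut.conj s * α⁻¹ = MulAut.conj (α s) := by
  ext x
  simp only [MulAut.conj_apply, _root_.MulAut.mul_apply, _root_.MulAut.inv_apply, _root_.MulAut.conj_apply, _root_.map_mul, _root_.MulEquiv.apply_symm_apply, _root_.map_inv]

instance inn_normal : ((MulAut.conj : S →* MulAut S).range).Normal := by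
  refine ⟨?_⟩
  rintro _ ⟨s, rfl⟩ α
  exact ⟨α s, (conj_conj α s).symm⟩

theorem conj_injective (hZ : center S = ⊥) : Function.Injective (MulAut.conj : S →* MulAut S) := by
  rw [injective_iff_map_eq_one]
  intro a ha
  have h1 : a ∈ center S := by
    rw [Subgroup.mem_center_iff]
    intro g
    have := congrArg (fun f : MulAut S => f g) ha
    simp only [MulAut.conj_apply, MulAut.one_apply] at this
    calc g * a = a * g * a⁻¹ * a := by rw [this]
      _ = a * g := by group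
  rw [hZ] at h1
  exact (Subgroup.mem_bot).1 h1

theorem center_eq_bot_of_simple [IsSimpleGroup S] (hna : ¬ ∀ a b : S, a * b = b * a) : center S = ⊥ := by
  rcases (inferInstance : (center S).Normal).eq_bot_or_eq_top with h | h
  · exact h
  · exact absurd (fun a b => ((Subgroup.mem_center_iff.1 (h ▸ Subgroup.mem_top b : b ∈ center S)) a)) hna

section Congr

variable {T : Type v} [Group T]

/-- `Ev` is invariant under isomorphism. -/
theorem Ev.congr [Finite S] [Fact p.Prime] (e : S ≃* T) (h : Ev p S) : Ev p T := by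
  obtain ⟨P, t, ht, hn⟩ := h
  have : Finite T := Finite.of_equiv S e.toEquiv
  let E : MulAut S ≃* MulAut T := MulAut.congr e
  have hE : ∀ s : S, E (MulAut.conj s) = MulAut.conj (e s) := by
    intro s
    ext x
    simp only [E, MulAut.congr, MulAut.conj_apply, _root_.MulAut.congr, _root_.MulEquiv.coe_mk, _root_.Equiv.coe_fn_mk, _root_.MulEquiv.trans_apply, _root_.MulAut.conj_apply, _root_.map_mul, _root_.MulEquiv.apply_symm_apply, _root_.map_inv]
  have hp : IsPGroup p ↥((P : Subgroup (MulAut S)).map E.toMonoidHom) := P.isPGroup'.map _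
  have hi : ¬ p ∣ ((P : Subgroup (MulAut S)).map E.toMonoidHom).index := by
    rw [Subgroup.index_map_of_bijective E.bijective]
    exact P.not_dvd_index
  refine ⟨hp.toSylow hi, e t, ?_, ?_⟩
  · rw [← ht]
    exact orderOf_injective e.toMonoidHom e.injective t
  · rw [← hE]
    show E (MulAut.conj t) ∈ normalizer (((P : Subgroup (MulAut S)).map E.toMonoidHom : Subgroup (MulAut T)) :
      Set (MulAut T))
    rw [mem_normalizer_iff] at hn ⊢
    intro y
    constructor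
    · rintro ⟨x, hx, rfl⟩
      refine ⟨MulAut.conj t * x * (MulAut.conj t)⁻¹, (hn x).1 hx, ?_⟩
      simp only [map_mul, _root_.MulEquiv.toMonoidHom_eq_coe, _root_.map_mul, _root_.MonoidHom.coe_coe, _root_.map_inv]
    · rintro ⟨x, hx, hxy⟩
      refine ⟨(MulAut.conj t)⁻¹ * x * MulAut.conj t, (hn _).2 (by
        have h0 : MulAut.conj t * ((MulAut.conj t)⁻¹ * x * MulAut.conj t) * (MulAut.conj t)⁻¹ = x := by group
        rw [h0]; exact hx), ?_⟩
      have h1 : E x = E (MulAut.conj t) * y * (E (MulAut.conj t))⁻¹ := hxy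
      show E ((MulAut.conj t)⁻¹ * x * MulAut.conj t) = y
      rw [map_mul, map_mul, map_inv, h1]
      group

theorem EvIn.congr [Finite S] [Fact p.Prime] (e : S ≃* T) (h : EvIn p S) : EvIn p T := by
  obtain ⟨P, t, ht, hn⟩ := h
  have : Finite T := Finite.of_equiv S e.toEquiv
  have hp : IsPGroup p ↥((P : Subgroup S).map e.toMonoidHom) := P.isPGroup'.map _
  have hi : ¬ p ∣ ((P : Subgroup S).map e.toMonoidHom).index := by
    rw [Subgroup.index_map_of_bijective e.bijective]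
    exact P.not_dvd_index
  refine ⟨hp.toSylow hi, e t, ?_, ?_⟩
  · rw [← ht]
    exact orderOf_injective e.toMonoidHom e.injective t
  · show e t ∈ normalizer (((P : Subgroup S).map e.toMonoidHom : Subgroup T) : Set T)
    rw [mem_normalizer_iff] at hn ⊢
    intro y
    constructor
    · rintro ⟨x, hx, rfl⟩
      refine ⟨t * x * t⁻¹, (hn x).1 hx, ?_⟩
      simp only [map_mul, _root_.MulEquiv.toMonoidHom_eq_coe, _root_.map_mul, _root_.MonoidHom.coe_coe, _root_.map_inv]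
    · rintro ⟨x, hx, hxy⟩
      refine ⟨t⁻¹ * x * t, (hn _).2 (by
        have h0 : t * (t⁻¹ * x * t) * t⁻¹ = x := by group
        rw [h0]; exact hx), ?_⟩
      have h1 : e x = e t * y * (e t)⁻¹ := hxy
      show e (t⁻¹ * x * t) = y
      rw [map_mul, map_mul, map_inv, h1]
      group

end Congr

/-- From a `p`-subgroup of `Aut S` of index prime to `p`. -/
theorem Ev.of_sub [Finite S] [Fact p.Prime] {P : Subgroup (MulAut S)} (hP : IsPGroup p ↥P) (hi : ¬ p ∣ P.index)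
    {t : S} (ht : orderOf t = 2) (hn : MulAut.conj t ∈ normalizer (P : Set (MulAut S))) : Ev p S :=
  ⟨hP.toSylow hi, t, ht, hn⟩

/-- **The use of the rows**: every `p`-subgroup of `Aut S` meeting `Inn S` in a Sylow subgroup is normalised by an
involution of `S`. -/
theorem Ev.all [Finite S] [hp : Fact p.Prime] (h : Ev p S) {Q : Subgroup (MulAut S)} (hQ : IsPGroup p ↥Q)
    (hi : ¬ p ∣ Q.relIndex (MulAut.conj : S →* MulAut S).range) :
    ∃ t : S, orderOf t = 2 ∧ MulAut.conj t ∈ normalizer (Q : Set (MulAut S)) := by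
  obtain ⟨P, t, ht, hn⟩ := h
  obtain ⟨P', hP'⟩ := hQ.exists_le_sylow
  obtain ⟨g, hg⟩ := MulAction.exists_smul_eq (MulAut S) P P'
  set I : Subgroup (MulAut S) := (MulAut.conj : S →* MulAut S).range with hI
  have hmem : ∀ x : MulAut S, x ∈ (P' : Subgroup (MulAut S)) ↔ g⁻¹ * x * g ∈ (P : Subgroup (MulAut S)) := by
    intro x
    rw [← hg, Sylow.smul_def, Sylow.pointwise_smul_def, Subgroup.mem_pointwise_smul_iff_inv_smul_mem,
      ← MulAut.conj_inv_apply]
    rfl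
  have hn' : ∀ x : MulAut S, x ∈ (P' : Subgroup (MulAut S)) →
      MulAut.conj (g t) * x * (MulAut.conj (g t))⁻¹ ∈ (P' : Subgroup (MulAut S)) := by
    intro x hx
    rw [hmem] at hx ⊢
    have h1 := (mem_normalizer_iff.1 hn _).1 hx
    have h2 : MulAut.conj t * (g⁻¹ * x * g) * (MulAut.conj t)⁻¹
        = g⁻¹ * (MulAut.conj (g t) * x * (MulAut.conj (g t))⁻¹) * g := by
      rw [← conj_conj g t]; group
    rw [← h2]; exact h1
  have hord : orderOf (g t) = 2 := by
    rw [← ht]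
    exact orderOf_injective (g : S ≃* S).toMonoidHom g.injective t
  -- the intersection
  have hQI : Q ⊓ I = (P' : Subgroup (MulAut S)) ⊓ I := by
    apply le_antisymm (inf_le_inf_right I hP')
    have hle : Q ⊓ I ≤ (P' : Subgroup (MulAut S)) ⊓ I := inf_le_inf_right I hP'
    have h1 : (Q ⊓ I).relIndex ((P' : Subgroup (MulAut S)) ⊓ I) ∣ (Q ⊓ I).relIndex I := by
      rw [← relIndex_mul_relIndex (Q ⊓ I) ((P' : Subgroup (MulAut S)) ⊓ I) I hle inf_le_right]
      exact Dvd.intro _ rfl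
    rw [inf_relIndex_right] at h1
    have h2 : IsPGroup p ↥((P' : Subgroup (MulAut S)) ⊓ I) := P'.isPGroup'.to_le inf_le_left
    obtain ⟨k, hk⟩ := (IsPGroup.iff_card.1 h2)
    have h3 : (Q ⊓ I).relIndex ((P' : Subgroup (MulAut S)) ⊓ I) ∣ p ^ k := by
      rw [← hk]; exact relIndex_dvd_card _ _
    obtain ⟨j, -, hj⟩ := (Nat.dvd_prime_pow hp.out).1 h3
    have hj0 : j = 0 := by
      by_contra hj0
      exact hi ((dvd_pow_self p hj0).trans (hj ▸ h1))
    rw [hj0, pow_zero] at hj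
    exact relIndex_eq_one.1 hj
  have hone : ∀ x : MulAut S, x ∈ Q → MulAut.conj (g t) * x * (MulAut.conj (g t))⁻¹ ∈ Q := by
    intro x hx
    have h1 : MulAut.conj (g t) * x * (MulAut.conj (g t))⁻¹ * x⁻¹ ∈ (P' : Subgroup (MulAut S)) ⊓ I := by
      refine ⟨Subgroup.mul_mem _ (hn' x (hP' hx)) (Subgroup.inv_mem _ (hP' hx)), ?_⟩
      have h2 : MulAut.conj (g t) * x * (MulAut.conj (g t))⁻¹ * x⁻¹
          = MulAut.conj (g t) * (x * (MulAut.conj (g t))⁻¹ * x⁻¹) := by group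
      rw [h2]
      have h3 : (MulAut.conj (g t))⁻¹ ∈ I := I.inv_mem ⟨_, rfl⟩
      exact I.mul_mem ⟨_, rfl⟩ (inn_normal.conj_mem _ h3 x)
    rw [← hQI] at h1
    have := mul_mem h1.1 hx
    simpa only [mul_assoc, _root_.inv_mul_cancel, _root_.mul_one, _root_.Subgroup.mem_toSubmonoid] using this
  refine ⟨g t, hord, ?_⟩
  have hsq : MulAut.conj (g t) * MulAut.conj (g t) = 1 := by
    rw [← map_mul, ← pow_two, ← hord, pow_orderOf_eq_one, map_one]
  have hinv : (MulAut.conj (g t))⁻¹ = MulAut.conj (g t) := inv_eq_of_mul_eq_one_left hsq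
  rw [mem_normalizer_iff]
  intro x
  refine ⟨hone x, fun hx => ?_⟩
  have h1 := hone _ hx
  rw [hinv] at h1 hx
  have h2 : MulAut.conj (g t) * (MulAut.conj (g t) * x * MulAut.conj (g t)) * MulAut.conj (g t)
      = (MulAut.conj (g t) * MulAut.conj (g t)) * x * (MulAut.conj (g t) * MulAut.conj (g t)) := by group
  rw [h2, hsq, one_mul, mul_one] at h1
  exact h1

/-- **T1**: every element of order `p` of `S` whose centralizer contains a Sylow `p`-subgroup of `S` is real. -/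
theorem Ev.of_real [Finite S] [hp : Fact p.Prime] (hp2 : p ≠ 2) (hZ : center S = ⊥) (hd : p ∣ Nat.card S)
    (h : ∀ z : S, orderOf z = p → ¬ p ∣ (centralizer ({z} : Set S)).index → ∃ g : S, g * z * g⁻¹ = z⁻¹) :
    Ev p S := by
  classical
  have hinj := conj_injective hZ
  obtain ⟨P⟩ : Nonempty (Sylow p (MulAut S)) := inferInstance
  set I : Subgroup (MulAut S) := (MulAut.conj : S →* MulAut S).range with hI
  have hcardI : Nat.card ↥I = Nat.card S := (Nat.card_congr (MonoidHom.ofInjective hinj).toEquiv).symm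
  -- `X = P ∩ I`, a nontrivial normal subgroup of `P`
  let X : Subgroup ↥(P : Subgroup (MulAut S)) := I.subgroupOf (P : Subgroup (MulAut S))
  have hXn : X.Normal := inferInstance
  have hrel : ¬ p ∣ (P : Subgroup (MulAut S)).relIndex I := Cfsg.Agent.Lib.SylowNormalInf.not_dvd_relIndex P I
  have hne : Nontrivial ↥X := by
    rw [Subgroup.nontrivial_iff_ne_bot]
    intro hb
    have h1 : (P : Subgroup (MulAut S)) ⊓ I = ⊥ := by
      rw [eq_bot_iff]
      intro x hx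
      have : (⟨x, hx.1⟩ : ↥(P : Subgroup (MulAut S))) ∈ X := by
        rw [mem_subgroupOf]; exact hx.2
      rw [hb, mem_bot] at this
      exact (mem_bot).2 (congrArg Subtype.val this)
    apply hrel
    rw [← inf_relIndex_right, h1, relIndex_bot_left, hcardI]
    exact hd
  obtain ⟨c, hc1, hcX, hcC⟩ : ∃ c : ↥(P : Subgroup (MulAut S)), orderOf c = p ∧ c ∈ X ∧ c ∈ center _ := by
    have hX1 : X ≠ ⊥ := (Subgroup.nontrivial_iff_ne_bot _).1 hne
    have hnil : Group.IsNilpotent ↥(P : Subgroup (MulAut S)) := P.isPGroup'.isNilpotent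
    have h1 := Cfsg.Agent.Lib.NormalAbelian.normal_inf_center_ne_bot X hX1
    have hnt : Nontrivial ↥(X ⊓ center ↥(P : Subgroup (MulAut S))) := (Subgroup.nontrivial_iff_ne_bot _).2 h1
    have hpg : IsPGroup p ↥(X ⊓ center ↥(P : Subgroup (MulAut S))) :=
      (P.isPGroup'.to_subgroup _)
    have hdv : p ∣ Nat.card ↥(X ⊓ center ↥(P : Subgroup (MulAut S))) := by
      obtain ⟨k, hk⟩ := IsPGroup.iff_card.1 hpg
      have hk0 : k ≠ 0 := by
        rintro rfl
        rw [pow_zero] at hk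
        exact absurd (Finite.one_lt_card (α := ↥(X ⊓ center ↥(P : Subgroup (MulAut S))))) (by rw [hk]; omega)
      rw [hk]; exact dvd_pow_self p hk0
    obtain ⟨⟨c, hc⟩, hco⟩ := exists_prime_orderOf_dvd_card' p hdv
    refine ⟨c, ?_, hc.1, hc.2⟩
    exact (Subgroup.orderOf_mk c hc).symm.trans hco
  obtain ⟨z, hz⟩ : (c : MulAut S) ∈ I := hcX
  have hzc : ∀ x ∈ (P : Subgroup (MulAut S)), x * MulAut.conj z = MulAut.conj z * x := by
    intro x hx
    rw [hz]
    exact congrArg Subtype.val (Subgroup.mem_center_iff.1 hcC ⟨x, hx⟩)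
  have hzo : orderOf z = p := by
    rw [← hc1, ← Subgroup.orderOf_coe, ← hz]
    exact (orderOf_injective _ hinj z).symm
  have hzi : ¬ p ∣ (centralizer ({z} : Set S)).index := by
    -- the preimage of `P` lies in the centralizer
    have h1 : (P : Subgroup (MulAut S)).comap MulAut.conj ≤ centralizer ({z} : Set S) := by
      intro y hy
      rw [mem_centralizer_singleton_iff]
      apply hinj
      rw [map_mul, map_mul]
      exact hzc _ hy
    have h2 : ((P : Subgroup (MulAut S)).comap (MulAut.conj : S →* MulAut S)).index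
        = (P : Subgroup (MulAut S)).relIndex I := by
      rw [Subgroup.index_comap]
    intro h3
    exact hrel (h2 ▸ h3.trans (index_dvd_of_le h1))
  obtain ⟨g, hg⟩ := h z hzo hzi
  obtain ⟨t', ht'I, ht'2, ht'n⟩ := Cfsg.Agent.H467.OddNorm.of_real hp2 (N := I) P.isPGroup'
    (fun h3 => P.not_dvd_index (h3.trans (relIndex_dvd_index_of_le le_sup_right)))
    (z := MulAut.conj z) (by rw [hz]; exact c.2) hzc (by
      intro h3
      have h4 : z = 1 := hinj (h3.trans (map_one _).symm)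
      rw [h4, orderOf_one] at hzo
      exact hp.out.one_lt.ne hzo) (g := MulAut.conj g) (mem_sup_left ⟨_, rfl⟩) (by
      rw [← map_inv, ← map_mul, ← map_mul, hg, map_inv])
  obtain ⟨t, rfl⟩ := ht'I
  exact ⟨P, t, by rw [← ht'2]; exact (orderOf_injective _ hinj t).symm, ht'n⟩

/-- **T2**: a homomorphism to `ℤˣ` from a subgroup of `Aut S` of index prime to `p`, nontrivial on inner elements. -/
theorem Ev.of_hom [Finite S] [hp : Fact p.Prime] (hp2 : p ≠ 2) (hZ : center S = ⊥) {M : Subgroup (MulAut S)}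
    (hM : ¬ p ∣ M.index) (χ : ↥M →* ℤˣ) {s : S} (hs : MulAut.conj s ∈ M) (hχ : χ ⟨MulAut.conj s, hs⟩ ≠ 1) :
    Ev p S := by
  classical
  have hinj := conj_injective hZ
  obtain ⟨P0⟩ : Nonempty (Sylow p ↥M) := inferInstance
  set P : Subgroup (MulAut S) := (P0 : Subgroup ↥M).map M.subtype with hP
  have hPM : P ≤ M := by
    rintro _ ⟨x, -, rfl⟩
    exact x.2
  have hPp : IsPGroup p ↥P := P0.isPGroup'.map _
  have hPi : ¬ p ∣ P.index := by
    have h1 : P.relIndex M * M.index = P.index := relIndex_mul_index hPM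
    have h2 : P.relIndex M = (P0 : Subgroup ↥M).index := by
      rw [relIndex, hP, subgroupOf, comap_map_eq_self_of_injective (subtype_injective _)]
    rw [← h1, h2]
    intro h3
    rcases (hp.out.dvd_mul).1 h3 with h3 | h3
    · exact P0.not_dvd_index h3
    · exact hM h3
  obtain ⟨t', ht'I, ht'2, ht'n⟩ := of_hom_aux hp2 hPp hPi hPM χ (N := (MulAut.conj : S →* MulAut S).range)
    hs ⟨_, rfl⟩ hχ
  obtain ⟨t, rfl⟩ := ht'I
  exact Ev.of_sub hPp hPi (by rw [← ht'2]; exact (orderOf_injective _ hinj t).symm) ht'n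

/-! ### all automorphisms of `p`-power order are inner -/

/-- every automorphism of `p`-power order is inner -/
def InnP (p : ℕ) (S : Type u) [Group S] : Prop :=
  ∀ α : MulAut S, (∃ k : ℕ, α ^ p ^ k = 1) → ∃ s : S, α = MulAut.conj s

theorem Ev.of_inner [Finite S] [Fact p.Prime] (hout : InnP p S) (h : EvIn p S) (hZ : center S = ⊥) :
    Ev p S := by
  obtain ⟨P, t, ht, hn⟩ := h
  have hinj := conj_injective hZ
  set Q : Subgroup (MulAut S) := (P : Subgroup S).map (MulAut.conj : S →* MulAut S) with hQ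
  have hQp : IsPGroup p ↥Q := P.isPGroup'.map _
  obtain ⟨P', hP'⟩ := hQp.exists_le_sylow
  have heq : Q = (P' : Subgroup (MulAut S)) := by
    apply le_antisymm hP'
    intro x hx
    obtain ⟨k, hk⟩ := P'.isPGroup' ⟨x, hx⟩
    obtain ⟨s, hs⟩ := hout x ⟨k, by simpa only [_root_.SubmonoidClass.mk_pow, _root_.OneMemClass.coe_one] using congrArg Subtype.val hk⟩
    -- the preimage of `P'` is a `p`-group containing `P`
    have h1 : IsPGroup p ↥((P' : Subgroup (MulAut S)).comap (MulAut.conj : S →* MulAut S)) :=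
      P'.isPGroup'.comap_of_injective _ hinj
    have h2 : (P : Subgroup S) ≤ (P' : Subgroup (MulAut S)).comap (MulAut.conj : S →* MulAut S) :=
      fun y hy => hP' ⟨y, hy, rfl⟩
    have h3 := P.is_maximal' h1 h2
    refine ⟨s, ?_, hs.symm⟩
    have : s ∈ (P' : Subgroup (MulAut S)).comap (MulAut.conj : S →* MulAut S) := by
      rw [mem_comap, ← hs]; exact hx
    rw [h3] at this
    exact this
  refine ⟨P', t, ht, ?_⟩
  rw [← heq, mem_normalizer_iff]
  intro y
  constructor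
  · rintro ⟨x, hx, rfl⟩
    exact ⟨t * x * t⁻¹, (mem_normalizer_iff.1 hn x).1 hx, by simp only [_root_.map_mul, _root_.map_inv]⟩
  · rintro ⟨x, hx, hxy⟩
    refine ⟨t⁻¹ * x * t, (mem_normalizer_iff.1 hn _).2 (by
      have h0 : t * (t⁻¹ * x * t) * t⁻¹ = x := by group
      rw [h0]; exact hx), ?_⟩
    rw [map_mul, map_mul, map_inv, hxy]
    group

/-- one real element with centralizer of index prime to `p` -/
theorem EvIn.of_real [Finite S] [hp : Fact p.Prime] (hp2 : p ≠ 2) {z g : S} (hz : z ≠ 1)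
    (hzp : ∃ k : ℕ, z ^ p ^ k = 1) (hi : ¬ p ∣ (centralizer ({z} : Set S)).index) (hg : g * z * g⁻¹ = z⁻¹) :
    EvIn p S := by
  classical
  obtain ⟨P0⟩ : Nonempty (Sylow p ↥(centralizer ({z} : Set S))) := inferInstance
  set P : Subgroup S := (P0 : Subgroup ↥(centralizer ({z} : Set S))).map (centralizer ({z} : Set S)).subtype with hP
  have hPM : P ≤ centralizer ({z} : Set S) := by
    rintro _ ⟨x, -, rfl⟩
    exact x.2
  have hPp : IsPGroup p ↥P := P0.isPGroup'.map _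
  have hPi : ¬ p ∣ P.index := by
    have h1 : P.relIndex (centralizer ({z} : Set S)) * (centralizer ({z} : Set S)).index = P.index :=
      relIndex_mul_index hPM
    have h2 : P.relIndex (centralizer ({z} : Set S)) = (P0 : Subgroup ↥(centralizer ({z} : Set S))).index := by
      rw [relIndex, hP, subgroupOf, comap_map_eq_self_of_injective (subtype_injective _)]
    rw [← h1, h2]
    intro h3
    rcases (hp.out.dvd_mul).1 h3 with h3 | h3
    · exact P0.not_dvd_index h3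
    · exact hi h3
  -- `z ∈ P`
  have hzP : z ∈ P := by
    have hzC : z ∈ centralizer ({z} : Set S) := mem_centralizer_singleton_iff.2 rfl
    have hcen : (⟨z, hzC⟩ : ↥(centralizer ({z} : Set S))) ∈ center ↥(centralizer ({z} : Set S)) := by
      rw [Subgroup.mem_center_iff]
      intro y
      exact Subtype.ext (mem_centralizer_singleton_iff.1 y.2)
    obtain ⟨k, hk⟩ := hzp
    have hpz : IsPGroup p ↥(zpowers (⟨z, hzC⟩ : ↥(centralizer ({z} : Set S)))) := by
      rintro ⟨_, j, rfl⟩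
      refine ⟨k, ?_⟩
      apply Subtype.ext
      apply Subtype.ext
      simp only [SubmonoidClass.coe_pow, Subgroup.coe_zpow, OneMemClass.coe_one]
      rw [← zpow_natCast, ← zpow_mul, mul_comm, zpow_mul, zpow_natCast, hk, one_zpow]
    have _hn : (zpowers (⟨z, hzC⟩ : ↥(centralizer ({z} : Set S)))).Normal := by
      refine ⟨?_⟩
      rintro _ ⟨j, rfl⟩ y
      refine ⟨j, ?_⟩
      have h1 := Subgroup.mem_center_iff.1 (Subgroup.zpow_mem _ hcen j) y
      show _ = y * _ * y⁻¹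
      rw [h1]; group
    obtain ⟨P1, hP1⟩ := hpz.exists_le_sylow
    have h2 : (⟨z, hzC⟩ : ↥(centralizer ({z} : Set S))) ∈ (P0 : Subgroup _) := by
      obtain ⟨y, hy⟩ := MulAction.exists_smul_eq (↥(centralizer ({z} : Set S))) P1 P0
      rw [← hy, Sylow.smul_def, Sylow.pointwise_smul_def, Subgroup.mem_pointwise_smul_iff_inv_smul_mem]
      have h3 : (MulAut.conj y)⁻¹ • (⟨z, hzC⟩ : ↥(centralizer ({z} : Set S))) = ⟨z, hzC⟩ := by
        show (MulAut.conj y)⁻¹ _ = _
        rw [MulAut.conj_inv_apply, mul_assoc, ← Subgroup.mem_center_iff.1 hcen y]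
        group
      rw [h3]
      exact hP1 (mem_zpowers _)
    exact ⟨_, h2, rfl⟩
  obtain ⟨t, -, ht2, htn⟩ := Cfsg.Agent.H467.OddNorm.of_real hp2 (N := (⊤ : Subgroup S)) (P := P) hPp
    (fun h3 => hPi (h3.trans (relIndex_dvd_index_of_le le_sup_right))) hzP (fun x hx => by
      exact mem_centralizer_singleton_iff.1 (hPM hx)) hz (g := g) (mem_sup_left (mem_top _)) hg
  exact ⟨hPp.toSylow hPi, t, ht2, htn⟩

/-- from a subgroup of index prime to `p` -/
theorem EvIn.of_subgroup [Finite S] [hp : Fact p.Prime] {H : Subgroup S} (hi : ¬ p ∣ H.index) (h : EvIn p ↥H) :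
    EvIn p S := by
  obtain ⟨P, t, ht, hn⟩ := h
  have hPp : IsPGroup p ↥((P : Subgroup ↥H).map H.subtype) := P.isPGroup'.map _
  have hPi : ¬ p ∣ ((P : Subgroup ↥H).map H.subtype).index := by
    have hle : (P : Subgroup ↥H).map H.subtype ≤ H := by rintro _ ⟨x, -, rfl⟩; exact x.2
    have h1 : ((P : Subgroup ↥H).map H.subtype).relIndex H * H.index = _ := relIndex_mul_index hle
    rw [← h1, relIndex, subgroupOf, comap_map_eq_self_of_injective (subtype_injective _)]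
    intro h3
    rcases (hp.out.dvd_mul).1 h3 with h3 | h3
    · exact P.not_dvd_index h3
    · exact hi h3
  refine ⟨hPp.toSylow hPi, (t : S), by rw [← ht, Subgroup.orderOf_coe], ?_⟩
  show (t : S) ∈ normalizer (((P : Subgroup ↥H).map H.subtype : Subgroup S) : Set S)
  rw [mem_normalizer_iff]
  intro y
  constructor
  · rintro ⟨x, hx, rfl⟩
    exact ⟨t * x * t⁻¹, (mem_normalizer_iff.1 hn x).1 hx, by simp only [_root_.Subgroup.subtype_apply, _root_.Subgroup.coe_mul, _root_.InvMemClass.coe_inv]⟩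
  · rintro ⟨x, hx, hxy⟩
    refine ⟨t⁻¹ * x * t, (mem_normalizer_iff.1 hn _).2 (by
      have h0 : t * (t⁻¹ * x * t) * t⁻¹ = x := by group
      rw [h0]; exact hx), ?_⟩
    have h1 : (x : S) = (t : S) * y * (t : S)⁻¹ := hxy
    show ((t : S))⁻¹ * (x : S) * (t : S) = y
    rw [h1]; group

end Rows

end Cfsg.Agent.H467.OddNorm
end

-- part: H467/OddNormRow
section
prune_inst 0x4001000001100000000000000000000000000000000000000004000000000004000020000080000000000000020000000000000000200000000000000000400000000000010000000000000000000000000000000000000000000000000000000000000000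
set_option linter.all false
open scoped Cfsg.Agent.FastGrp

/-!
# The rows of S3855: `Row p S` and further criteria for `Ev p S` (helper467)

* `Ev.of_range` : a homomorphism `f : Γ → Aut S` with image of index prime to `p`, and `χ : Γ → ℤˣ`;
* `Ev.of_invariant` : subgroups `M₀ < M` of index 2, `M` containing the Sylow subgroup `X`, invariant under the
  automorphisms of `p`-power order which leave `X` invariant;
* `Row p S` : cyclic Sylow `p`-subgroups, or the exception `PSL₂(p^f)`, `p^f ≡ 3 (mod 4)`, or `Ev p S`.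
-/

set_option autoImplicit false

namespace Cfsg.Agent.H467.OddNorm

open Subgroup

universe u v

/-- Subgroups `K₀ < K` of index two with `P ≤ K₀` and `K ≤ N P`. -/
theorem of_index_two {G : Type u} [Group G] [Finite G] {p : ℕ} [hp : Fact p.Prime] (hp2 : p ≠ 2) {N : Subgroup G}
    [hN : N.Normal] {P : Subgroup G} (hP : IsPGroup p ↥P) (hidx : ¬ p ∣ P.relIndex (N ⊔ P)) {K K₀ : Subgroup G}
    (hPK₀ : P ≤ K₀) (hK₀ : K₀ ≤ K) (hKN : K ≤ N ⊔ P) (h2 : K₀.relIndex K = 2) :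
    ∃ t ∈ N, orderOf t = 2 ∧ t ∈ normalizer (P : Set G) := by
  classical
  have hPK : P ≤ K := hPK₀.trans hK₀
  have hidxK : ¬ p ∣ P.relIndex K := fun h => hidx (h.trans (by
    rw [← relIndex_mul_relIndex P K (N ⊔ P) hPK hKN]; exact Dvd.intro _ rfl))
  have hPK' : IsPGroup p ↥(P.subgroupOf K) := hP.comap_of_injective K.subtype K.subtype_injective
  let PS : Sylow p ↥K := hPK'.toSylow (by rwa [relIndex] at hidxK)
  have hPS : ∀ y : ↥K, y ∈ (PS : Subgroup ↥K) ↔ (y : G) ∈ P := by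
    intro y
    show y ∈ P.subgroupOf K ↔ _
    exact mem_subgroupOf
  have hi : (K₀.subgroupOf K).index = 2 := h2
  have hn : (K₀.subgroupOf K).Normal := normal_of_index_eq_two hi
  have hle : (PS : Subgroup ↥K) ≤ K₀.subgroupOf K := fun y hy => mem_subgroupOf.2 (hPK₀ ((hPS y).1 hy))
  have hfr : normalizer ((PS : Subgroup ↥K) : Set ↥K) ⊔ K₀.subgroupOf K = ⊤ := Sylow.normalizer_sup_eq_top' PS hle
  obtain ⟨m, hm⟩ : ∃ m : ↥K, m ∉ K₀.subgroupOf K := by
    by_contra hcon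
    push Not at hcon
    have : K₀.subgroupOf K = ⊤ := eq_top_iff.2 fun x _ => hcon x
    rw [this, index_top] at hi
    omega
  have hm1 : m ∈ normalizer ((PS : Subgroup ↥K) : Set ↥K) ⊔ K₀.subgroupOf K := by rw [hfr]; trivial
  obtain ⟨a, ha, b, hb, hab⟩ := Subgroup.mem_sup_of_normal_right.1 hm1
  have ha0 : a ∉ K₀.subgroupOf K := fun h => hm (hab ▸ mul_mem h hb)
  have heven : Even (orderOf (a : G)) := by
    rw [Subgroup.orderOf_coe]
    by_contra ho
    rw [Nat.not_even_iff_odd] at ho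
    obtain ⟨j, hj⟩ := ho
    apply ha0
    have h5 : (a ^ 2) ^ (j + 1) = a := by
      rw [← pow_mul]
      have : 2 * (j + 1) = orderOf a + 1 := by omega
      rw [this, pow_succ, pow_orderOf_eq_one, one_mul]
    rw [← h5]
    exact pow_mem (Subgroup.sq_mem_of_index_two hi a) _
  obtain ⟨k, hk2, hkN⟩ := exists_inv_mem hp.out hp2 hP (N := N) (n := (a : G)) (hKN a.2) heven
  refine ⟨_, hkN, hk2, ?_⟩
  apply pow_mem
  rw [mem_normalizer_iff]
  intro y
  have hn' := mem_normalizer_iff.1 ha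
  constructor
  · intro hyP
    have := (hn' ⟨y, hPK hyP⟩).1 ((hPS _).2 hyP)
    have := (hPS _).1 this
    simpa only [_root_.Subgroup.coe_mul, _root_.InvMemClass.coe_inv] using this
  · intro hyP
    have hyK : y ∈ K := by
      have h2 : (a : G) * y * (a : G)⁻¹ ∈ K := hPK hyP
      have h3 := mul_mem (mul_mem (inv_mem a.2) h2) a.2
      have h4 : (a : G)⁻¹ * ((a : G) * y * (a : G)⁻¹) * (a : G) = y := by group
      rwa [h4] at h3
    have := (hn' ⟨y, hyK⟩).2 ((hPS _).2 (by simpa only [_root_.Subgroup.coe_mul, _root_.InvMemClass.coe_inv] using hyP))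
    exact (hPS _).1 this

variable {S : Type u} [Group S] {p : ℕ}

theorem Ev.of_range [Finite S] [hp : Fact p.Prime] (hp2 : p ≠ 2) (hZ : center S = ⊥) {Γ : Type*} [Group Γ]
    (f : Γ →* MulAut S) (hi : ¬ p ∣ f.range.index) (χ : Γ →* ℤˣ) (hker : ∀ γ : Γ, f γ = 1 → χ γ = 1) {γ : Γ} {s : S}
    (hs : f γ = MulAut.conj s) (hχ : χ γ ≠ 1) : Ev p S := by
  let χ' : ↥f.range →* ℤˣ :=
    (QuotientGroup.lift f.ker χ (fun x hx => hker x ((MonoidHom.mem_ker).1 hx))).comp
      (QuotientGroup.quotientKerEquivRange f).symm.toMonoidHom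
  have h1 : ∀ x : Γ, χ' ⟨f x, ⟨x, rfl⟩⟩ = χ x := by
    intro x
    have h2 : (QuotientGroup.quotientKerEquivRange f).symm ⟨f x, ⟨x, rfl⟩⟩ = (x : Γ ⧸ f.ker) := by
      rw [MulEquiv.symm_apply_eq]
      rfl
    show (QuotientGroup.lift f.ker χ (fun x hx => hker x ((MonoidHom.mem_ker).1 hx)))
      ((QuotientGroup.quotientKerEquivRange f).symm ⟨f x, ⟨x, rfl⟩⟩) = χ x
    rw [h2]
    rfl
  refine Ev.of_hom hp2 hZ hi χ' (s := s) (hs ▸ ⟨γ, rfl⟩) ?_
  have h3 : (⟨MulAut.conj s, hs ▸ ⟨γ, rfl⟩⟩ : ↥f.range) = ⟨f γ, ⟨γ, rfl⟩⟩ := Subtype.ext hs.symm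
  rw [h3, h1]
  exact hχ

theorem Ev.of_invariant [Finite S] [hp : Fact p.Prime] (hp2 : p ≠ 2) (hZ : center S = ⊥) (X : Sylow p S)
    {M M₀ : Subgroup S} (hXM : (X : Subgroup S) ≤ M) (hM₀ : M₀ ≤ M) (h2 : M₀.relIndex M = 2)
    (h : ∀ α : MulAut S, (∃ k : ℕ, α ^ p ^ k = 1) → (∀ x ∈ (X : Subgroup S), α x ∈ (X : Subgroup S)) →
      (∀ m ∈ M, α m ∈ M) ∧ (∀ m ∈ M₀, α m ∈ M₀)) : Ev p S := by
  classical
  have hinj := conj_injective hZ
  set I : Subgroup (MulAut S) := (MulAut.conj : S →* MulAut S).range with hI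
  have hQp : IsPGroup p ↥((X : Subgroup S).map (MulAut.conj : S →* MulAut S)) := X.isPGroup'.map _
  obtain ⟨P, hP⟩ := hQp.exists_le_sylow
  -- `P ∩ Inn S` is `X`
  have hPX : ∀ s : S, MulAut.conj s ∈ (P : Subgroup (MulAut S)) → s ∈ (X : Subgroup S) := by
    intro s hs
    have h1 : IsPGroup p ↥((P : Subgroup (MulAut S)).comap (MulAut.conj : S →* MulAut S)) :=
      P.isPGroup'.comap_of_injective _ hinj
    have h3 : (X : Subgroup S) ≤ (P : Subgroup (MulAut S)).comap (MulAut.conj : S →* MulAut S) :=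
      fun y hy => hP ⟨y, hy, rfl⟩
    have h4 := X.is_maximal' h1 h3
    have h5 : s ∈ (P : Subgroup (MulAut S)).comap (MulAut.conj : S →* MulAut S) := hs
    rwa [h4] at h5
  have hinv : ∀ α ∈ (P : Subgroup (MulAut S)), (∀ m ∈ M, α m ∈ M) ∧ (∀ m ∈ M₀, α m ∈ M₀) := by
    intro α hα
    obtain ⟨k, hk⟩ := P.isPGroup' ⟨α, hα⟩
    refine h α ⟨k, by simpa only [_root_.SubmonoidClass.mk_pow, _root_.OneMemClass.coe_one] using congrArg Subtype.val hk⟩ (fun x hx => hPX _ ?_)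
    rw [← conj_conj]
    exact Subgroup.mul_mem _ (Subgroup.mul_mem _ hα (hP ⟨x, hx, rfl⟩)) (Subgroup.inv_mem _ hα)
  -- index two in `M`
  have h2' := relIndex_eq_two_iff.1 h2
  obtain ⟨m, hmM, hm⟩ := h2'
  have hodd : ∀ x : S, x ∈ M → (∃ k : ℕ, x ^ p ^ k = 1) → x ∈ M₀ := by
    intro x hx ⟨k, hk⟩
    have ho : Odd (p ^ k) := (hp.out.odd_of_ne_two hp2).pow
    obtain ⟨j, hj⟩ := ho
    have hsq : x ^ 2 ∈ M₀ := by
      have h0 : M₀.subgroupOf M = M₀.subgroupOf M := rfl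
      have h3 : (M₀.subgroupOf M).index = 2 := h2
      have h4 := Subgroup.sq_mem_of_index_two h3 ⟨x, hx⟩
      rw [mem_subgroupOf] at h4
      simpa using h4
    have h5 : (x ^ 2) ^ (j + 1) = x := by
      rw [← pow_mul]
      have : 2 * (j + 1) = p ^ k + 1 := by omega
      rw [this, pow_succ, hk, one_mul]
    rw [← h5]
    exact pow_mem hsq _
  have hXM₀ : (X : Subgroup S) ≤ M₀ := by
    intro x hx
    obtain ⟨k, hk⟩ := X.isPGroup' ⟨x, hx⟩
    exact hodd x (hXM hx) ⟨k, by simpa using congrArg Subtype.val hk⟩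
  -- the groups `K₀ < K`
  have mk : ∀ N : Subgroup S, (∀ α ∈ (P : Subgroup (MulAut S)), ∀ m ∈ N, α m ∈ N) →
      ∃ K : Subgroup (MulAut S), ∀ β : MulAut S, β ∈ K ↔ ∃ y ∈ N, ∃ π ∈ (P : Subgroup (MulAut S)),
        β = MulAut.conj y * π := by
    intro N hN
    refine ⟨{ carrier := {β | ∃ y ∈ N, ∃ π ∈ (P : Subgroup (MulAut S)), β = MulAut.conj y * π}
              one_mem' := ⟨1, one_mem _, 1, one_mem _, by simp⟩
              mul_mem' := ?_
              inv_mem' := ?_ }, fun β => Iff.rfl⟩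
    · rintro _ _ ⟨y, hy, π, hπ, rfl⟩ ⟨y', hy', π', hπ', rfl⟩
      refine ⟨y * π y', mul_mem hy (hN π hπ y' hy'), π * π', mul_mem hπ hπ', ?_⟩
      rw [map_mul, ← conj_conj π y']
      group
    · rintro _ ⟨y, hy, π, hπ, rfl⟩
      refine ⟨π⁻¹ y⁻¹, hN _ (inv_mem hπ) _ (inv_mem hy), π⁻¹, inv_mem hπ, ?_⟩
      rw [← conj_conj π⁻¹ y⁻¹, map_inv]
      group
  obtain ⟨K, hK⟩ := mk M (fun α hα => (hinv α hα).1)
  obtain ⟨K₀, hK₀⟩ := mk M₀ (fun α hα => (hinv α hα).2)
  have hPK : (P : Subgroup (MulAut S)) ≤ K := fun π hπ => (hK π).2 ⟨1, one_mem _, π, hπ, by simp⟩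
  have hPK₀ : (P : Subgroup (MulAut S)) ≤ K₀ := fun π hπ => (hK₀ π).2 ⟨1, one_mem _, π, hπ, by simp⟩
  have hmem₀ : ∀ y : S, MulAut.conj y ∈ K₀ → y ∈ M₀ := by
    intro y hy
    obtain ⟨y', hy', π, hπ, he⟩ := (hK₀ _).1 hy
    have h3 : π = MulAut.conj (y'⁻¹ * y) := by
      rw [map_mul, map_inv, he]
      group
    have h4 := hXM₀ (hPX _ (h3 ▸ hπ))
    have := mul_mem hy' h4
    simpa [mul_assoc] using this
  have hK2 : K₀.relIndex K = 2 := by
    rw [relIndex_eq_two_iff]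
    refine ⟨MulAut.conj m, (hK _).2 ⟨m, hmM, 1, one_mem _, by simp⟩, ?_⟩
    intro b hb
    obtain ⟨y, hy, π, hπ, rfl⟩ := (hK _).1 hb
    -- `b m = y π(m) π`
    have h3 : MulAut.conj y * π * MulAut.conj m = MulAut.conj (y * π m) * π := by
      rw [map_mul, ← conj_conj π m]; group
    have h4 : MulAut.conj y * π * MulAut.conj m ∈ K₀ ↔ y * π m ∈ M₀ := by
      rw [h3]
      constructor
      · intro h5
        apply hmem₀
        have := mul_mem h5 (inv_mem (hPK₀ hπ))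
        simpa [mul_assoc] using this
      · intro h5
        exact (hK₀ _).2 ⟨_, h5, π, hπ, rfl⟩
    have h5 : MulAut.conj y * π ∈ K₀ ↔ y ∈ M₀ := by
      constructor
      · intro h6
        apply hmem₀
        have := mul_mem h6 (inv_mem (hPK₀ hπ))
        simpa [mul_assoc] using this
      · intro h6
        exact (hK₀ _).2 ⟨_, h6, π, hπ, rfl⟩
    rw [h4, h5]
    -- `π m ∉ M₀`
    have hπm : π m ∈ M := (hinv π hπ).1 m hmM
    have hm0 : m ∉ M₀ := by
      have := hm 1 (one_mem _)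
      rw [one_mul] at this
      rcases this with h6 | h6
      · exact absurd (one_mem M₀) h6.2
      · exact h6.2
    have hπm0 : π m ∉ M₀ := by
      intro h6
      apply hm0
      have := (hinv π⁻¹ (inv_mem hπ)).2 _ h6
      simpa using this
    have h6 := hm
    by_cases hy0 : y ∈ M₀
    · right
      exact ⟨hy0, fun h7 => hπm0 ((mul_mem_cancel_left hy0).1 h7)⟩
    · left
      refine ⟨?_, hy0⟩
      have h7 : (M₀.subgroupOf M).index = 2 := h2
      have h8 := (Subgroup.mul_mem_iff_of_index_two h7 (a := ⟨y, hy⟩) (b := ⟨π m, hπm⟩)).2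
        (by rw [mem_subgroupOf, mem_subgroupOf]; exact iff_of_false hy0 hπm0)
      rw [mem_subgroupOf] at h8
      exact h8
  have hK₀K : K₀ ≤ K := by
    intro β hβ
    obtain ⟨y, hy, π, hπ, rfl⟩ := (hK₀ β).1 hβ
    exact (hK _).2 ⟨y, hM₀ hy, π, hπ, rfl⟩
  have hKN : K ≤ I ⊔ (P : Subgroup (MulAut S)) := by
    intro β hβ
    obtain ⟨y, -, π, hπ, rfl⟩ := (hK β).1 hβ
    exact mul_mem (mem_sup_left ⟨y, rfl⟩) (mem_sup_right hπ)
  obtain ⟨t', ht'I, ht'2, ht'n⟩ := of_index_two hp2 (N := I) P.isPGroup'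
    (fun h3 => P.not_dvd_index (h3.trans (relIndex_dvd_index_of_le le_sup_right))) hPK₀ hK₀K hKN hK2
  obtain ⟨t, rfl⟩ := ht'I
  exact ⟨P, t, by rw [← ht'2]; exact (orderOf_injective _ hinj t).symm, ht'n⟩

/-- **Sections**: `W ≤ V` subgroups of the Sylow subgroup `X`, invariant under the automorphisms of `p`-power order which
leave `X` invariant; `t` normalises `W` and inverts `V / W ≠ 1`. -/
theorem Ev.of_section [Finite S] [hp : Fact p.Prime] (hp2 : p ≠ 2) (hZ : center S = ⊥) (X : Sylow p S)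
    {V W : Subgroup S} (hVX : V ≤ (X : Subgroup S)) (hVW : ¬ V ≤ W)
    (hV : ∀ α : MulAut S, (∃ k : ℕ, α ^ p ^ k = 1) → (∀ x ∈ (X : Subgroup S), α x ∈ (X : Subgroup S)) →
      ∀ v ∈ V, α v ∈ V)
    (hW : ∀ α : MulAut S, (∃ k : ℕ, α ^ p ^ k = 1) → (∀ x ∈ (X : Subgroup S), α x ∈ (X : Subgroup S)) →
      ∀ w ∈ W, α w ∈ W)
    {t : S} (htW : ∀ w ∈ W, t * w * t⁻¹ ∈ W) (htV : ∀ v ∈ V, t * v * t⁻¹ ∈ V) (ht : ∀ v ∈ V, t * v * t⁻¹ * v ∈ W) :
    Ev p S := by
  classical
  -- the action of `X`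
  have hconjp : ∀ x ∈ (X : Subgroup S), ∃ k : ℕ, (MulAut.conj x : MulAut S) ^ p ^ k = 1 := by
    intro x hx
    obtain ⟨k, hk⟩ := X.isPGroup' ⟨x, hx⟩
    refine ⟨k, ?_⟩
    have hxk : x ^ p ^ k = 1 := by simpa only [_root_.SubmonoidClass.mk_pow, _root_.OneMemClass.coe_one] using congrArg Subtype.val hk
    rw [← map_pow, hxk, map_one]
  have hXV : ∀ x ∈ (X : Subgroup S), ∀ v ∈ V, x * v * x⁻¹ ∈ V := fun x hx v hv =>
    hV (MulAut.conj x) (hconjp x hx) (fun y hy => mul_mem (mul_mem hx hy) (inv_mem hx)) v hv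
  have hXW : ∀ x ∈ (X : Subgroup S), ∀ w ∈ W, x * w * x⁻¹ ∈ W := fun x hx v hv =>
    hW (MulAut.conj x) (hconjp x hx) (fun y hy => mul_mem (mul_mem hx hy) (inv_mem hx)) v hv
  -- inverses
  have hinvf : ∀ (A : Subgroup S) (s : S), (∀ a ∈ A, s * a * s⁻¹ ∈ A) → ∀ a ∈ A, s⁻¹ * a * s ∈ A := by
    intro A s hs a ha
    have hf : ∀ n : ℕ, s ^ n * a * (s ^ n)⁻¹ ∈ A := by
      intro n
      induction n with
      | zero => simpa using ha
      | succ n ih =>
        rw [pow_succ']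
        have := hs _ ih
        have e : s * (s ^ n * a * (s ^ n)⁻¹) * s⁻¹ = s * s ^ n * a * (s * s ^ n)⁻¹ := by group
        rwa [e] at this
    have h1 := hf (orderOf s - 1)
    have h2 : s ^ (orderOf s - 1) = s⁻¹ := by
      rw [eq_inv_iff_mul_eq_one, ← pow_succ, Nat.sub_add_cancel (orderOf_pos s), pow_orderOf_eq_one]
    rw [h2, inv_inv] at h1
    exact h1
  -- `C`
  let C : Subgroup S :=
    { carrier := {s | (∀ v ∈ V, s * v * s⁻¹ ∈ V) ∧ (∀ w ∈ W, s * w * s⁻¹ ∈ W) ∧ ∀ v ∈ V, s * v * s⁻¹ * v⁻¹ ∈ W}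
      one_mem' := ⟨fun v hv => by simpa using hv, fun w hw => by simpa using hw, fun v _ => by simp⟩
      mul_mem' := by
        rintro a b ⟨ha1, ha2, ha3⟩ ⟨hb1, hb2, hb3⟩
        refine ⟨fun v hv => ?_, fun w hw => ?_, fun v hv => ?_⟩
        · have := ha1 _ (hb1 v hv)
          have e : a * (b * v * b⁻¹) * a⁻¹ = a * b * v * (a * b)⁻¹ := by group
          rwa [e] at this
        · have := ha2 _ (hb2 w hw)
          have e : a * (b * w * b⁻¹) * a⁻¹ = a * b * w * (a * b)⁻¹ := by group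
          rwa [e] at this
        · have := mul_mem (ha2 _ (hb3 v hv)) (ha3 v hv)
          have e : a * (b * v * b⁻¹ * v⁻¹) * a⁻¹ * (a * v * a⁻¹ * v⁻¹) = a * b * v * (a * b)⁻¹ * v⁻¹ := by group
          rwa [e] at this
      inv_mem' := by
        rintro a ⟨ha1, ha2, ha3⟩
        have h1 := hinvf V a ha1
        have h2 := hinvf W a ha2
        refine ⟨fun v hv => ?_, fun w hw => ?_, fun v hv => ?_⟩
        · simpa using h1 v hv
        · simpa using h2 w hw
        · have h3 := h2 _ (inv_mem (ha3 v hv))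
          have e : a⁻¹ * (a * v * a⁻¹ * v⁻¹)⁻¹ * a = a⁻¹ * v * a⁻¹⁻¹ * v⁻¹ := by group
          rwa [e] at h3 }
  have hCmem : ∀ s, s ∈ C ↔ ((∀ v ∈ V, s * v * s⁻¹ ∈ V) ∧ (∀ w ∈ W, s * w * s⁻¹ ∈ W) ∧
      ∀ v ∈ V, s * v * s⁻¹ * v⁻¹ ∈ W) := fun s => Iff.rfl
  -- `V / W` is commutative
  have hab : ∀ a ∈ V, ∀ b ∈ V, a * b * a⁻¹ * b⁻¹ ∈ W := by
    intro a ha b hb
    -- `t (a b) t⁻¹ (a b) ∈ W`
    have h1 := ht _ (mul_mem ha hb)
    have h2 := ht a ha
    have h3 := ht b hb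
    -- `t b t⁻¹ = w₃ b⁻¹`, `t a t⁻¹ = w₂ a⁻¹`
    have h4 : a⁻¹ * (t * b * t⁻¹ * b) * a⁻¹⁻¹ ∈ W := hXW _ (inv_mem (hVX ha)) _ h3
    have h5 : (a⁻¹ * (t * b * t⁻¹ * b) * a⁻¹⁻¹)⁻¹ * ((t * a * t⁻¹ * a)⁻¹ * (t * (a * b) * t⁻¹ * (a * b)))
        ∈ W := mul_mem (inv_mem h4) (mul_mem (inv_mem h2) h1)
    have e : (a⁻¹ * (t * b * t⁻¹ * b) * a⁻¹⁻¹)⁻¹ * ((t * a * t⁻¹ * a)⁻¹ * (t * (a * b) * t⁻¹ * (a * b)))
        = a⁻¹ * b⁻¹ * a * b := by group
    rw [e] at h5
    have h6 := hXW _ (hVX (mul_mem hb ha)) _ h5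
    have e2 : b * a * (a⁻¹ * b⁻¹ * a * b) * (b * a)⁻¹ = a * b * a⁻¹ * b⁻¹ := by group
    rwa [e2] at h6
  -- `t² ∈ C`, `t C t⁻¹ = C`, `[t, X] ≤ C`
  have hXC : ∀ x ∈ (X : Subgroup S), ∀ c ∈ C, x * c * x⁻¹ ∈ C := by
    intro x hx c hc
    obtain ⟨hc1, hc2, hc3⟩ := (hCmem c).1 hc
    have hx' : x⁻¹ ∈ (X : Subgroup S) := inv_mem hx
    refine (hCmem _).2 ⟨fun v hv => ?_, fun w hw => ?_, fun v hv => ?_⟩
    · have := hXV x hx _ (hc1 _ (hXV _ hx' v hv))
      have e : x * (c * (x⁻¹ * v * x⁻¹⁻¹) * c⁻¹) * x⁻¹ = x * c * x⁻¹ * v * (x * c * x⁻¹)⁻¹ := by group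
      rwa [e] at this
    · have := hXW x hx _ (hc2 _ (hXW _ hx' w hw))
      have e : x * (c * (x⁻¹ * w * x⁻¹⁻¹) * c⁻¹) * x⁻¹ = x * c * x⁻¹ * w * (x * c * x⁻¹)⁻¹ := by group
      rwa [e] at this
    · have := hXW x hx _ (hc3 _ (hXV _ hx' v hv))
      have e : x * (c * (x⁻¹ * v * x⁻¹⁻¹) * c⁻¹ * (x⁻¹ * v * x⁻¹⁻¹)⁻¹) * x⁻¹
          = x * c * x⁻¹ * v * (x * c * x⁻¹)⁻¹ * v⁻¹ := by group
      rwa [e] at this
  have htV' := hinvf V t htV
  have htW' := hinvf W t htW
  -- an element acting as inversion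
  let Inv : S → Prop := fun s => (∀ v ∈ V, s * v * s⁻¹ ∈ V) ∧ (∀ w ∈ W, s * w * s⁻¹ ∈ W) ∧
    ∀ v ∈ V, s * v * s⁻¹ * v ∈ W
  have hWn : ∀ v ∈ V, ∀ w ∈ W, v * w * v⁻¹ ∈ W := fun v hv => hXW v (hVX hv)
  have hInvt : Inv t := ⟨htV, htW, ht⟩
  -- products of two inverting elements lie in `C`
  have hII : ∀ a b : S, Inv a → Inv b → a * b ∈ C := by
    rintro a b ⟨ha1, ha2, ha3⟩ ⟨hb1, hb2, hb3⟩
    refine (hCmem _).2 ⟨fun v hv => ?_, fun w hw => ?_, fun v hv => ?_⟩
    · have := ha1 _ (hb1 v hv)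
      have e : a * (b * v * b⁻¹) * a⁻¹ = a * b * v * (a * b)⁻¹ := by group
      rwa [e] at this
    · have := ha2 _ (hb2 w hw)
      have e : a * (b * w * b⁻¹) * a⁻¹ = a * b * w * (a * b)⁻¹ := by group
      rwa [e] at this
    · have h1 := mul_mem (ha2 _ (hb3 v hv)) (ha3 _ (inv_mem hv))
      have e : a * (b * v * b⁻¹ * v) * a⁻¹ * (a * v⁻¹ * a⁻¹ * v⁻¹) = a * b * v * (a * b)⁻¹ * v⁻¹ := by group
      rwa [e] at h1
  have hCI : ∀ a b : S, a ∈ C → Inv b → Inv (a * b) := by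
    rintro a b ha ⟨hb1, hb2, hb3⟩
    obtain ⟨ha1, ha2, ha3⟩ := (hCmem a).1 ha
    refine ⟨fun v hv => ?_, fun w hw => ?_, fun v hv => ?_⟩
    · have := ha1 _ (hb1 v hv)
      have e : a * (b * v * b⁻¹) * a⁻¹ = a * b * v * (a * b)⁻¹ := by group
      rwa [e] at this
    · have := ha2 _ (hb2 w hw)
      have e : a * (b * w * b⁻¹) * a⁻¹ = a * b * w * (a * b)⁻¹ := by group
      rwa [e] at this
    · have h1 := mul_mem (ha2 _ (hb3 v hv)) (ha3 _ (inv_mem hv))
      have e : a * (b * v * b⁻¹ * v) * a⁻¹ * (a * v⁻¹ * a⁻¹ * v⁻¹⁻¹) = a * b * v * (a * b)⁻¹ * v := by group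
      rwa [e] at h1
  have hIC : ∀ a b : S, Inv a → b ∈ C → Inv (a * b) := by
    rintro a b ⟨ha1, ha2, ha3⟩ hb
    obtain ⟨hb1, hb2, hb3⟩ := (hCmem b).1 hb
    refine ⟨fun v hv => ?_, fun w hw => ?_, fun v hv => ?_⟩
    · have := ha1 _ (hb1 v hv)
      have e : a * (b * v * b⁻¹) * a⁻¹ = a * b * v * (a * b)⁻¹ := by group
      rwa [e] at this
    · have := ha2 _ (hb2 w hw)
      have e : a * (b * w * b⁻¹) * a⁻¹ = a * b * w * (a * b)⁻¹ := by group
      rwa [e] at this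
    · have h1 := mul_mem (ha2 _ (hb3 v hv)) (ha3 v hv)
      have e : a * (b * v * b⁻¹ * v⁻¹) * a⁻¹ * (a * v * a⁻¹ * v) = a * b * v * (a * b)⁻¹ * v := by group
      rwa [e] at h1
  have hIinv : ∀ a : S, Inv a → Inv a⁻¹ := by
    rintro a ⟨ha1, ha2, ha3⟩
    have h1 := hinvf V a ha1
    have h2 := hinvf W a ha2
    refine ⟨fun v hv => by simpa using h1 v hv, fun w hw => by simpa using h2 w hw, fun v hv => ?_⟩
    have h3 := h2 _ (ha3 v hv)
    have e : a⁻¹ * (a * v * a⁻¹ * v) * a = v * (a⁻¹ * v * a⁻¹⁻¹) := by group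
    rw [e] at h3
    have h4 := hWn _ (inv_mem hv) _ h3
    have e2 : v⁻¹ * (v * (a⁻¹ * v * a⁻¹⁻¹)) * v⁻¹⁻¹ = a⁻¹ * v * a⁻¹⁻¹ * v := by group
    rwa [e2] at h4
  have hXI : ∀ x ∈ (X : Subgroup S), ∀ c, Inv c → Inv (x * c * x⁻¹) := by
    rintro x hx c ⟨hc1, hc2, hc3⟩
    have hx' : x⁻¹ ∈ (X : Subgroup S) := inv_mem hx
    refine ⟨fun v hv => ?_, fun w hw => ?_, fun v hv => ?_⟩
    · have := hXV x hx _ (hc1 _ (hXV _ hx' v hv))
      have e : x * (c * (x⁻¹ * v * x⁻¹⁻¹) * c⁻¹) * x⁻¹ = x * c * x⁻¹ * v * (x * c * x⁻¹)⁻¹ := by group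
      rwa [e] at this
    · have := hXW x hx _ (hc2 _ (hXW _ hx' w hw))
      have e : x * (c * (x⁻¹ * w * x⁻¹⁻¹) * c⁻¹) * x⁻¹ = x * c * x⁻¹ * w * (x * c * x⁻¹)⁻¹ := by group
      rwa [e] at this
    · have := hXW x hx _ (hc3 _ (hXV _ hx' v hv))
      have e : x * (c * (x⁻¹ * v * x⁻¹⁻¹) * c⁻¹ * (x⁻¹ * v * x⁻¹⁻¹)) * x⁻¹
          = x * c * x⁻¹ * v * (x * c * x⁻¹)⁻¹ * v := by group
      rwa [e] at this
  -- no `p`-element is inverting
  have hIX : ∀ x ∈ (X : Subgroup S), ¬ Inv x := by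
    intro x hx hI
    obtain ⟨k, hk⟩ := X.isPGroup' ⟨x, hx⟩
    have hxk : x ^ p ^ k = 1 := by simpa only [_root_.SubmonoidClass.mk_pow, _root_.OneMemClass.coe_one] using congrArg Subtype.val hk
    obtain ⟨j, hj⟩ : Odd (p ^ k) := (hp.out.odd_of_ne_two hp2).pow
    have hC2 : ∀ n : ℕ, Inv (x ^ (2 * n + 1)) := by
      intro n
      induction n with
      | zero => simpa using hI
      | succ n ih =>
        have h1 := hCI _ _ (hII _ _ hI hI) ih
        have e : x * x * x ^ (2 * n + 1) = x ^ (2 * (n + 1) + 1) := by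
          rw [← pow_two, ← pow_add]; congr 1; ring
        rwa [e] at h1
    have h1 := hC2 j
    rw [← hj, hxk] at h1
    apply hVW
    intro v hv
    have h2 : v * v ∈ W := by simpa using h1.2.2 v hv
    obtain ⟨l, hl⟩ := X.isPGroup' ⟨v, hVX hv⟩
    have hvl : v ^ p ^ l = 1 := by simpa only [_root_.SubmonoidClass.mk_pow, _root_.OneMemClass.coe_one] using congrArg Subtype.val hl
    obtain ⟨i, hi⟩ : Odd (p ^ l) := (hp.out.odd_of_ne_two hp2).pow
    have h3 : (v * v) ^ (i + 1) = v := by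
      rw [← pow_two, ← pow_mul]
      have : 2 * (i + 1) = p ^ l + 1 := by omega
      rw [this, pow_succ, hvl, one_mul]
    rw [← h3]
    exact pow_mem h2 _
  have hICx : ∀ a : S, Inv a → ¬ a ∈ C := by
    intro a ha hac
    have h1 : Inv (a⁻¹ * a) := hCI _ _ (inv_mem hac) ha
    rw [inv_mul_cancel] at h1
    exact hIX 1 (one_mem _) h1
  -- the groups `M₀`, `M`
  let M₀ : Subgroup S :=
    { carrier := {s | ∃ c ∈ C, ∃ x ∈ (X : Subgroup S), s = c * x}
      one_mem' := ⟨1, one_mem _, 1, one_mem _, by simp⟩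
      mul_mem' := by
        rintro _ _ ⟨c, hc, x, hx, rfl⟩ ⟨c', hc', x', hx', rfl⟩
        exact ⟨c * (x * c' * x⁻¹), mul_mem hc (hXC x hx c' hc'), x * x', mul_mem hx hx', by group⟩
      inv_mem' := by
        rintro _ ⟨c, hc, x, hx, rfl⟩
        exact ⟨x⁻¹ * c⁻¹ * x⁻¹⁻¹, hXC _ (inv_mem hx) _ (inv_mem hc), x⁻¹, inv_mem hx, by group⟩ }
  let M : Subgroup S :=
    { carrier := {s | ∃ c, (c ∈ C ∨ Inv c) ∧ ∃ x ∈ (X : Subgroup S), s = c * x}
      one_mem' := ⟨1, Or.inl (one_mem _), 1, one_mem _, by simp⟩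
      mul_mem' := by
        rintro _ _ ⟨c, hc, x, hx, rfl⟩ ⟨c', hc', x', hx', rfl⟩
        refine ⟨c * (x * c' * x⁻¹), ?_, x * x', mul_mem hx hx', by group⟩
        rcases hc with hc | hc <;> rcases hc' with hc' | hc'
        · exact Or.inl (mul_mem hc (hXC x hx c' hc'))
        · exact Or.inr (hCI _ _ hc (hXI x hx c' hc'))
        · exact Or.inr (hIC _ _ hc (hXC x hx c' hc'))
        · exact Or.inl (hII _ _ hc (hXI x hx c' hc'))
      inv_mem' := by
        rintro _ ⟨c, hc, x, hx, rfl⟩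
        refine ⟨x⁻¹ * c⁻¹ * x⁻¹⁻¹, ?_, x⁻¹, inv_mem hx, by group⟩
        rcases hc with hc | hc
        · exact Or.inl (hXC _ (inv_mem hx) _ (inv_mem hc))
        · exact Or.inr (hXI _ (inv_mem hx) _ (hIinv _ hc)) }
  have hM₀m : ∀ s, s ∈ M₀ ↔ ∃ c ∈ C, ∃ x ∈ (X : Subgroup S), s = c * x := fun _ => Iff.rfl
  have hMm : ∀ s, s ∈ M ↔ ∃ c, (c ∈ C ∨ Inv c) ∧ ∃ x ∈ (X : Subgroup S), s = c * x := fun _ => Iff.rfl
  have hIM₀ : ∀ a, Inv a → ¬ a ∈ M₀ := by
    intro a ha ham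
    obtain ⟨c, hc, x, hx, rfl⟩ := (hM₀m a).1 ham
    have h1 := hCI _ _ (inv_mem hc) ha
    rw [inv_mul_cancel_left] at h1
    exact hIX x hx h1
  have hXM₀ : ∀ x ∈ (X : Subgroup S), x ∈ M₀ := fun x hx => (hM₀m x).2 ⟨1, one_mem _, x, hx, by simp⟩
  have hCM₀ : ∀ c ∈ C, c ∈ M₀ := fun c hc => (hM₀m c).2 ⟨c, hc, 1, one_mem _, by simp⟩
  have hM₀M : M₀ ≤ M := by
    intro s hs
    obtain ⟨c, hc, x, hx, rfl⟩ := (hM₀m s).1 hs
    exact (hMm _).2 ⟨c, Or.inl hc, x, hx, rfl⟩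
  refine Ev.of_invariant hp2 hZ X (M := M) (M₀ := M₀) (fun x hx => hM₀M (hXM₀ x hx)) hM₀M ?_ ?_
  · rw [relIndex_eq_two_iff]
    refine ⟨t, (hMm t).2 ⟨t, Or.inr hInvt, 1, one_mem _, by simp⟩, fun b hb => ?_⟩
    obtain ⟨c, hc, x, hx, rfl⟩ := (hMm b).1 hb
    have e : c * x * t = c * (x * t * x⁻¹) * x := by group
    rcases hc with hc | hc
    · right
      refine ⟨(hM₀m _).2 ⟨c, hc, x, hx, rfl⟩, fun h1 => ?_⟩
      rw [e] at h1
      exact hIM₀ _ (hCI _ _ hc (hXI x hx t hInvt)) ((mul_mem_cancel_right (hXM₀ x hx)).1 h1)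
    · left
      refine ⟨?_, fun h1 => hIM₀ _ hc ((mul_mem_cancel_right (hXM₀ x hx)).1 h1)⟩
      rw [e]
      exact (hM₀m _).2 ⟨_, hII _ _ hc (hXI x hx t hInvt), x, hx, rfl⟩
  · intro α hα hαX
    -- `α⁻¹`
    have hinvα : ∀ A : Subgroup S, (∀ a ∈ A, α a ∈ A) → ∀ a ∈ A, α⁻¹ a ∈ A := by
      intro A hA a ha
      obtain ⟨k, hk⟩ := hα
      have hf : ∀ n : ℕ, (α ^ n) a ∈ A := by
        intro n
        induction n with
        | zero => simpa using ha
        | succ n ih => rw [pow_succ', MulAut.mul_apply]; exact hA _ ih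
      have h1 := hf (p ^ k - 1)
      have h2 : α ^ (p ^ k - 1) = α⁻¹ := by
        rw [eq_inv_iff_mul_eq_one, ← pow_succ, Nat.sub_add_cancel (Nat.pos_of_ne_zero (pow_ne_zero _ hp.out.ne_zero)), hk]
      rwa [h2] at h1
    have hV1 := hV α hα hαX
    have hV2 := hinvα V hV1
    have hW1 := hW α hα hαX
    have hW2 := hinvα W hW1
    have hαa : ∀ y : S, α (α⁻¹ y) = y := fun y => by simp
    have hc1 : ∀ (A : Subgroup S), (∀ a ∈ A, α a ∈ A) → (∀ a ∈ A, α⁻¹ a ∈ A) → ∀ s : S, (∀ a ∈ A, s * a * s⁻¹ ∈ A) →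
        ∀ a ∈ A, α s * a * (α s)⁻¹ ∈ A := by
      intro A h1 h2 s hs a ha
      have h3 := h1 _ (hs _ (h2 a ha))
      rwa [map_mul, map_mul, map_inv, hαa] at h3
    have hαC : ∀ c ∈ C, α c ∈ C := by
      intro c hc
      obtain ⟨h1, h2, h3⟩ := (hCmem c).1 hc
      refine (hCmem _).2 ⟨hc1 V hV1 hV2 c h1, hc1 W hW1 hW2 c h2, fun v hv => ?_⟩
      have h4 := hW1 _ (h3 _ (hV2 v hv))
      rwa [map_mul, map_mul, map_mul, map_inv, map_inv, hαa] at h4
    have hαI : ∀ c, Inv c → Inv (α c) := by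
      rintro c ⟨h1, h2, h3⟩
      refine ⟨hc1 V hV1 hV2 c h1, hc1 W hW1 hW2 c h2, fun v hv => ?_⟩
      have h4 := hW1 _ (h3 _ (hV2 v hv))
      rwa [map_mul, map_mul, map_mul, map_inv, hαa] at h4
    constructor
    · intro m hm
      obtain ⟨c, hc, x, hx, rfl⟩ := (hMm m).1 hm
      refine (hMm _).2 ⟨α c, ?_, α x, hαX x hx, map_mul _ _ _⟩
      rcases hc with hc | hc
      · exact Or.inl (hαC c hc)
      · exact Or.inr (hαI c hc)
    · intro m hm
      obtain ⟨c, hc, x, hx, rfl⟩ := (hM₀m m).1 hm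
      exact (hM₀m _).2 ⟨α c, hαC c hc, α x, hαX x hx, map_mul _ _ _⟩

/-- **The format of the rows.** -/
def Row (p : ℕ) (S : Type u) [Group S] : Prop :=
  (∀ Q : Sylow p S, IsCyclic ↥Q) ∨
  (∃ (F : Type) (_ : Field F) (_ : Fintype F), (∃ f : ℕ, Fintype.card F = p ^ f) ∧ Fintype.card F % 4 = 3 ∧
      Nonempty (S ≃* Matrix.ProjectiveSpecialLinearGroup (Fin 2) F)) ∨
  Ev p S

theorem Row.ev (h : Ev p S) : Row p S := Or.inr (Or.inr h)

theorem Row.cyclic (h : ∀ Q : Sylow p S, IsCyclic ↥Q) : Row p S := Or.inl h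

theorem Row.cyclic_of [Finite S] [Fact p.Prime] (P : Sylow p S) (h : IsCyclic ↥P) : Row p S := by
  refine Or.inl fun Q => ?_
  have e : ↥P ≃* ↥Q := P.equiv Q
  exact isCyclic_of_surjective e.toMonoidHom e.surjective

theorem Row.congr {T : Type v} [Group T] [Finite S] [Fact p.Prime] (e : S ≃* T) (h : Row p S) : Row p T := by
  rcases h with h | ⟨F, i1, i2, h1, h2, ⟨e'⟩⟩ | h
  · left
    intro Q
    have hf : Finite T := Finite.of_equiv S e.toEquiv
    have hp : IsPGroup p ↥((Q : Subgroup T).map e.symm.toMonoidHom) := Q.isPGroup'.map _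
    have hi : ¬ p ∣ ((Q : Subgroup T).map e.symm.toMonoidHom).index := by
      rw [Subgroup.index_map_of_bijective e.symm.bijective]
      exact Q.not_dvd_index
    have h1 := h (hp.toSylow hi)
    have h2 : ↥((Q : Subgroup T).map e.symm.toMonoidHom) ≃* ↥(Q : Subgroup T) :=
      ((Q : Subgroup T).equivMapOfInjective e.symm.toMonoidHom e.symm.injective).symm
    have h3 : IsCyclic ↥((Q : Subgroup T).map e.symm.toMonoidHom) := h1
    exact isCyclic_of_surjective h2.toMonoidHom h2.surjective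
  · right; left
    exact ⟨F, i1, i2, h1, h2, ⟨e.symm.trans e'⟩⟩
  · exact Row.ev (Ev.congr e h)

/-- if `p ^ 2` does not divide the order the Sylow subgroups are cyclic -/
theorem Row.of_sq_not_dvd [Finite S] [hp : Fact p.Prime] (h : ¬ p ^ 2 ∣ Nat.card S) : Row p S := by
  refine Or.inl fun Q => ?_
  obtain ⟨k, hk⟩ := IsPGroup.iff_card.1 Q.isPGroup'
  have hk1 : k ≤ 1 := by
    by_contra hk1
    push Not at hk1
    apply h
    exact (pow_dvd_pow p hk1).trans (hk ▸ Subgroup.card_subgroup_dvd_card _)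
  interval_cases k
  · rw [pow_zero] at hk
    have : Subsingleton ↥(Q : Subgroup S) := (Nat.card_eq_one_iff_unique.1 hk).1
    exact isCyclic_of_subsingleton
  · rw [pow_one] at hk
    exact isCyclic_of_prime_card hk

end Cfsg.Agent.H467.OddNorm
end
end
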