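import Cfsg.Agent.H467.MaxClassBlackburn
import Cfsg.Agent.PLocal.CyclicAbelianization
import Cfsg.Agent.Transfer.MaximalClass
import Cfsg.Agent.S0662
set_option linter.all false

/-!
# p-groups of maximal class: uniform elements (helper467)

* `exists_mc` : a group of order `p ^ n`, `4 ≤ n`, and class `n - 1` has a chain `MC P p n W` with
  `W i = γ_i(P)` for `2 ≤ i`.
* `exists_uniform` (all primes, `3 ≤ n`): two proper subgroups `C1`, `C2` (equal for `p = 2`) such
  that elements outside both have centralizer of order `p ^ 2`, whereas elements of `C1` or `C2`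
  centralize at least `p ^ 2` elements of every normal subgroup `N ≤ P'` of order at least `p ^ 3`.
-/

set_option autoImplicit false

namespace Cfsg.Agent.H467.MaxClass

open Subgroup
open scoped commutatorElement

universe u

variable {P : Type u} [Group P]

set_option linter.unusedSectionVars false

section Chain

variable [Finite P] {p n : ℕ} [hp : Fact p.Prime]

/-- `γ_{i+1}` -/
local notation "L" => Subgroup.lowerCentralSeries (⊤ : Subgroup P)

theorem lcs_succ (i : ℕ) : L (i + 1) = ⁅L i, (⊤ : Subgroup P)⁆ := rfl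

theorem lcs_normal (i : ℕ) : (L i).Normal := inferInstance

theorem index_lcs_one (hP : Nat.card P = p ^ n) (hc : Group.nilpotencyClass P = n - 1)
    (hn : 3 ≤ n) : p ^ 2 ∣ (L 1).index := by
  have hPG : IsPGroup p P := IsPGroup.of_card hP
  have hnil : Group.IsNilpotent P := hPG.isNilpotent
  have hne : L 1 ≠ ⊥ := by
    intro h
    rw [Subgroup.lowerCentralSeries_eq_bot_iff_nilpotencyClass_le] at h
    omega
  rw [Subgroup.top_lowerCentralSeries_one] at hne ⊢
  have hDcyc : ¬ IsCyclic (P ⧸ commutator P) := fun h =>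
    hne (Cfsg.Agent.PLocal.CyclicAbelianization.commutator_eq_bot_of_isCyclic_quotient hnil h)
  obtain ⟨k, hk⟩ := hPG.index (commutator P)
  rw [hk]
  apply pow_dvd_pow
  by_contra hlt
  apply hDcyc
  have hcard : Nat.card (P ⧸ commutator P) = p ^ k := hk
  have hk' : k = 0 ∨ k = 1 := by omega
  rcases hk' with rfl | rfl
  · rw [pow_zero] at hcard
    have := (Nat.card_eq_one_iff_unique.mp hcard).1
    infer_instance
  · rw [pow_one] at hcard
    exact isCyclic_of_prime_card hcard

theorem lcs_relIndex_dvd (hP : Nat.card P = p ^ n) (hc : Group.nilpotencyClass P = n - 1)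
    {i : ℕ} (hi : i < n - 1) : p ∣ (L (i + 1)).relIndex (L i) := by
  have hPG : IsPGroup p P := IsPGroup.of_card hP
  have hnil : Group.IsNilpotent P := hPG.isNilpotent
  have hle : L (i + 1) ≤ L i := Subgroup.lowerCentralSeries_antitone _ (Nat.le_succ i)
  have hne : (L (i + 1)).relIndex (L i) ≠ 1 := by
    intro h1
    have h2 : L i = L (i + 1) := le_antisymm (Subgroup.relIndex_eq_one.mp h1) hle
    have h3 : ∀ m, L (i + m) = L i := by
      intro m
      induction m with
      | zero => rfl
      | succ m ih => rw [← add_assoc, lcs_succ, ih, ← lcs_succ, ← h2]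
    have h4 : L (i + n) = ⊥ := by
      rw [Subgroup.lowerCentralSeries_eq_bot_iff_nilpotencyClass_le]; omega
    rw [h3, Subgroup.lowerCentralSeries_eq_bot_iff_nilpotencyClass_le] at h4
    omega
  have h5 : (L (i + 1)).relIndex (L i) ∣ p ^ n := by
    rw [← hP]
    exact (Subgroup.relIndex_dvd_card (L (i + 1)) (L i)).trans (Subgroup.card_subgroup_dvd_card _)
  obtain ⟨j, -, hj⟩ := (Nat.dvd_prime_pow hp.out).mp h5
  rw [hj] at hne ⊢
  apply dvd_pow_self
  rintro rfl
  exact hne (pow_zero p)

theorem lcs_index_dvd (hP : Nat.card P = p ^ n) (hc : Group.nilpotencyClass P = n - 1)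
    (hn : 3 ≤ n) {i : ℕ} (h1 : 1 ≤ i) (hi : i ≤ n - 1) : p ^ (i + 1) ∣ (L i).index := by
  induction i, h1 using Nat.le_induction with
  | base => exact index_lcs_one hP hc hn
  | succ i h1 ih =>
    have h2 := Subgroup.relIndex_mul_index
      (Subgroup.lowerCentralSeries_antitone (⊤ : Subgroup P) (Nat.le_succ i))
    rw [← h2, pow_succ, mul_comm]
    exact mul_dvd_mul (lcs_relIndex_dvd hP hc (by omega)) (ih (by omega))

theorem lcs_card_dvd (hP : Nat.card P = p ^ n) (hc : Group.nilpotencyClass P = n - 1) {j : ℕ}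
    (hj : j ≤ n - 1) : p ^ j ∣ Nat.card (L (n - 1 - j)) := by
  induction j with
  | zero => rw [pow_zero]; exact one_dvd _
  | succ j ih =>
    have h1 := lcs_relIndex_dvd hP hc (i := n - 1 - (j + 1)) (by omega)
    rw [show n - 1 - (j + 1) + 1 = n - 1 - j by omega] at h1
    have h3 := Subgroup.relIndex_mul_relIndex ⊥ (L (n - 1 - j)) (L (n - 1 - (j + 1))) bot_le
      (Subgroup.lowerCentralSeries_antitone _ (by omega))
    rw [Subgroup.relIndex_bot_left, Subgroup.relIndex_bot_left] at h3
    rw [← h3, pow_succ]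
    exact mul_dvd_mul (ih (by omega)) h1

theorem lcs_card (hP : Nat.card P = p ^ n) (hc : Group.nilpotencyClass P = n - 1)
    (hn : 3 ≤ n) {i : ℕ} (h1 : 1 ≤ i) (hi : i ≤ n - 1) :
    Nat.card (L i) = p ^ (n - 1 - i) ∧ (L i).index = p ^ (i + 1) := by
  have h2 := lcs_index_dvd hP hc hn h1 hi
  have h3 := lcs_card_dvd hP hc (j := n - 1 - i) (by omega)
  rw [show n - 1 - (n - 1 - i) = i by omega] at h3
  obtain ⟨a, ha⟩ := h3
  obtain ⟨b, hb⟩ := h2
  have h4 := (L i).card_mul_index
  have hsplit : p ^ n = p ^ (n - 1 - i) * p ^ (i + 1) := by rw [← pow_add]; congr 1; omega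
  rw [ha, hb, hP, hsplit] at h4
  have hpos1 : 0 < p ^ (n - 1 - i) := pow_pos hp.out.pos _
  have hpos2 : 0 < p ^ (i + 1) := pow_pos hp.out.pos _
  have h5 : a * b = 1 := by
    have h6 : (p ^ (n - 1 - i) * p ^ (i + 1)) * (a * b) = (p ^ (n - 1 - i) * p ^ (i + 1)) * 1 := by
      rw [mul_one]
      calc (p ^ (n - 1 - i) * p ^ (i + 1)) * (a * b) =
            p ^ (n - 1 - i) * a * (p ^ (i + 1) * b) := by ring
        _ = _ := h4
    exact Nat.eq_of_mul_eq_mul_left (Nat.mul_pos hpos1 hpos2) h6
  have ha1 : a = 1 := Nat.eq_one_of_mul_eq_one_right h5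
  have hb1 : b = 1 := Nat.eq_one_of_mul_eq_one_left h5
  rw [ha, hb, ha1, hb1, mul_one, mul_one]
  exact ⟨rfl, rfl⟩

theorem lcs_relIndex (hP : Nat.card P = p ^ n) (hc : Group.nilpotencyClass P = n - 1)
    (hn : 3 ≤ n) {i : ℕ} (h1 : 1 ≤ i) (hi : i < n - 1) : (L (i + 1)).relIndex (L i) = p := by
  have h2 := Subgroup.relIndex_mul_index
      (Subgroup.lowerCentralSeries_antitone (⊤ : Subgroup P) (Nat.le_succ i))
  rw [Nat.succ_eq_add_one, (lcs_card hP hc hn (i := i + 1) (by omega) (by omega)).2,
    (lcs_card hP hc hn h1 (by omega)).2, pow_succ p (i + 1), mul_comm (p ^ (i + 1))] at h2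
  exact Nat.eq_of_mul_eq_mul_right (pow_pos hp.out.pos _) h2

/-- the two-step centralizer of `γ_2 / γ_4` -/
def twoStep (P : Type u) [Group P] : Subgroup P where
  carrier := {x | ∀ w ∈ (⊤ : Subgroup P).lowerCentralSeries 1,
    ⁅w, x⁆ ∈ (⊤ : Subgroup P).lowerCentralSeries 3}
  one_mem' := by intro w _; simp
  mul_mem' := by
    intro x y hx hy w hw
    have e : ⁅w, x * y⁆ = ⁅w, x⁆ * (x * ⁅w, y⁆ * x⁻¹) := by
      simp only [commutatorElement_def]; group
    rw [e]
    have hn : ((⊤ : Subgroup P).lowerCentralSeries 3).Normal := inferInstance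
    exact mul_mem (hx w hw) (hn.conj_mem _ (hy w hw) x)
  inv_mem' := by
    intro x hx w hw
    have e : ⁅w, x⁻¹⁆ = x⁻¹ * ⁅w, x⁆⁻¹ * x⁻¹⁻¹ := by
      simp only [commutatorElement_def]; group
    rw [e]
    have hn : ((⊤ : Subgroup P).lowerCentralSeries 3).Normal := inferInstance
    exact hn.conj_mem _ (inv_mem (hx w hw)) _

theorem mem_twoStep {x : P} : x ∈ twoStep P ↔ ∀ w ∈ (⊤ : Subgroup P).lowerCentralSeries 1,
    ⁅w, x⁆ ∈ (⊤ : Subgroup P).lowerCentralSeries 3 := Iff.rfl

theorem lcs_le_twoStep : L 1 ≤ twoStep P := by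
  have h1 : ⁅(L 1), (L 1)⁆ ≤ L 3 := by
    have h2 : ⁅⁅(⊤ : Subgroup P), (⊤ : Subgroup P)⁆, L 1⁆ ≤ L 3 := by
      have h3 : ⁅⁅(⊤ : Subgroup P), L 1⁆, (⊤ : Subgroup P)⁆ ≤ L 3 := by
        rw [commutator_comm (⊤ : Subgroup P) (L 1)]
        exact le_rfl
      have h4 : ⁅⁅L 1, (⊤ : Subgroup P)⁆, (⊤ : Subgroup P)⁆ ≤ L 3 := le_rfl
      exact three_le (lcs_normal 3) h3 h4
    exact h2
  intro x hx w hw
  exact h1 (commutator_mem_commutator hw hx)

theorem twoStep_index (hP : Nat.card P = p ^ n) (hc : Group.nilpotencyClass P = n - 1)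
    (hn : 4 ≤ n) : (twoStep P).index = p := by
  have hn3 := lcs_normal (P := P) 3
  -- a generator of `L 1` modulo `L 2`
  have hr1 := lcs_relIndex hP hc (by omega) (i := 1) le_rfl (by omega)
  have hr2 := lcs_relIndex hP hc (by omega) (i := 2) (by omega) (by omega)
  obtain ⟨y, hy, hy'⟩ : ∃ y ∈ L 1, y ∉ L 2 := by
    by_contra hcon
    push Not at hcon
    have : L 1 ≤ L 2 := hcon
    rw [Subgroup.relIndex_eq_one.mpr this] at hr1
    exact hp.out.one_lt.ne hr1
  have hcm : ∀ i, ∀ a ∈ L i, ∀ x, ⁅a, x⁆ ∈ L (i + 1) := fun i a ha x =>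
    commutator_mem_commutator ha (mem_top x)
  -- one element suffices
  have hone : ∀ x : P, ⁅y, x⁆ ∈ L 3 → x ∈ twoStep P := by
    intro x hx w hw
    have hcard : Nat.card (L 1 ⧸ (L 2).subgroupOf (L 1)) = p := hr1
    have hqa : (QuotientGroup.mk' ((L 2).subgroupOf (L 1))) ⟨y, hy⟩ ≠ 1 := by
      intro hh
      rw [QuotientGroup.mk'_apply, QuotientGroup.eq_one_iff, mem_subgroupOf] at hh
      exact hy' hh
    obtain ⟨k, hk⟩ := Subgroup.mem_zpowers_iff.mp
      (mem_zpowers_of_prime_card (p := p) hcard hqa
        (g' := (QuotientGroup.mk' ((L 2).subgroupOf (L 1))) ⟨w, hw⟩))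
    have h3 : (QuotientGroup.mk' ((L 2).subgroupOf (L 1)))
        (((⟨y, hy⟩ : L 1) ^ k)⁻¹ * ⟨w, hw⟩) = 1 := by
      rw [map_mul, map_inv, map_zpow, hk, inv_mul_cancel]
    rw [QuotientGroup.mk'_apply, QuotientGroup.eq_one_iff, mem_subgroupOf] at h3
    rw [Subgroup.coe_mul, Subgroup.coe_inv, Subgroup.coe_zpow] at h3
    have h4 : (y ^ k)⁻¹ * w ∈ L 2 := h3
    have hmul : ∀ u v : P, ⁅u, x⁆ ∈ L 3 → ⁅v, x⁆ ∈ L 3 → ⁅u * v, x⁆ ∈ L 3 := by
      intro u v hu hv
      have e : ⁅u * v, x⁆ = (u * ⁅v, x⁆ * u⁻¹) * ⁅u, x⁆ := by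
        simp only [commutatorElement_def]; group
      rw [e]
      exact mul_mem (hn3.conj_mem _ hv u) hu
    have hinv : ∀ u : P, ⁅u, x⁆ ∈ L 3 → ⁅u⁻¹, x⁆ ∈ L 3 := by
      intro u hu
      have e : ⁅u⁻¹, x⁆ = u⁻¹ * ⁅u, x⁆⁻¹ * u⁻¹⁻¹ := by
        simp only [commutatorElement_def]; group
      rw [e]
      exact hn3.conj_mem _ (inv_mem hu) _
    have hnat : ∀ m : ℕ, ⁅y ^ m, x⁆ ∈ L 3 := by
      intro m
      induction m with
      | zero => simp
      | succ m ih => rw [pow_succ]; exact hmul _ _ ih hx
    have hz : ⁅y ^ k, x⁆ ∈ L 3 := by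
      obtain ⟨m, rfl | rfl⟩ := k.eq_nat_or_neg
      · rw [zpow_natCast]; exact hnat m
      · rw [zpow_neg, zpow_natCast]; exact hinv _ (hnat m)
    have h5 : w = y ^ k * ((y ^ k)⁻¹ * w) := by group
    rw [h5]
    exact hmul _ _ hz (hcm 2 _ h4 x)
  -- the homomorphism
  let φ : P →* P ⧸ L 3 :=
    { toFun := fun x => QuotientGroup.mk' (L 3) ⁅y, x⁆
      map_one' := by rw [commutatorElement_one_right, map_one]
      map_mul' := by
        intro a b
        have e : ⁅y, a * b⁆ = ⁅y, a⁆ * (⁅a, ⁅y, b⁆⁆ * ⁅y, b⁆) := by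
          simp only [commutatorElement_def]; group
        rw [e, map_mul, map_mul]
        have h1 : ⁅a, ⁅y, b⁆⁆ ∈ L 3 := by
          rw [← commutatorElement_inv]
          exact inv_mem (hcm 2 _ (hcm 1 y hy b) a)
        rw [(QuotientGroup.eq_one_iff _).mpr h1 |> (fun h => (h : QuotientGroup.mk' (L 3) ⁅a, ⁅y, b⁆⁆ = 1)),
          one_mul] }
  have hφ : ∀ x, φ x = QuotientGroup.mk' (L 3) ⁅y, x⁆ := fun x => rfl
  have hker : φ.ker = twoStep P := by
    ext x
    rw [MonoidHom.mem_ker, hφ, QuotientGroup.mk'_apply, QuotientGroup.eq_one_iff]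
    exact ⟨hone x, fun h => h y hy⟩
  rw [← hker, Subgroup.index_ker]
  -- the range has order `p`
  have h1 : φ.range ≤ (L 2).map (QuotientGroup.mk' (L 3)) := by
    rintro _ ⟨x, rfl⟩
    exact ⟨⁅y, x⁆, hcm 1 y hy x, rfl⟩
  have h2 : Nat.card ((L 2).map (QuotientGroup.mk' (L 3))) = p := by
    have h3 := Subgroup.relIndex_map_map (QuotientGroup.mk' (L 3)) (L 3) (L 2)
    rw [QuotientGroup.ker_mk', sup_idem, sup_eq_left.mpr
      (Subgroup.lowerCentralSeries_antitone _ (by omega : 2 ≤ 3)), hr2] at h3
    have h4 : (L 3).map (QuotientGroup.mk' (L 3)) = ⊥ := by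
      rw [Subgroup.map_eq_bot_iff, QuotientGroup.ker_mk']
    rw [h4, Subgroup.relIndex_bot_left] at h3
    exact h3
  have h3 : Nat.card φ.range ∣ p := by rw [← h2]; exact Subgroup.card_dvd_of_le h1
  rcases (Nat.dvd_prime hp.out).mp h3 with h4 | h4
  · exfalso
    have h5 : twoStep P = ⊤ := by
      rw [← hker, ← Subgroup.index_eq_one, Subgroup.index_ker]
      exact h4
    have h6 : L 2 ≤ L 3 := by
      rw [lcs_succ 1, commutator_le]
      intro w hw x _
      have : x ∈ twoStep P := by rw [h5]; trivial
      exact this w hw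
    rw [Subgroup.relIndex_eq_one.mpr h6] at hr2
    exact hp.out.one_lt.ne hr2
  · exact h4

/-- the chain -/
def chain (P : Type u) [Group P] (i : ℕ) : Subgroup P :=
  if i = 0 then ⊤ else if i = 1 then twoStep P else (⊤ : Subgroup P).lowerCentralSeries (i - 1)

theorem chain_zero : chain P 0 = ⊤ := rfl
theorem chain_one : chain P 1 = twoStep P := rfl
theorem chain_of_two_le {i : ℕ} (hi : 2 ≤ i) :
    chain P i = (⊤ : Subgroup P).lowerCentralSeries (i - 1) := by
  rw [chain, if_neg (by omega), if_neg (by omega)]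

/-- A group of order `p ^ n`, `4 ≤ n`, and class `n - 1`: the chain. -/
theorem chain_mc (hP : Nat.card P = p ^ n) (hc : Group.nilpotencyClass P = n - 1)
    (hn : 4 ≤ n) : MC P p n (chain P) := by
  have hPG : IsPGroup p P := IsPGroup.of_card hP
  have hnil : Group.IsNilpotent P := hPG.isNilpotent
  refine ⟨hn, chain_zero, ?_, ?_, ?_, ?_, ?_, ?_⟩
  · rw [chain_of_two_le le_rfl]; rfl
  · intro i hi
    rw [chain_of_two_le hi, chain_of_two_le (by omega), show i + 1 - 1 = i - 1 + 1 by omega]
    rfl
  · rw [chain_of_two_le (by omega), Subgroup.lowerCentralSeries_eq_bot_iff_nilpotencyClass_le]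
    omega
  · intro i
    match i with
    | 0 => rw [chain_zero]; exact le_top
    | 1 => rw [chain_one, chain_of_two_le (by omega)]; exact lcs_le_twoStep
    | (j + 2) =>
      rw [chain_of_two_le (by omega), chain_of_two_le (by omega)]
      exact Subgroup.lowerCentralSeries_antitone _ (by omega)
  · intro i hi
    match i with
    | 0 =>
      rw [chain_zero, chain_one, Subgroup.relIndex_top_right]
      exact twoStep_index hP hc hn
    | 1 =>
      rw [chain_one, chain_of_two_le (by omega)]
      have h1 := Subgroup.relIndex_mul_index (lcs_le_twoStep (P := P))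
      rw [twoStep_index hP hc hn, (lcs_card hP hc (by omega) (i := 1) le_rfl (by omega)).2,
        pow_succ, pow_one] at h1
      exact Nat.eq_of_mul_eq_mul_right hp.out.pos h1
    | (j + 2) =>
      rw [chain_of_two_le (by omega), chain_of_two_le (by omega)]
      exact lcs_relIndex hP hc (by omega) (i := j + 1) (by omega) (by omega)
  · rw [chain_one, chain_of_two_le (by omega), chain_of_two_le (by omega), commutator_le]
    intro w hw x hx
    exact hx w hw

end Chain

namespace MC

variable {p n : ℕ} {W : ℕ → Subgroup P}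

theorem notMem_Ksub [Finite P] (h : MC P p n W) [hp : Fact p.Prime] (hp3 : 3 ≤ p) {x : P}
    (hx1 : x ∉ W 1) (hx2 : x ∉ h.Ksub (n - 2)) (i : ℕ) (hi : 1 ≤ i) (hi' : i ≤ n - 2) :
    x ∉ h.Ksub i := by
  have h4 := h.four_le
  rcases Nat.lt_or_ge i (n - 2) with h1 | h1
  · have : h.Ksub i = W 1 := by
      apply h.eq_W1
      · intro y hy w hw
        rcases Nat.lt_or_ge i 2 with h2 | h2
        · have : i = 1 := by omega
          subst this
          exact h.comm_self hw hy
        · exact h.blackburn hp3 i h2 (by omega) (commutator_mem_commutator hw hy)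
      · exact h.Ksub_ne_top' hi (by omega)
    rw [this]
    exact hx1
  · have : i = n - 2 := by omega
    rw [this]; exact hx2

theorem center_le (h : MC P p n W) {z : P} (hz : z ∈ W (n - 1)) (x : P) : Commute z x := by
  have h4 := h.four_le
  rw [← commutatorElement_eq_one_iff_commute, ← Subgroup.mem_bot, ← h.bot]
  have := h.comm_mem (x := x) hz
  rwa [show n - 1 + 1 = n by omega] at this

/-- elements outside the two-step centralizers -/
theorem card_centralizer_of_notMem [Finite P] (h : MC P p n W) [hp : Fact p.Prime] {x : P}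
    (hx1 : x ∉ W 1) (hx : ∀ i, 1 ≤ i → i ≤ n - 2 → x ∉ h.Ksub i) :
    Nat.card (centralizer ({x} : Set P)) = p ^ 2 := by
  have h4 := h.four_le
  have hWn : Nat.card (W (n - 1)) = p := by
    have := h.card_W 1 (by omega)
    rwa [pow_one] at this
  set C := centralizer ({x} : Set P) with hC
  have hmemC : ∀ y, y ∈ C ↔ Commute y x := fun y => by
    rw [hC, Subgroup.mem_centralizer_singleton_iff]; exact ⟨fun h => h, fun h => h⟩
  -- upper bound
  have h1 : C ⊓ W 1 ≤ W (n - 1) := by
    rintro y ⟨hy1, hy2⟩
    exact h.mem_of_commute (by omega) (fun i hi1 hi2 => hx i hi1 (by omega)) hy2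
      ((hmemC y).mp hy1) (by omega)
  have h2 : Nat.card C ≤ p ^ 2 := by
    have e1 : Nat.card C = Nat.card ((W 1).subgroupOf C) * (W 1).relIndex C := by
      rw [Subgroup.relIndex, Subgroup.card_mul_index]
    have e2 : Nat.card ((W 1).subgroupOf C) = Nat.card (C ⊓ W 1 : Subgroup P) := by
      rw [inf_comm, ← Subgroup.subgroupOf_map_subtype]
      exact Nat.card_congr (((W 1).subgroupOf C).equivMapOfInjective C.subtype
        C.subtype_injective).toEquiv
    have e3 : Nat.card (C ⊓ W 1 : Subgroup P) ≤ p := by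
      rw [← hWn]; exact Subgroup.card_le_of_le h1
    have e4 : (W 1).relIndex C ≤ p := by
      have hn1 := h.normal 1
      have := Subgroup.relIndex_le_of_le_right (H := W 1) (K := C) (L := ⊤) le_top
        (by rw [Subgroup.relIndex_top_right, h.W1_index]; exact hp.out.ne_zero)
      rwa [Subgroup.relIndex_top_right, h.W1_index] at this
    rw [e1, e2, pow_two]
    exact Nat.mul_le_mul e3 e4
  -- lower bound
  have h3 : W (n - 1) ≤ C := fun z hz => (hmemC z).mpr (h.center_le hz x)
  have hxC : x ∈ C := (hmemC x).mpr (Commute.refl x)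
  have h5 : p < Nat.card C := by
    rw [← hWn]
    apply lt_of_le_of_ne (Subgroup.card_le_of_le h3)
    intro heq
    have h6 := Subgroup.eq_of_le_of_card_ge h3 heq.ge
    rw [← h6] at hxC
    exact hx1 (h.antitone (by omega) hxC)
  have h7 : Nat.card C ∣ p ^ n := by
    rw [← h.card_group]; exact Subgroup.card_subgroup_dvd_card _
  obtain ⟨j, -, hj⟩ := (Nat.dvd_prime_pow hp.out).mp h7
  rw [hj] at h2 h5 ⊢
  have h8 : j ≤ 2 := (Nat.pow_le_pow_iff_right hp.out.one_lt).mp h2
  have h9 : 1 < j := by
    rw [← Nat.pow_lt_pow_iff_right hp.out.one_lt, pow_one]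
    exact h5
  have : j = 2 := by omega
  rw [this]

/-- elements inside `W 1` or `Ksub (n - 2)` centralize many elements of `W (n - 3)` -/
theorem le_card_inf [Finite P] (h : MC P p n W) [hp : Fact p.Prime] (hp3 : 3 ≤ p) {x : P}
    (hx : x ∈ W 1 ∨ x ∈ h.Ksub (n - 2)) {N : Subgroup P} (hN : W (n - 3) ≤ N) (hn : 5 ≤ n) :
    p ^ 2 ≤ Nat.card (N ⊓ centralizer ({x} : Set P) : Subgroup P) := by
  rcases hx with hx | hx
  · -- the homomorphism `y ↦ ⁅y, x⁆` on `W (n - 3)`
    have h1 : ∀ y ∈ W (n - 3), ⁅y, x⁆ ∈ W (n - 1) := by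
      intro y hy
      have := h.blackburn hp3 (n - 3) (by omega) (by omega) (commutator_mem_commutator hy hx)
      rwa [show n - 3 + 2 = n - 1 by omega] at this
    let ψ : W (n - 3) →* P :=
      { toFun := fun y => ⁅(y : P), x⁆
        map_one' := by simp
        map_mul' := by
          intro a b
          have e : ⁅((a * b : W (n - 3)) : P), x⁆ = ((a : P) * ⁅(b : P), x⁆ * (a : P)⁻¹) * ⁅(a : P), x⁆ := by
            simp only [commutatorElement_def, Subgroup.coe_mul]; group
          rw [e]
          have c1 := h.center_le (h1 b b.2)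
          rw [← (c1 (a : P)).eq, mul_inv_cancel_right]
          exact (c1 _).eq }
    have hψ : ∀ y : W (n - 3), ψ y = ⁅(y : P), x⁆ := fun y => rfl
    have h2 : Nat.card ψ.range ≤ p := by
      have hWn : Nat.card (W (n - 1)) = p := by
        have := h.card_W 1 (by omega)
        rwa [pow_one] at this
      rw [← hWn]
      apply Subgroup.card_le_of_le
      rintro _ ⟨y, rfl⟩
      exact h1 y y.2
    have h3 : Nat.card (W (n - 3)) = p ^ 3 := h.card_W 3 (by omega)
    have h4 := ψ.ker.card_mul_index
    rw [Subgroup.index_ker, h3] at h4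
    have h5 : p ^ 2 ≤ Nat.card ψ.ker := by
      by_contra hlt
      push Not at hlt
      have h6 : Nat.card ψ.ker * Nat.card ψ.range < p ^ 2 * p :=
        Nat.mul_lt_mul_of_lt_of_le hlt h2 hp.out.pos
      rw [h4] at h6
      exact lt_irrefl _ (h6.trans_eq (pow_succ p 2).symm)
    refine h5.trans ?_
    have h6 : ψ.ker.map (W (n - 3)).subtype ≤ N ⊓ centralizer ({x} : Set P) := by
      rintro _ ⟨y, hy, rfl⟩
      refine ⟨hN y.2, ?_⟩
      have h7 : ψ y = 1 := hy
      rw [hψ, commutatorElement_eq_one_iff_mul_comm] at h7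
      show (y : P) ∈ centralizer ({x} : Set P)
      rw [Subgroup.mem_centralizer_singleton_iff]
      exact h7
    calc Nat.card ψ.ker = Nat.card (ψ.ker.map (W (n - 3)).subtype) :=
          Nat.card_congr (ψ.ker.equivMapOfInjective _ (W (n - 3)).subtype_injective).toEquiv
      _ ≤ _ := Subgroup.card_le_of_le h6
  · have h1 : Nat.card (W (n - 2)) = p ^ 2 := h.card_W 2 (by omega)
    rw [← h1]
    apply Subgroup.card_le_of_le
    intro y hy
    refine ⟨hN (h.antitone (by omega) hy), ?_⟩
    show y ∈ centralizer ({x} : Set P)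
    rw [Subgroup.mem_centralizer_singleton_iff, ← commutatorElement_eq_one_iff_mul_comm,
      ← Subgroup.mem_bot, ← h.bot]
    have := hx y hy
    rwa [show n - 2 + 2 = n by omega] at this

end MC

/-- The main statement about uniform elements. -/
theorem exists_uniform [Finite P] {p n : ℕ} [hp : Fact p.Prime] (hP : Nat.card P = p ^ n)
    (hc : Group.nilpotencyClass P = n - 1) (hn : 3 ≤ n) :
    ∃ C1 C2 : Subgroup P, C1 ≠ ⊤ ∧ C2 ≠ ⊤ ∧ (p = 2 → C1 = C2) ∧ commutator P ≤ C1 ∧
      (∀ x, x ∉ C1 → x ∉ C2 → Nat.card (centralizer ({x} : Set P)) = p ^ 2) ∧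
      ∀ x, (x ∈ C1 ∨ x ∈ C2) → ∀ N : Subgroup P, N.Normal → N ≤ commutator P →
        p ^ 3 ≤ Nat.card N → p ^ 2 ≤ Nat.card (N ⊓ centralizer ({x} : Set P) : Subgroup P) := by
  have hPG : IsPGroup p P := IsPGroup.of_card hP
  have hnil : Group.IsNilpotent P := hPG.isNilpotent
  have hZ : Nat.card (center P) = p :=
    Cfsg.Agent.Transfer.MaximalClass.card_center_of_maxClass hn hP hc
  have hD : Nat.card (commutator P) = p ^ (n - 2) ∧ (commutator P).index = p ^ 2 := by
    have := lcs_card hP hc hn (i := 1) le_rfl (by omega)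
    rw [Subgroup.top_lowerCentralSeries_one] at this
    exact this
  have hlow : ∀ x : P, x ∉ center P → p ^ 2 ≤ Nat.card (centralizer ({x} : Set P)) := by
    intro x hx
    have h3 : center P ≤ centralizer ({x} : Set P) := Subgroup.center_le_centralizer _
    have h5 : p < Nat.card (centralizer ({x} : Set P)) := by
      nth_rw 1 [← hZ]
      apply lt_of_le_of_ne (Subgroup.card_le_of_le h3)
      intro heq
      have h6 := Subgroup.eq_of_le_of_card_ge h3 heq.ge
      apply hx
      rw [h6, Subgroup.mem_centralizer_singleton_iff]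
    have h7 : Nat.card (centralizer ({x} : Set P)) ∣ p ^ n := by
      rw [← hP]; exact Subgroup.card_subgroup_dvd_card _
    obtain ⟨j, -, hj⟩ := (Nat.dvd_prime_pow hp.out).mp h7
    rw [hj] at h5 ⊢
    apply Nat.pow_le_pow_right hp.out.pos
    have : 1 < j := by
      rw [← Nat.pow_lt_pow_iff_right hp.out.one_lt, pow_one]
      exact h5
    omega
  rcases Nat.eq_or_lt_of_le hn with hn3 | hn4
  · -- order `p ^ 3`
    subst hn3
    have hZne : center P ≠ ⊤ := by
      intro h
      have : Nat.card (center P) = Nat.card P := by rw [h, Subgroup.card_top]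
      rw [hZ, hP] at this
      have h2 : p ^ 1 < p ^ 3 := Nat.pow_lt_pow_right hp.out.one_lt (by norm_num)
      rw [pow_one] at h2
      exact h2.ne this
    have hDZ : commutator P ≤ center P := by
      have h1 : Nat.card (P ⧸ center P) = p ^ 2 :=
        Cfsg.Agent.Transfer.MaximalClass.card_quotient_center_of_maxClass le_rfl hP hc
      have h2 : IsMulCommutative (P ⧸ center P) := IsPGroup.isMulCommutative_of_card_eq_prime_sq h1
      exact (Subgroup.Normal.quotient_commutative_iff_commutator_le (N := center P)).mp h2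
    refine ⟨center P, center P, hZne, hZne, fun _ => rfl, hDZ, ?_, ?_⟩
    · intro x hx _
      apply le_antisymm _ (hlow x hx)
      have h7 : Nat.card (centralizer ({x} : Set P)) ∣ p ^ 3 := by
        rw [← hP]; exact Subgroup.card_subgroup_dvd_card _
      obtain ⟨j, hj3, hj⟩ := (Nat.dvd_prime_pow hp.out).mp h7
      have h8 : j ≠ 3 := by
        rintro rfl
        have h9 : centralizer ({x} : Set P) = ⊤ := by
          apply Subgroup.eq_top_of_card_eq
          rw [hj, hP]
        apply hx
        rw [Subgroup.mem_center_iff]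
        intro g
        have : g ∈ centralizer ({x} : Set P) := by rw [h9]; trivial
        exact (Subgroup.mem_centralizer_singleton_iff).mp this
      rw [hj]
      exact Nat.pow_le_pow_right hp.out.pos (by omega)
    · intro x _ N _ hN hcard
      exfalso
      have h1 := Subgroup.card_le_of_le (hN.trans hDZ)
      rw [hZ] at h1
      have h2 : p ^ 1 < p ^ 3 := Nat.pow_lt_pow_right hp.out.one_lt (by norm_num)
      rw [pow_one] at h2
      omega
  · -- order at least `p ^ 4`
    rcases Nat.lt_or_ge p 3 with hp2 | hp3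
    · -- `p = 2`
      have hp2' : p = 2 := by have := hp.out.two_le; omega
      subst hp2'
      obtain ⟨C, hCc, hCi⟩ :=
        Cfsg.Agent.Transfer.MaximalClass.exists_isCyclic_index_two_of_maxClass n hn P hP hc
      have hCn : C.Normal := Subgroup.normal_of_index_eq_two hCi
      have hCt : C ≠ ⊤ := by
        intro h; rw [h, Subgroup.index_top] at hCi; omega
      have hDC : commutator P ≤ C := by
        have h1 : IsCyclic (P ⧸ C) := isCyclic_of_prime_card (p := 2) hCi
        have h2 : IsMulCommutative (P ⧸ C) := inferInstance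
        exact (Subgroup.Normal.quotient_commutative_iff_commutator_le (N := C)).mp h2
      have hCab : ∀ a ∈ C, ∀ b ∈ C, a * b = b * a := by
        intro a ha b hb
        have h2 : IsMulCommutative C := inferInstance
        exact congrArg Subtype.val (h2.is_comm.comm (⟨a, ha⟩ : C) ⟨b, hb⟩)
      refine ⟨C, C, hCt, hCt, fun _ => rfl, hDC, ?_, ?_⟩
      · intro x hx _
        have hxZ : x ∉ center P := by
          intro hxz
          -- then `P` is abelian
          have hall : center P = ⊤ := by
            rw [eq_top_iff]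
            intro g _
            rw [Subgroup.mem_center_iff]
            -- every element is in `C` or in `C x`
            have hcases : ∀ g : P, g ∈ C ∨ g * x⁻¹ ∈ C := by
              intro g
              by_cases hg : g ∈ C
              · exact Or.inl hg
              · right
                have hxi : x⁻¹ ∉ C := fun h => hx ((inv_mem_iff).mp h)
                exact (Subgroup.mul_mem_iff_of_index_two hCi).mpr (by simp [hg, hxi])
            have hxc : ∀ y, y * x = x * y := Subgroup.mem_center_iff.mp hxz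
            intro k
            have hcomm : ∀ g ∈ C, ∀ k : P, k * g = g * k := by
              intro g hg k
              rcases hcases k with hk | hk
              · exact hCab k hk g hg
              · have h1 := hCab _ hk g hg
                calc k * g = (k * x⁻¹) * (x * g) := by group
                  _ = (k * x⁻¹) * (g * x) := by rw [hxc g]
                  _ = (k * x⁻¹) * g * x := by group
                  _ = g * (k * x⁻¹) * x := by rw [h1]
                  _ = g * k := by group
            rcases hcases g with hg | hg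
            · exact hcomm g hg k
            · have h1 := hcomm _ hg k
              calc k * g = k * (g * x⁻¹) * x := by group
                _ = (g * x⁻¹) * k * x := by rw [h1]
                _ = (g * x⁻¹) * (x * k) := by rw [← hxc k]; group
                _ = g * k := by group
          have : Nat.card (center P) = Nat.card P := by rw [hall, Subgroup.card_top]
          rw [hZ, hP] at this
          have h2 : 2 ^ 1 < 2 ^ n := Nat.pow_lt_pow_right (by norm_num) (by omega)
          omega
        apply le_antisymm _ (hlow x hxZ)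
        -- `C ⊓ C(x) ≤ Z(P)`
        have hcases : ∀ g : P, g ∈ C ∨ g * x⁻¹ ∈ C := by
          intro g
          by_cases hg : g ∈ C
          · exact Or.inl hg
          · right
            have hxi : x⁻¹ ∉ C := fun h => hx ((inv_mem_iff).mp h)
            exact (Subgroup.mul_mem_iff_of_index_two hCi).mpr (by simp [hg, hxi])
        have h1 : centralizer ({x} : Set P) ⊓ C ≤ center P := by
          rintro y ⟨hy1, hy2⟩
          have hy1' : y * x = x * y := (Subgroup.mem_centralizer_singleton_iff).mp hy1
          rw [Subgroup.mem_center_iff]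
          intro k
          rcases hcases k with hk | hk
          · exact hCab k hk y hy2
          · have h1 := hCab _ hk y hy2
            calc k * y = (k * x⁻¹) * (x * y) := by group
              _ = (k * x⁻¹) * (y * x) := by rw [hy1']
              _ = (k * x⁻¹) * y * x := by group
              _ = y * (k * x⁻¹) * x := by rw [h1]
              _ = y * k := by group
        set D := centralizer ({x} : Set P)
        have e1 : Nat.card D = Nat.card (C.subgroupOf D) * C.relIndex D := by
          rw [Subgroup.relIndex, Subgroup.card_mul_index]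
        have e2 : Nat.card (C.subgroupOf D) = Nat.card (D ⊓ C : Subgroup P) := by
          rw [inf_comm, ← Subgroup.subgroupOf_map_subtype]
          exact Nat.card_congr ((C.subgroupOf D).equivMapOfInjective D.subtype
            D.subtype_injective).toEquiv
        have e3 : Nat.card (D ⊓ C : Subgroup P) ≤ 2 := by
          nth_rw 1 [← hZ]; exact Subgroup.card_le_of_le h1
        have e4 : C.relIndex D ≤ 2 := by
          have := Subgroup.relIndex_le_of_le_right (H := C) (K := D) (L := ⊤) le_top
            (by rw [Subgroup.relIndex_top_right, hCi]; norm_num)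
          rwa [Subgroup.relIndex_top_right, hCi] at this
        rw [e1, e2, pow_two]
        exact Nat.mul_le_mul e3 e4
      · intro x hx N _ hN hcard
        have hxC : x ∈ C := by rcases hx with h | h <;> exact h
        have h1 : N ≤ N ⊓ centralizer ({x} : Set P) := by
          intro y hy
          refine ⟨hy, ?_⟩
          show y ∈ centralizer ({x} : Set P)
          rw [Subgroup.mem_centralizer_singleton_iff]
          exact hCab y (hDC (hN hy)) x hxC
        have h2 := Subgroup.card_le_of_le h1
        have h3 : 2 ^ 2 ≤ 2 ^ 3 := by norm_num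
        omega
    · -- `p` odd
      have h := chain_mc hP hc hn4
      have hW2 : chain P 2 = commutator P := by
        rw [chain_of_two_le le_rfl]; exact Subgroup.top_lowerCentralSeries_one
      have hW1 : chain P 1 ≠ ⊤ := by
        intro htop
        have := h.W1_index
        rw [htop, Subgroup.index_top] at this
        exact hp.out.one_lt.ne this
      refine ⟨chain P 1, h.Ksub (n - 2), hW1, h.Ksub_ne_top' (by omega) (by omega),
        fun h2 => by omega, ?_, ?_, ?_⟩
      · rw [← hW2]; exact h.le_succ 1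
      · intro x hx1 hx2
        exact h.card_centralizer_of_notMem hx1 (h.notMem_Ksub hp3 hx1 hx2)
      · intro x hx N hN hNle hcard
        obtain ⟨r, hr⟩ := hPG.index N
        have h1 := N.card_mul_index
        have h2 : Nat.card N ∣ p ^ n := by rw [← hP]; exact Subgroup.card_subgroup_dvd_card _
        obtain ⟨m, hmn, hm⟩ := (Nat.dvd_prime_pow hp.out).mp h2
        rw [hr, hm, hP, ← pow_add] at h1
        have h3 : m + r = n := Nat.pow_right_injective hp.out.two_le h1
        rw [hm] at hcard
        have h4 : 3 ≤ m := (Nat.pow_le_pow_iff_right hp.out.one_lt).mp hcard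
        have h5 : m ≤ n - 2 := by
          have := Subgroup.card_le_of_le hNle
          rw [hm, hD.1] at this
          exact (Nat.pow_le_pow_iff_right hp.out.one_lt).mp this
        have h6 : N = chain P r := by
          rw [chain_of_two_le (by omega)]
          exact (Cfsg.Agent.S0662.result n hP hc (by omega)).1 N r (by omega) hr
        apply h.le_card_inf hp3 hx _ (by omega)
        rw [h6]
        exact h.antitone (by omega)

end Cfsg.Agent.H467.MaxClass
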