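import Cfsg.Agent.H541.PolySeq
import Cfsg.Agent.H467.MaxClassUniform
set_option linter.all false

-- part: H467/PolyDiff
section
/-!
# Iterated differences of polynomial sequences are additive modulo the next term (helper467)

`PA F i g`: `g` is a polynomial sequence of shift `i` with respect to the filtration `F`
(`∂^l g` takes values in `F (i + l)` for all `l`).

* `difs_mul`: for `g`, `h` of shift `i ≥ 1`, `∂^l (g h) = ∂^l g ∂^l h e` with `e` of shift `i + l + 1`.
* `Y t x b = t ^ (-b) x t ^ b` has `∂^l (Y t x) = Y t [t⁻¹, …, [t⁻¹, x]]`.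
* `Psi s x m b`: `(s ^ b * x) ^ m = s ^ (b * m) * Psi s x m b`.
-/

set_option autoImplicit false

open scoped commutatorElement

namespace Cfsg.Agent.H467.PolyDiff

open Cfsg.Agent.H541.PolySeq

variable {G : Type*} [Group G] {F : ℕ → Subgroup G}

/-- polynomial sequences of shift `i` -/
def PA (F : ℕ → Subgroup G) (i : ℕ) (g : ℕ → G) : Prop := ∀ k, Poly F k i g

namespace PA

theorem le (hF : Filt F) {i j : ℕ} (hij : j ≤ i) {g : ℕ → G} (h : PA F i g) : PA F j g :=
  fun k => hF.poly_le hij (h k)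

theorem mul (hF : Filt F) {i : ℕ} {g h : ℕ → G} (hg : PA F i g) (hh : PA F i h) :
    PA F i (fun n => g n * h n) :=
  fun k => (hF.poly_all k).1 _ _ _ (hg k) (hh k)

theorem inv (hF : Filt F) {i : ℕ} {g : ℕ → G} (hg : PA F i g) : PA F i (fun n => (g n)⁻¹) :=
  fun k => (hF.poly_all k).2.1 _ _ (hg k)

theorem comm (hF : Filt F) {i j : ℕ} {g h : ℕ → G} (hg : PA F i g) (hh : PA F j h) :
    PA F (i + j) (fun n => ⁅g n, h n⁆) :=
  fun k => (hF.poly_all k).2.2 _ _ _ _ (hg k) (hh k)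

theorem dif {i : ℕ} {g : ℕ → G} (hg : PA F i g) : PA F (i + 1) (dif g) :=
  fun k => (hg (k + 1)).2

theorem val {i : ℕ} {g : ℕ → G} (hg : PA F i g) (n : ℕ) : g n ∈ F i := hg 0 n

theorem one (i : ℕ) : PA F i (fun _ => 1) := fun k => Filt.poly_one i k

theorem difs {i : ℕ} {g : ℕ → G} (hg : PA F i g) (l : ℕ) :
    PA F (i + l) (Cfsg.Agent.H541.PolySeq.dif^[l] g) := by
  induction l generalizing i g with
  | zero => exact hg
  | succ l ih =>
    rw [Function.iterate_succ_apply]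
    have := ih hg.dif
    rwa [show i + (l + 1) = i + 1 + l by omega]

end PA

theorem dif_step (hF : Filt F) {i : ℕ} (hi : 1 ≤ i) {g h e : ℕ → G} (hg : PA F i g)
    (hh : PA F i h) (he : PA F (i + 1) e) :
    ∃ e' : ℕ → G, PA F (i + 2) e' ∧
      dif (fun n => g n * h n * e n) = fun n => dif g n * dif h n * e' n := by
  have hde : PA F (i + 2) (dif e) := he.dif
  have hdh : PA F (i + 1) (dif h) := hh.dif
  have hr : PA F (i + 2) (fun n => ⁅h n, dif e n⁆ * dif e n) :=
    PA.mul hF ((PA.comm hF hh hde).le hF (by omega)) hde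
  have hv : PA F (i + 1) (fun n => dif h n * (⁅h n, dif e n⁆ * dif e n)) :=
    PA.mul hF hdh (hr.le hF (by omega))
  have hq : PA F (i + 2) (fun n => ⁅g n, dif h n * (⁅h n, dif e n⁆ * dif e n)⁆) :=
    (PA.comm hF hg hv).le hF (by omega)
  have hq' : PA F (i + 2) (fun n => ⁅(dif h n)⁻¹, ⁅g n, dif h n * (⁅h n, dif e n⁆ * dif e n)⁆⁆) :=
    (PA.comm hF (PA.inv hF hdh) hq).le hF (by omega)
  refine ⟨_, PA.mul hF (PA.mul hF hq' hq) hr, ?_⟩
  funext n
  simp only [dif, commutatorElement_def]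
  group

theorem difs_step (hF : Filt F) (l : ℕ) : ∀ {i : ℕ}, 1 ≤ i → ∀ {g h e : ℕ → G}, PA F i g →
    PA F i h → PA F (i + 1) e →
    ∃ e' : ℕ → G, PA F (i + l + 1) e' ∧
      dif^[l] (fun n => g n * h n * e n) = fun n => dif^[l] g n * dif^[l] h n * e' n := by
  induction l with
  | zero => intro i _ g h e _ _ he; exact ⟨e, he, rfl⟩
  | succ l ih =>
    intro i hi g h e hg hh he
    obtain ⟨e1, he1, h1⟩ := dif_step hF hi hg hh he
    obtain ⟨e2, he2, h2⟩ := ih (by omega : 1 ≤ i + 1) hg.dif hh.dif he1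
    refine ⟨e2, by rwa [show i + (l + 1) + 1 = i + 1 + l + 1 by omega], ?_⟩
    rw [Function.iterate_succ_apply, h1, h2]
    rfl

/-- Additivity of iterated differences. -/
theorem difs_mul (hF : Filt F) (l : ℕ) {i : ℕ} (hi : 1 ≤ i) {g h : ℕ → G} (hg : PA F i g)
    (hh : PA F i h) (n : ℕ) :
    ∃ e ∈ F (i + l + 1), dif^[l] (fun n => g n * h n) n = dif^[l] g n * dif^[l] h n * e := by
  obtain ⟨e', he', h1⟩ := difs_step hF l hi hg hh (PA.one (i + 1))
  refine ⟨e' n, he'.val n, ?_⟩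
  have h2 : (fun n => g n * h n * 1) = fun n => g n * h n := by funext n; rw [mul_one]
  rw [h2] at h1
  rw [h1]

theorem dif_map {H : Type*} [Group H] (q : G →* H) (g : ℕ → G) (l : ℕ) :
    dif^[l] (fun n => q (g n)) = fun n => q (dif^[l] g n) := by
  induction l generalizing g with
  | zero => rfl
  | succ l ih =>
    rw [Function.iterate_succ_apply]
    have : dif (fun n => q (g n)) = fun n => q (dif g n) := by
      funext n
      simp only [dif, map_mul, map_inv]
    rw [this, ih]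
    rfl

/-- A sequence with `g b = 1` for `1 ≤ b ≤ l`. -/
theorem difs_zero (l : ℕ) : ∀ g : ℕ → G, (∀ b, 1 ≤ b → b ≤ l → g b = 1) →
    dif^[l] g 0 = g 0 ∨ dif^[l] g 0 = (g 0)⁻¹ := by
  induction l with
  | zero => intro g _; exact Or.inl rfl
  | succ l ih =>
    intro g hg
    rw [Function.iterate_succ_apply]
    have h0 : dif g 0 = (g 0)⁻¹ := by
      simp only [dif]
      rw [hg (0 + 1) (by omega) (by omega), one_mul]
    have h1 : ∀ b, 1 ≤ b → b ≤ l → dif g b = 1 := by
      intro b hb1 hb2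
      simp only [dif]
      rw [hg b hb1 (by omega), hg (b + 1) (by omega) (by omega)]
      simp
    rcases ih (dif g) h1 with h | h
    · right; rw [h, h0]
    · left; rw [h, h0, inv_inv]

/-- `t ^ (-b) x t ^ b` -/
def Y (t x : G) (b : ℕ) : G := (t ^ b)⁻¹ * x * t ^ b

theorem dif_Y (t x : G) : dif (Y t x) = Y t ⁅t⁻¹, x⁆ := by
  funext b
  simp only [dif, Y, commutatorElement_def, pow_succ]
  group

theorem difs_Y (t x : G) (l : ℕ) : dif^[l] (Y t x) = Y t ((fun y => ⁅t⁻¹, y⁆)^[l] x) := by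
  induction l generalizing x with
  | zero => rfl
  | succ l ih => rw [Function.iterate_succ_apply, dif_Y, ih, Function.iterate_succ_apply]

theorem Y_zero (t x : G) : Y t x 0 = x := by simp [Y]

/-- the products -/
def Psi (s x : G) : ℕ → ℕ → G
  | 0, _ => 1
  | m + 1, b => Y (s ^ m) x b * Psi s x m b

theorem mul_pow_eq (s x : G) (b m : ℕ) : (s ^ b * x) ^ m = s ^ (b * m) * Psi s x m b := by
  induction m with
  | zero => simp [Psi]
  | succ m ih =>
    rw [pow_succ', ih, Psi, Y, ← pow_mul, mul_comm m b, Nat.mul_succ, add_comm (b * m) b, pow_add]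
    group

end Cfsg.Agent.H467.PolyDiff
end

-- part: H467/MaxClassPower
section
/-!
# p-groups of maximal class: the power structure (helper467)

`P` of maximal class of order `p ^ n`, chain `W`, `s` outside all two-step centralizers.

* `MC.power_formula`: if `(s ^ b x) ^ p = s ^ (b p)` modulo `W (j + p)` for `0 < b < p`, `x ∈ W j`,
  then `x ^ p ∈ W (j + p - 1)`, and `x ^ p ∈ W (j + p) ↔ [s⁻¹, …, [s⁻¹, x]] ∈ W (j + p)`.
* `MC.pow_mem`, `MC.pow_notMem`: (`p` odd) `x ∈ W j - W (j + 1)` implies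
  `x ^ p ∈ W (j + p - 1) - W (j + p)` for `2 ≤ j`, and for `j = 1` if `p + 2 ≤ n`.
-/

set_option autoImplicit false

namespace Cfsg.Agent.H467.MaxClass

open Subgroup
open scoped commutatorElement
open Cfsg.Agent.H541.PolySeq Cfsg.Agent.H467.PolyDiff

universe u

variable {P : Type u} [Group P]

/-- `⁅t⁻¹, y⁆` -/
def D (t : P) (y : P) : P := ⁅t⁻¹, y⁆

/-- the filtration of `W j` -/
def FF (W : ℕ → Subgroup P) (j m : ℕ) : Subgroup P := W (j + (m - 1))

section Central

variable {Q : Type*} [Group Q]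

theorem comm_pow_left {u y : Q} (hc : ∀ x : Q, Commute ⁅u, y⁆ x) (m : ℕ) : ⁅u ^ m, y⁆ = ⁅u, y⁆ ^ m := by
  induction m with
  | zero => simp
  | succ m ih =>
    have e : ⁅u ^ (m + 1), y⁆ = u ^ m * ⁅u, y⁆ * (u ^ m)⁻¹ * ⁅u ^ m, y⁆ := by
      simp only [commutatorElement_def, pow_succ]; group
    have h2 : u ^ m * ⁅u, y⁆ * (u ^ m)⁻¹ = ⁅u, y⁆ := by
      rw [← (hc (u ^ m)).eq]; group
    rw [e, h2, ih, ← pow_succ']

theorem comm_pow_right {u y : Q} (hc : ∀ x : Q, Commute ⁅u, y⁆ x) (m : ℕ) :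
    ⁅u, y ^ m⁆ = ⁅u, y⁆ ^ m := by
  have hc' : ∀ x : Q, Commute ⁅y, u⁆ x := by
    intro x
    rw [← commutatorElement_inv u y]
    exact (hc x).inv_left
  rw [← commutatorElement_inv (y ^ m) u, comm_pow_left hc' m, ← commutatorElement_inv u y, inv_pow,
    inv_inv]

end Central

namespace MC

variable {p n : ℕ} {W : ℕ → Subgroup P}

theorem filt (h : MC P p n W) [hp : Fact p.Prime] {j : ℕ} (hj : 1 ≤ j) : Filt (FF W j) where
  anti i := h.antitone (by omega)
  comm a b := (h.comm_comm _ _).trans (h.antitone (by omega))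

theorem D_mem (h : MC P p n W) {i : ℕ} {t y : P} (hy : y ∈ W i) : D t y ∈ W (i + 1) :=
  h.comm_mem' hy

theorem Dl_mem (h : MC P p n W) {i : ℕ} {t y : P} (hy : y ∈ W i) (l : ℕ) :
    (D t)^[l] y ∈ W (i + l) := by
  induction l generalizing i y with
  | zero => exact hy
  | succ l ih =>
    rw [Function.iterate_succ_apply]
    have := ih (h.D_mem (t := t) hy)
    rwa [show i + (l + 1) = i + 1 + l by omega]

theorem pa_Y (h : MC P p n W) {j i : ℕ} {x t : P} (hx : x ∈ W (j + i)) :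
    PA (FF W j) (i + 1) (Y t x) := by
  intro k
  induction k generalizing i x with
  | zero =>
    intro b
    change (t ^ b)⁻¹ * x * t ^ b ∈ W (j + (i + 1 - 1))
    rw [Nat.add_sub_cancel]
    have := h.conj_mem hx (t ^ b)⁻¹
    rwa [inv_inv] at this
  | succ k ih =>
    refine ⟨?_, ?_⟩
    · intro b
      change (t ^ b)⁻¹ * x * t ^ b ∈ W (j + (i + 1 - 1))
      rw [Nat.add_sub_cancel]
      have := h.conj_mem hx (t ^ b)⁻¹
      rwa [inv_inv] at this
    · rw [dif_Y]
      exact ih (i := i + 1) (h.comm_mem' hx)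

theorem pa_Psi (h : MC P p n W) [hp : Fact p.Prime] {j : ℕ} (hj : 1 ≤ j) {s x : P} (hx : x ∈ W j)
    (m : ℕ) : PA (FF W j) 1 (Psi s x m) := by
  induction m with
  | zero => exact PA.one 1
  | succ m ih => exact PA.mul (h.filt hj) (h.pa_Y (i := 0) hx) ih

/-- `D (s ^ m)` iterated, modulo the next term. -/
theorem Dl_pow (h : MC P p n W) {i : ℕ} {s y : P} (hy : y ∈ W i) (m l : ℕ) :
    haveI := h.normal (i + l + 1)
    QuotientGroup.mk' (W (i + l + 1)) ((D (s ^ m))^[l] y) =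
      (QuotientGroup.mk' (W (i + l + 1)) ((D s)^[l] y)) ^ (m ^ l) := by
  induction l with
  | zero => simp
  | succ l ih =>
    have := h.normal (i + l + 1)
    have := h.normal (i + (l + 1) + 1)
    rw [Function.iterate_succ_apply', Function.iterate_succ_apply']
    set u := (D (s ^ m))^[l] y with hu
    set v := (D s)^[l] y with hv
    have huW : u ∈ W (i + l) := h.Dl_mem hy l
    have hvW : v ∈ W (i + l) := h.Dl_mem hy l
    -- `u = v ^ (m ^ l) * z`
    obtain ⟨z, hz, huz⟩ : ∃ z ∈ W (i + l + 1), u = v ^ (m ^ l) * z := by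
      refine ⟨(v ^ (m ^ l))⁻¹ * u, ?_, by group⟩
      rw [← QuotientGroup.eq_one_iff]
      change QuotientGroup.mk' (W (i + l + 1)) ((v ^ (m ^ l))⁻¹ * u) = 1
      rw [map_mul, map_inv, map_pow, ih, inv_mul_cancel]
    set q : P →* P ⧸ W (i + (l + 1) + 1) := QuotientGroup.mk' _ with hq
    have hcen : ∀ a ∈ W (i + l + 1), ∀ g : P ⧸ W (i + (l + 1) + 1), Commute (q a) g := by
      intro a ha g
      obtain ⟨g, rfl⟩ := QuotientGroup.mk'_surjective _ g
      rw [← commutatorElement_eq_one_iff_commute]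
      change ⁅q a, q g⁆ = 1
      rw [← map_commutatorElement, hq, QuotientGroup.mk'_apply, QuotientGroup.eq_one_iff]
      have := h.comm_mem (x := g) ha
      rwa [show i + l + 1 + 1 = i + (l + 1) + 1 by omega] at this
    have hqz : ∀ t : P, ⁅q t, q z⁆ = 1 := by
      intro t
      rw [commutatorElement_eq_one_iff_commute]
      exact (hcen z hz (q t)).symm
    have hc1 : ∀ (t : P), ∀ g, Commute ⁅q t, q v⁆ g := by
      intro t g
      rw [← map_commutatorElement]
      exact hcen _ (h.comm_mem' hvW) g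
    -- compute
    change q ⁅(s ^ m)⁻¹, u⁆ = q ⁅s⁻¹, v⁆ ^ (m ^ (l + 1))
    rw [huz, map_commutatorElement, map_mul, map_pow]
    have e1 : ⁅q (s ^ m)⁻¹, q v ^ m ^ l * q z⁆ = ⁅q (s ^ m)⁻¹, q v ^ m ^ l⁆ *
        (q v ^ m ^ l * ⁅q (s ^ m)⁻¹, q z⁆ * (q v ^ m ^ l)⁻¹) := by
      simp only [commutatorElement_def]; group
    rw [e1, hqz, mul_one, mul_inv_cancel, mul_one, comm_pow_right (hc1 _), map_commutatorElement]
    have e2 : q (s ^ m)⁻¹ = (q s⁻¹) ^ m := by rw [← map_pow, inv_pow]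
    rw [e2, comm_pow_left (hc1 _), ← pow_mul, pow_succ, mul_comm m]

/-- The value of the `(p-1)`-st difference. -/
theorem difs_Psi (h : MC P p n W) [hp : Fact p.Prime] {j : ℕ} (hj : 1 ≤ j) {s x : P}
    (hx : x ∈ W j) (l m : ℕ) :
    haveI := h.normal (j + l + 1)
    QuotientGroup.mk' (W (j + l + 1)) (dif^[l] (Psi s x m) 0) =
      (QuotientGroup.mk' (W (j + l + 1)) ((D s)^[l] x)) ^ (∑ i ∈ Finset.range m, i ^ l) := by
  have hnn := h.normal (j + l + 1)
  set q : P →* P ⧸ W (j + l + 1) := QuotientGroup.mk' _ with hq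
  induction m with
  | zero =>
    rw [Finset.range_zero, Finset.sum_empty, pow_zero]
    have : ∀ l : ℕ, dif^[l] (Psi s x 0) = fun _ => 1 := by
      intro l
      induction l with
      | zero => rfl
      | succ l ih =>
        rw [Function.iterate_succ_apply', ih]
        funext n
        simp [dif]
    rw [this, map_one]
  | succ m ih =>
    obtain ⟨e, he, h1⟩ := difs_mul (h.filt hj) l le_rfl (h.pa_Y (j := j) (i := 0) (t := s ^ m) hx)
      (h.pa_Psi hj (s := s) hx m) 0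
    have h2 : dif^[l] (Psi s x (m + 1)) 0 =
        dif^[l] (Y (s ^ m) x) 0 * dif^[l] (Psi s x m) 0 * e := h1
    have he' : e ∈ W (j + l + 1) := by
      have : FF W j (1 + l + 1) = W (j + l + 1) := by
        unfold FF; congr 1; omega
      rwa [← this]
    have hqe : q e = 1 := by
      rw [hq, QuotientGroup.mk'_apply, QuotientGroup.eq_one_iff]; exact he'
    have h3 : q (dif^[l] (Y (s ^ m) x) 0) = q ((D s)^[l] x) ^ (m ^ l) := by
      rw [difs_Y, Y_zero]
      exact h.Dl_pow hx m l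
    rw [h2, map_mul, map_mul, hqe, mul_one, ih, h3, Finset.sum_range_succ, ← pow_add, add_comm (m ^ l)]

theorem pow_p_mem (h : MC P p n W) {i : ℕ} {x : P} (hx : x ∈ W i) : x ^ p ∈ W (i + 1) := by
  have hn := h.normal (i + 1)
  rcases Nat.lt_or_ge i n with hi | hi
  · have h1 : ((W (i + 1)).subgroupOf (W i)).index = p := h.relIndex i hi
    have h2 := Subgroup.pow_index_mem ((W (i + 1)).subgroupOf (W i)) ⟨x, hx⟩
    rw [h1] at h2
    exact h2
  · rw [h.bot_of_le hi, mem_bot] at hx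
    rw [hx, one_pow]; exact one_mem _

/-- The power formula. -/
theorem power_formula (h : MC P p n W) [hp : Fact p.Prime] {j : ℕ} (hj : 1 ≤ j) {s x : P}
    (hx : x ∈ W j)
    (hs : ∀ b, 1 ≤ b → b ≤ p - 1 → (s ^ (b * p))⁻¹ * (s ^ b * x) ^ p ∈ W (j + p)) :
    x ^ p ∈ W (j + p - 1) ∧ (x ^ p ∈ W (j + p) → (D s)^[p - 1] x ∈ W (j + p)) := by
  have hp2 := hp.out.two_le
  have hidx : j + (p - 1) + 1 = j + p := by omega
  have hnn := h.normal (j + p)
  have key := h.difs_Psi hj hx (s := s) (p - 1) p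
  rw! (castMode := .all) [hidx] at key
  set q : P →* P ⧸ W (j + p) := QuotientGroup.mk' _ with hq
  have hqmem : ∀ a : P, q a = 1 ↔ a ∈ W (j + p) := by
    intro a
    rw [hq, QuotientGroup.mk'_apply, QuotientGroup.eq_one_iff]
  set X := (D s)^[p - 1] x with hX
  have hXW : X ∈ W (j + (p - 1)) := h.Dl_mem hx _
  have hXp : q X ^ p = 1 := by
    rw [← map_pow, hqmem]
    have := h.pow_p_mem hXW
    rwa [hidx] at this
  -- the exponent
  have hexp : ∀ m, 1 ≤ m → m ≤ p → q X ^ (∑ i ∈ Finset.range m, i ^ (p - 1)) = q X ^ (m - 1) := by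
    intro m hm1
    induction m, hm1 using Nat.le_induction with
    | base =>
      intro _
      rw [Finset.sum_range_one, zero_pow (by omega)]
      rfl
    | succ m hm ih =>
      intro hmp
      rw [Finset.sum_range_succ, pow_add, ih (by omega)]
      have h1 : m ^ (p - 1) ≡ 1 [MOD p] := by
        have hcop : Nat.Coprime m p := by
          rw [Nat.coprime_comm, Nat.Prime.coprime_iff_not_dvd hp.out]
          exact Nat.not_dvd_of_pos_of_lt (by omega) (by omega)
        have := Nat.ModEq.pow_totient hcop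
        rwa [Nat.totient_prime hp.out] at this
      have h2 : q X ^ (m ^ (p - 1)) = q X ^ 1 := by
        rw [pow_eq_pow_iff_modEq]
        exact h1.of_dvd (orderOf_dvd_of_pow_eq_one hXp)
      rw [h2, pow_one, ← pow_succ]
      congr 1
      omega
  rw [hexp p (by omega) le_rfl] at key
  -- the left hand side
  have hPsi : ∀ b, q (Psi s x p b) = q ((s ^ (b * p))⁻¹ * (s ^ b * x) ^ p) := by
    intro b
    rw [mul_pow_eq, inv_mul_cancel_left]
  have h0 : q (Psi s x p 0) = q (x ^ p) := by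
    rw [hPsi]; simp
  have hz := difs_zero (p - 1) (fun b => q (Psi s x p b)) (by
    intro b hb1 hb2
    rw [hPsi, hqmem]
    exact hs b hb1 hb2)
  have hd : dif^[p - 1] (fun b => q (Psi s x p b)) 0 = q (dif^[p - 1] (Psi s x p) 0) := by
    rw [dif_map]
  rw [hd, key, h0] at hz
  have hle : W (j + p) ≤ W (j + p - 1) := h.antitone (by omega)
  have hpow : q X ^ (p - 1) = q (X ^ (p - 1)) := by rw [map_pow]
  have hXW' : X ∈ W (j + p - 1) := by rwa [show j + p - 1 = j + (p - 1) by omega]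
  constructor
  · rcases hz with h1 | h1
    · rw [hpow] at h1
      have h2 : (X ^ (p - 1))⁻¹ * x ^ p ∈ W (j + p) := by
        rw [← hqmem, map_mul, map_inv, h1, inv_mul_cancel]
      have h3 := mul_mem (pow_mem hXW' (p - 1)) (hle h2)
      rwa [mul_inv_cancel_left] at h3
    · rw [hpow] at h1
      have h2 : X ^ (p - 1) * x ^ p ∈ W (j + p) := by
        rw [← hqmem, map_mul, h1, inv_mul_cancel]
      have h3 := mul_mem (inv_mem (pow_mem hXW' (p - 1))) (hle h2)
      rwa [inv_mul_cancel_left] at h3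
  · intro hxp
    rw [← hqmem] at hxp
    have h1 : q X ^ (p - 1) = 1 := by
      rcases hz with h1 | h1
      · rw [h1, hxp]
      · rw [h1, hxp, inv_one]
    have h2 : q X = 1 := by
      have h3 : q X ^ p = q X ^ (p - 1) * q X := by rw [← pow_succ]; congr 1; omega
      rw [hXp, h1, one_mul] at h3
      exact h3.symm
    exact (hqmem X).mp h2

end MC

end Cfsg.Agent.H467.MaxClass
end

-- part: H467/MaxClassPower2
section
/-!
# p-groups of maximal class: the power structure, exceptional groups (helper467)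

`p` odd, `h : MC P p n W`.

* `MC.pow_mem`, `MC.pow_notMem`: `2 ≤ j`, `x ∈ W j` implies `x ^ p ∈ W (j + p - 1)`; if moreover
  `x ∉ W (j + 1)` and `j + p ≤ n`, then `x ^ p ∉ W (j + p)`.
* `MC.pow_mem_one`, `MC.pow_notMem_one`: the same for `j = 1` if `p + 2 ≤ n`.
* `MC.exists_pow_ne_one`: if `n = p + 1`, then `P` is not of exponent `p`.
* `MC.Ksub_last_of_odd`, `MC.Ksub_last_of_le`: `P` is not exceptional (`C_P(W (n-2)) = W 1`) if `n`
  is odd or `p + 2 ≤ n`.
* `MC.deg_of_Ksub_last`: non exceptional implies `[W i, W j] ≤ W (i + j + 1)` for `i, j ≥ 1`.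
-/

set_option autoImplicit false

namespace Cfsg.Agent.H467.MaxClass

open Subgroup
open scoped commutatorElement
open Cfsg.Agent.H541.PolySeq Cfsg.Agent.H467.PolyDiff

universe u

variable {P : Type u} [Group P]

namespace MC

variable {p n : ℕ} {W : ℕ → Subgroup P}

theorem W1_ne_top (h : MC P p n W) [hp : Fact p.Prime] : W 1 ≠ ⊤ := by
  intro htop
  have := h.W1_index
  rw [htop, Subgroup.index_top] at this
  exact hp.out.one_lt.ne this

theorem Ksub_eq [Finite P] (h : MC P p n W) [hp : Fact p.Prime] (hp3 : 3 ≤ p) {i : ℕ} (h1 : 1 ≤ i)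
    (h2 : i + 3 ≤ n) : h.Ksub i = W 1 := by
  apply h.eq_W1
  · intro y hy w hw
    rcases Nat.lt_or_ge i 2 with h3 | h3
    · have : i = 1 := by omega
      subst this
      exact h.comm_self hw hy
    · exact h.blackburn hp3 i h3 h2 (commutator_mem_commutator hw hy)
  · exact h.Ksub_ne_top' h1 (by omega)

theorem pow_index_mem (h : MC P p n W) [hp : Fact p.Prime] (t : P) : t ^ p ∈ W 1 := by
  have := h.pow_p_mem (i := 0) (x := t) (by rw [h.zero]; trivial)
  rwa [zero_add] at this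

/-- `t ^ p` is central for `t` outside all two-step centralizers. -/
theorem pow_mem_of_notMem (h : MC P p n W) [hp : Fact p.Prime] {t : P} {m : ℕ} (hm : m + 1 ≤ n)
    (hm1 : 1 ≤ m) (ht : ∀ i, 1 ≤ i → i < m → t ∉ h.Ksub i) : t ^ p ∈ W m :=
  h.mem_of_commute hm ht (h.pow_index_mem t) (Commute.pow_self t p) hm1

/-- `t x` is conjugate to `t` if `|C(t)| = p²` and `x ∈ W 2 = P'`. -/
theorem exists_conj_eq [Finite P] (h : MC P p n W) [hp : Fact p.Prime] {t x : P} (hx : x ∈ W 2)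
    (hc : Nat.card (centralizer ({t} : Set P)) = p ^ 2) : ∃ g : P, g * t * g⁻¹ = t * x := by
  have h4 := h.four_le
  have hmem : ∀ g : P, t⁻¹ * (g * t * g⁻¹) ∈ W 2 := by
    intro g
    have : t⁻¹ * (g * t * g⁻¹) = ⁅t⁻¹, g⁆ := by simp only [commutatorElement_def]; group
    rw [this, ← h.comm_top]
    exact commutator_mem_commutator (mem_top _) (mem_top _)
  have hcc : ∀ c, c ∈ centralizer ({t} : Set P) ↔ c * t = t * c := fun c =>
    Subgroup.mem_centralizer_singleton_iff
  let f : P ⧸ centralizer ({t} : Set P) → W 2 :=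
    Quotient.lift (s := QuotientGroup.leftRel _) (fun g => ⟨t⁻¹ * (g * t * g⁻¹), hmem g⟩) (by
      intro a b hab
      have hab' : a⁻¹ * b ∈ centralizer ({t} : Set P) := QuotientGroup.leftRel_apply.mp hab
      rw [hcc] at hab'
      apply Subtype.ext
      show t⁻¹ * (a * t * a⁻¹) = t⁻¹ * (b * t * b⁻¹)
      congr 1
      have e : b * t * b⁻¹ = a * (a⁻¹ * b * t) * (a⁻¹ * b)⁻¹ * a⁻¹ := by group
      rw [e, hab']
      group)
  have hf : ∀ g : P, f (QuotientGroup.mk g) = ⟨t⁻¹ * (g * t * g⁻¹), hmem g⟩ := fun g => rfl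
  have hinj : Function.Injective f := by
    intro a b hab
    obtain ⟨a, rfl⟩ := QuotientGroup.mk_surjective a
    obtain ⟨b, rfl⟩ := QuotientGroup.mk_surjective b
    rw [hf, hf] at hab
    have h1 := congrArg Subtype.val hab
    change t⁻¹ * (a * t * a⁻¹) = t⁻¹ * (b * t * b⁻¹) at h1
    have h2 : a * t * a⁻¹ = b * t * b⁻¹ := mul_left_cancel h1
    rw [QuotientGroup.eq, hcc]
    calc a⁻¹ * b * t = a⁻¹ * (b * t * b⁻¹) * b := by group
      _ = a⁻¹ * (a * t * a⁻¹) * b := by rw [h2]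
      _ = t * (a⁻¹ * b) := by group
  have hcard : Nat.card (P ⧸ centralizer ({t} : Set P)) = Nat.card (W 2) := by
    have h1 := (centralizer ({t} : Set P)).card_mul_index
    have h2 := h.card_W (n - 2) (by omega)
    rw [show n - (n - 2) = 2 by omega] at h2
    rw [hc, h.card_group] at h1
    rw [h2]
    change (centralizer ({t} : Set P)).index = _
    have h3 : p ^ n = p ^ 2 * p ^ (n - 2) := by rw [← pow_add]; congr 1; omega
    rw [h3] at h1
    exact Nat.eq_of_mul_eq_mul_left (pow_pos hp.out.pos 2) h1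
  have hbij : Function.Bijective f := (Nat.bijective_iff_injective_and_card f).mpr ⟨hinj, hcard⟩
  obtain ⟨a, ha⟩ := hbij.2 ⟨x, hx⟩
  obtain ⟨g, rfl⟩ := QuotientGroup.mk_surjective a
  rw [hf] at ha
  have h1 := congrArg Subtype.val ha
  change t⁻¹ * (g * t * g⁻¹) = x at h1
  exact ⟨g, by rw [← h1]; group⟩

theorem pow_notMem_of_index (h : MC P p n W) [hp : Fact p.Prime] {H : Subgroup P} (hH : H ≠ ⊤)
    (hW : W 2 ≤ H) {s : P} (hs : s ∉ H) {b : ℕ} (hb1 : 1 ≤ b) (hb2 : b ≤ p - 1) : s ^ b ∉ H := by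
  intro hsb
  apply hs
  have hp2 := hp.out.two_le
  -- `s ^ p ∈ W 2`?  use the order of `s` : a `p`-power
  have hcop : Nat.Coprime b p := by
    rw [Nat.coprime_comm, Nat.Prime.coprime_iff_not_dvd hp.out]
    exact Nat.not_dvd_of_pos_of_lt (by omega) (by omega)
  have hcard := h.card_group
  have hord : s ^ (p ^ n) = 1 := by rw [← hcard]; exact pow_card_eq_one'
  have hcop2 : Nat.Coprime b (p ^ n) := hcop.pow_right n
  have := Nat.Coprime.isCoprime hcop2
  obtain ⟨u, v, huv⟩ := this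
  have h1 : s = (s ^ b) ^ u * (s ^ (p ^ n)) ^ v := by
    rw [← zpow_natCast s b, ← zpow_natCast s (p ^ n), ← zpow_mul, ← zpow_mul, ← zpow_add]
    have : (b : ℤ) * u + ((p ^ n : ℕ) : ℤ) * v = 1 := by rw [← huv]; ring
    rw [this, zpow_one]
  rw [h1, hord, one_zpow, mul_one]
  exact zpow_mem hsb u

/-- a good element -/
theorem exists_good [Finite P] (h : MC P p n W) [hp : Fact p.Prime] (hp3 : 3 ≤ p) :
    ∃ s, s ∉ W 1 ∧ s ∉ h.Ksub (n - 2) ∧ ∀ i, 1 ≤ i → i ≤ n - 2 → s ∉ h.Ksub i := by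
  have h4 := h.four_le
  obtain ⟨s, hs1, hs2, -⟩ := exists_notMem_three hp3 h.card_group (W 1) (h.Ksub (n - 2)) (W 1)
    h.W1_ne_top (h.Ksub_ne_top' (by omega) (by omega)) h.W1_ne_top
  exact ⟨s, hs1, hs2, h.notMem_Ksub hp3 hs1 hs2⟩

/-- powers of a good element are good -/
theorem good_pow [Finite P] (h : MC P p n W) [hp : Fact p.Prime] (hp3 : 3 ≤ p) {s : P}
    (hs1 : s ∉ W 1) (hs2 : s ∉ h.Ksub (n - 2)) {b : ℕ} (hb1 : 1 ≤ b) (hb2 : b ≤ p - 1) :
    s ^ b ∉ W 1 ∧ s ^ b ∉ h.Ksub (n - 2) := by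
  have h4 := h.four_le
  exact ⟨h.pow_notMem_of_index h.W1_ne_top (h.le_succ 1) hs1 hb1 hb2,
    h.pow_notMem_of_index (h.Ksub_ne_top' (by omega) (by omega)) (h.W2_le_Ksub _) hs2 hb1 hb2⟩

/-- `(s ^ b x) ^ p = s ^ (b p)` for `s` good, `x ∈ W 2`. -/
theorem mul_pow_good [Finite P] (h : MC P p n W) [hp : Fact p.Prime] (hp3 : 3 ≤ p) {t x : P}
    (ht1 : t ∉ W 1) (ht2 : t ∉ h.Ksub (n - 2)) (hx : x ∈ W 2) : (t * x) ^ p = t ^ p := by
  have h4 := h.four_le
  have hall := h.notMem_Ksub hp3 ht1 ht2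
  obtain ⟨g, hg⟩ := h.exists_conj_eq hx (h.card_centralizer_of_notMem ht1 hall)
  rw [← hg, conj_pow]
  have h1 : t ^ p ∈ W (n - 1) :=
    h.pow_mem_of_notMem (by omega) (by omega) (fun i hi1 hi2 => hall i hi1 (by omega))
  rw [← (h.center_le h1 g).eq]
  group

theorem Dl_notMem (h : MC P p n W) [hp : Fact p.Prime] {s : P}
    (hs : ∀ i, 1 ≤ i → i ≤ n - 2 → s ∉ h.Ksub i) (l : ℕ) : ∀ {i : ℕ} {y : P}, 1 ≤ i →
    i + l < n → y ∈ W i → y ∉ W (i + 1) → (D s)^[l] y ∉ W (i + l + 1) := by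
  induction l with
  | zero => intro i y _ _ _ hy'; exact hy'
  | succ l ih =>
    intro i y hi hil hy hy'
    rw [Function.iterate_succ_apply]
    have h1 : D s y ∉ W (i + 1 + 1) := by
      intro hmem
      apply hs i hi (by omega)
      have h2 : ⁅y, s⁻¹⁆ ∈ W (i + 2) := by
        rw [← commutatorElement_inv]
        exact inv_mem hmem
      have h3 : s⁻¹ ∈ h.Ksub i := (h.mem_K_iff (by omega) hy hy' _).mpr h2
      exact (inv_mem_iff).mp h3
    have := ih (i := i + 1) (by omega) (by omega) (h.D_mem hy) h1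
    rwa [show i + (l + 1) + 1 = i + 1 + l + 1 by omega]

/-- the power structure, `2 ≤ j` -/
theorem pow_mem [Finite P] (h : MC P p n W) [hp : Fact p.Prime] (hp3 : 3 ≤ p) {j : ℕ} (hj : 2 ≤ j)
    {x : P} (hx : x ∈ W j) : x ^ p ∈ W (j + p - 1) := by
  obtain ⟨s, hs1, hs2, hs⟩ := h.exists_good hp3
  refine (h.power_formula (by omega) (s := s) hx ?_).1
  intro b hb1 hb2
  obtain ⟨g1, g2⟩ := h.good_pow hp3 hs1 hs2 hb1 hb2
  rw [h.mul_pow_good hp3 g1 g2 (h.antitone hj hx), ← pow_mul, inv_mul_cancel]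
  exact one_mem _

theorem pow_notMem [Finite P] (h : MC P p n W) [hp : Fact p.Prime] (hp3 : 3 ≤ p) {j : ℕ}
    (hj : 2 ≤ j) (hjn : j + p ≤ n) {x : P} (hx : x ∈ W j) (hx' : x ∉ W (j + 1)) :
    x ^ p ∉ W (j + p) := by
  obtain ⟨s, hs1, hs2, hs⟩ := h.exists_good hp3
  intro hmem
  have h1 := (h.power_formula (by omega) (s := s) hx (by
    intro b hb1 hb2
    obtain ⟨g1, g2⟩ := h.good_pow hp3 hs1 hs2 hb1 hb2
    rw [h.mul_pow_good hp3 g1 g2 (h.antitone hj hx), ← pow_mul, inv_mul_cancel]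
    exact one_mem _)).2 hmem
  have h2 := h.Dl_notMem hs (p - 1) (i := j) (by omega) (by omega) hx hx'
  rw [show j + (p - 1) + 1 = j + p by omega] at h2
  exact h2 h1

/-- A group of maximal class and order `p ^ (p + 1)` is not of exponent `p`. -/
theorem exists_pow_ne_one [Finite P] (h : MC P p n W) [hp : Fact p.Prime] (hp3 : 3 ≤ p)
    (hn : n = p + 1) : ∃ x : P, x ^ p ≠ 1 := by
  by_contra hcon
  push Not at hcon
  obtain ⟨s, hs1, hs2, hs⟩ := h.exists_good hp3
  obtain ⟨x, hx, hx'⟩ := h.ne_succ (i := 1) (by omega)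
  have h1 := (h.power_formula le_rfl (s := s) hx (by
    intro b _ _
    rw [hcon, pow_mul, hcon, inv_one, one_mul]
    exact one_mem _)).2 (by rw [hcon]; exact one_mem _)
  have h2 := h.Dl_notMem hs (p - 1) (i := 1) le_rfl (by omega) hx hx'
  rw [show 1 + (p - 1) + 1 = 1 + p by omega] at h2
  exact h2 h1

/-- Exceptional groups have even `n`. -/
theorem Ksub_last_of_odd [Finite P] (h : MC P p n W) [hp : Fact p.Prime] (hp3 : 3 ≤ p)
    (hodd : Odd n) : h.Ksub (n - 2) = W 1 := by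
  have h4 := h.four_le
  obtain ⟨s, hs1, hs2, hs⟩ := h.exists_good hp3
  apply h.eq_W1 _ (h.Ksub_ne_top' (by omega) (by omega))
  intro a ha
  by_cases ha' : a ∈ W 2
  · exact h.W2_le_Ksub _ ha'
  -- the elements `t s a i ∈ W (i + 1)`
  have ht := h.t_mem (s := s) ha
  have ht' : ∀ i, i ≤ n - 2 → t s a i ∉ W (i + 2) := by
    intro i
    induction i with
    | zero => intro _; exact ha'
    | succ i ih =>
      intro hi hmem
      exact hs (i + 1) (by omega) (by omega)
        ((h.mem_K_iff (by omega) (ht i) (ih (by omega)) _).mpr hmem)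
  have hpos : ∀ j, 2 ≤ j → j < n - 2 → ⁅W j, W 1⁆ ≤ W (j + 2) := fun j h1 h2 =>
    h.blackburn hp3 j h1 (by omega)
  have hdeg := h.deg hpos
  -- the recursion
  have hrec : ∀ i, i + 4 ≤ n → ⁅t s a (i + 1), t s a (n - 4 - i)⁆ * ⁅t s a i, t s a (n - 3 - i)⁆ = 1 := by
    intro i hi
    have hd := h.deriv (i := i + 1) (j := n - 4 - i + 1) (by omega) (by omega) (ht i)
      (ht (n - 4 - i)) s
    rw [show i + 1 + (n - 4 - i + 1) + 2 = n by omega, h.bot, Subgroup.mem_bot] at hd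
    have h1 : ⁅t s a i, t s a (n - 4 - i)⁆ ∈ W (n - 1) := by
      have := hdeg (n - 4 - i + 1) (i + 1) (by omega) (by omega) (by omega)
        (commutator_mem_commutator (ht i) (ht (n - 4 - i)))
      rwa [show i + 1 + (n - 4 - i + 1) + 1 = n - 1 by omega] at this
    have h2 : ⁅⁅t s a i, t s a (n - 4 - i)⁆, s⁆ = 1 :=
      (commutatorElement_eq_one_iff_commute).mpr (h.center_le h1 s)
    rw [h2, inv_one, one_mul] at hd
    have h3 : t s a (n - 3 - i) = ⁅t s a (n - 4 - i), s⁆ := by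
      rw [show n - 3 - i = n - 4 - i + 1 by omega, t_succ]
    rw [h3, t_succ]
    exact hd
  obtain ⟨m, hm⟩ := hodd
  have hup : ∀ i, m - 1 ≤ i → i ≤ n - 3 → ⁅t s a i, t s a (n - 3 - i)⁆ = 1 := by
    intro i hi
    induction i, hi using Nat.le_induction with
    | base =>
      intro _
      rw [show n - 3 - (m - 1) = m - 1 by omega, commutatorElement_self]
    | succ i hi ih =>
      intro hi2
      have h1 := hrec i (by omega)
      rw [ih (by omega), mul_one] at h1
      rwa [show n - 3 - (i + 1) = n - 4 - i by omega]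
  have hlast := hup (n - 3) (by omega) le_rfl
  rw [Nat.sub_self] at hlast
  have h1 := ht (n - 3)
  have h2 := ht' (n - 3) (by omega)
  rw [show n - 3 + 1 = n - 2 by omega] at h1
  rw [show n - 3 + 2 = n - 2 + 1 by omega] at h2
  apply (h.mem_K_iff (by omega) h1 h2 a).mpr
  change ⁅t s a (n - 3), a⁆ = 1 at hlast
  rw [hlast]
  exact one_mem _

theorem lcs_le (h : MC P p n W) [hp : Fact p.Prime] (i m : ℕ) :
    (W i).lowerCentralSeries (m + 1) ≤ W (i * (m + 2) + 1) := by
  induction m with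
  | zero =>
    have : (W i).lowerCentralSeries (0 + 1) = ⁅W i, W i⁆ := rfl
    rw [this, commutator_le]
    intro a ha b hb
    have := h.comm_self ha hb
    rwa [show i * (0 + 2) + 1 = 2 * i + 1 by ring]
  | succ m ih =>
    have : (W i).lowerCentralSeries (m + 1 + 1) = ⁅(W i).lowerCentralSeries (m + 1), W i⁆ := rfl
    rw [this]
    calc ⁅(W i).lowerCentralSeries (m + 1), W i⁆ ≤ ⁅W (i * (m + 2) + 1), W i⁆ :=
          commutator_mono ih le_rfl
      _ ≤ W (i * (m + 2) + 1 + i) := h.comm_comm _ _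
      _ = W (i * (m + 1 + 2) + 1) := by congr 1; ring

/-- Groups of maximal class and order at least `p ^ (p + 3)` are not exceptional. -/
theorem Ksub_last_of_le' [Finite P] (h : MC P p n W) [hp : Fact p.Prime] (hp3 : 3 ≤ p)
    (hn : p + 3 ≤ n) : h.Ksub (n - 2) = W 1 := by
  apply h.eq_W1 _ (h.Ksub_ne_top' (by omega) (by omega))
  intro y hy
  obtain ⟨i, hi⟩ : ∃ i, n = i + p + 1 := ⟨n - p - 1, by omega⟩
  have hi2 : 2 ≤ i := by omega
  obtain ⟨a, ha, ha'⟩ := h.ne_succ (i := i) (by omega)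
  have h1 := h.pow_mem hp3 hi2 ha
  have h2 := h.pow_notMem hp3 hi2 (by omega) ha ha'
  rw [show i + p - 1 = n - 2 by omega] at h1
  rw [show i + p = n - 2 + 1 by omega] at h2
  apply (h.mem_K_iff (by omega) h1 h2 y).mpr
  suffices ⁅a ^ p, y⁆ = 1 by rw [this]; exact one_mem _
  set c := ⁅a⁻¹, y⁆ with hc
  have hcW : c ∈ W (i + 2) :=
    h.blackburn hp3 i hi2 (by omega) (commutator_mem_commutator (inv_mem ha) hy)
  have hcp : c ^ p = 1 := by
    have := h.pow_mem hp3 (j := i + 2) (by omega) hcW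
    rwa [show i + 2 + p - 1 = n by omega, h.bot, Subgroup.mem_bot] at this
  have hconj : y * a * y⁻¹ = a * c := by
    rw [hc, commutatorElement_def]; group
  obtain ⟨d, hd, hdp⟩ := hall_petrescu a c (W i) ha (h.antitone (by omega) hcW) (p - 1)
  have hd' : ∀ k : Fin (p - 1), d k ^ (p.choose ((k : ℕ) + 2)) = 1 := by
    intro k
    have hk := k.2
    have hdW : d k ∈ W (i * ((k : ℕ) + 2) + 1) := h.lcs_le i k (hd k)
    rcases Nat.lt_or_ge ((k : ℕ) + 2) p with hkp | hkp
    · obtain ⟨q, hq⟩ := hp.out.dvd_choose_self (by omega) hkp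
      have h3 : d k ∈ W (i + 2) := h.antitone (by nlinarith) hdW
      have h4 := h.pow_mem hp3 (j := i + 2) (by omega) h3
      rw [show i + 2 + p - 1 = n by omega, h.bot, Subgroup.mem_bot] at h4
      rw [hq, pow_mul, h4, one_pow]
    · have h3 : (k : ℕ) + 2 = p := by omega
      have h5 : n ≤ i * ((k : ℕ) + 2) + 1 := by
        rw [h3, hi]
        obtain ⟨i', rfl⟩ : ∃ i', i = i' + 2 := ⟨i - 2, by omega⟩
        nlinarith
      have h4 : d k = 1 := by
        rw [← Subgroup.mem_bot, ← h.bot_of_le h5]; exact hdW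
      rw [h4, one_pow]
  have hprod : (List.ofFn fun k : Fin (p - 1) => d k ^ (p.choose ((k : ℕ) + 2))).prod = 1 := by
    apply List.prod_eq_one
    intro z hz
    rw [List.mem_ofFn] at hz
    obtain ⟨k, rfl⟩ := hz
    exact hd' k
  have h3 := hdp p (by omega)
  rw [hprod, mul_one, hcp, mul_one] at h3
  have h4 : y * a ^ p * y⁻¹ = a ^ p := by
    rw [← conj_pow, hconj, h3]
  rw [commutatorElement_eq_one_iff_mul_comm]
  calc a ^ p * y = y * a ^ p * y⁻¹ * y := by rw [h4]
    _ = y * a ^ p := by group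

/-- Exceptional groups have order at most `p ^ (p + 1)`. -/
theorem Ksub_last_of_le [Finite P] (h : MC P p n W) [hp : Fact p.Prime] (hp3 : 3 ≤ p)
    (hn : p + 2 ≤ n) : h.Ksub (n - 2) = W 1 := by
  rcases Nat.eq_or_lt_of_le hn with h1 | h1
  · apply h.Ksub_last_of_odd hp3
    rw [← h1]
    have : Odd p := hp.out.odd_of_ne_two (by omega)
    exact this.add_even (by decide)
  · exact h.Ksub_last_of_le' hp3 h1

/-- Positive degree of commutativity. -/
theorem deg_of_Ksub_last [Finite P] (h : MC P p n W) [hp : Fact p.Prime] (hp3 : 3 ≤ p)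
    (hK : h.Ksub (n - 2) = W 1) {i j : ℕ} (hi : 1 ≤ i) (hj : 1 ≤ j) :
    ⁅W i, W j⁆ ≤ W (i + j + 1) := by
  have h4 := h.four_le
  rcases Nat.lt_or_ge (i + j) n with h1 | h1
  · refine h.deg (k := n - 1) ?_ j i hi hj (by omega)
    intro m hm1 hm2
    rcases Nat.lt_or_ge m (n - 2) with h3 | h3
    · exact h.blackburn hp3 m hm1 (by omega)
    · have : m = n - 2 := by omega
      subst this
      rw [commutator_le]
      intro a ha b hb
      rw [← hK] at hb
      exact hb a ha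
  · refine (h.comm_comm j i).trans ?_
    rw [h.bot_of_le h1]
    exact bot_le

/-- All two-step centralizers coincide if `p + 2 ≤ n`. -/
theorem Ksub_eq_of_le [Finite P] (h : MC P p n W) [hp : Fact p.Prime] (hp3 : 3 ≤ p)
    (hn : p + 2 ≤ n) {i : ℕ} (h1 : 1 ≤ i) (h2 : i + 2 ≤ n) : h.Ksub i = W 1 := by
  rcases Nat.lt_or_ge i (n - 2) with h3 | h3
  · exact h.Ksub_eq hp3 h1 (by omega)
  · have : i = n - 2 := by omega
    rw [this]
    exact h.Ksub_last_of_le hp3 hn

/-- the hypothesis of the power formula for `j = 1` -/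
theorem mul_pow_one [Finite P] (h : MC P p n W) [hp : Fact p.Prime] (hp3 : 3 ≤ p)
    (hn : p + 2 ≤ n) {s x : P} (hs1 : s ∉ W 1) (hx : x ∈ W 1) (b : ℕ) (hb1 : 1 ≤ b)
    (hb2 : b ≤ p - 1) : (s ^ (b * p))⁻¹ * (s ^ b * x) ^ p ∈ W (1 + p) := by
  have key : ∀ t : P, t ∉ W 1 → t ^ p ∈ W (1 + p) := by
    intro t ht
    have h1 : t ^ p ∈ W (n - 1) := h.pow_mem_of_notMem (by omega) (by omega) (by
      intro i hi1 hi2
      rw [h.Ksub_eq_of_le hp3 hn hi1 (by omega)]
      exact ht)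
    exact h.antitone (by omega) h1
  have hsb : s ^ b ∉ W 1 := h.pow_notMem_of_index h.W1_ne_top (h.le_succ 1) hs1 hb1 hb2
  refine mul_mem (inv_mem ?_) (key _ ?_)
  · rw [pow_mul]; exact key _ hsb
  · intro hmem
    apply hsb
    have := mul_mem hmem (inv_mem hx)
    rwa [mul_inv_cancel_right] at this

/-- the power structure, `1 ≤ j`, `p + 2 ≤ n` -/
theorem pow_mem_one [Finite P] (h : MC P p n W) [hp : Fact p.Prime] (hp3 : 3 ≤ p)
    (hn : p + 2 ≤ n) {j : ℕ} (hj : 1 ≤ j) {x : P} (hx : x ∈ W j) : x ^ p ∈ W (j + p - 1) := by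
  rcases Nat.eq_or_lt_of_le hj with h1 | h1
  · obtain ⟨s, hs1, hs2, hs⟩ := h.exists_good hp3
    rw [← h1] at hx ⊢
    exact (h.power_formula le_rfl (s := s) hx (h.mul_pow_one hp3 hn hs1 hx)).1
  · exact h.pow_mem hp3 h1 hx

theorem pow_notMem_one [Finite P] (h : MC P p n W) [hp : Fact p.Prime] (hp3 : 3 ≤ p)
    (hn : p + 2 ≤ n) {j : ℕ} (hj : 1 ≤ j) (hjn : j + p ≤ n) {x : P} (hx : x ∈ W j)
    (hx' : x ∉ W (j + 1)) : x ^ p ∉ W (j + p) := by
  rcases Nat.eq_or_lt_of_le hj with h1 | h1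
  · subst h1
    obtain ⟨s, hs1, hs2, hs⟩ := h.exists_good hp3
    intro hmem
    have h1 := (h.power_formula le_rfl (s := s) hx (h.mul_pow_one hp3 hn hs1 hx)).2 hmem
    have h2 := h.Dl_notMem hs (p - 1) (i := 1) le_rfl (by omega) hx hx'
    rw [show 1 + (p - 1) + 1 = 1 + p by omega] at h2
    exact h2 h1
  · exact h.pow_notMem hp3 h1 hjn hx hx'

end MC

end Cfsg.Agent.H467.MaxClass
end
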