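import Cfsg.Agent.H786.XData_mg
import Cfsg.Agent.H786.TwoTr_mg
import Cfsg.Agent.H779.CoreThreeInv
set_option linter.all false

-- part: H467/XQuot
section
/-!
# The group of outer automorphisms in the exceptional core configuration (helper467; step (W3) of S5267)

`Gam B = B / Inn E`, its action on the invariant subgroups centralised by `E`, and the strongly embedded subgroup.
-/

set_option autoImplicit false

namespace Cfsg.Agent.H467.XThree

open Subgroup Cfsg.Agent.H467.MaxClass Cfsg.Agent.H785 Cfsg.Agent.H786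
open scoped commutatorElement

universe u

variable {P : Type u} [Group P] {E : Subgroup P}

/-- the inner automorphisms in `B` -/
def innB (B : Subgroup (MulAut E)) : Subgroup B := ((MulAut.conj : E →* MulAut E).range).subgroupOf B

instance innRange_normal : ((MulAut.conj : E →* MulAut E).range).Normal := by
  refine ⟨?_⟩
  rintro _ ⟨e, rfl⟩ g
  refine ⟨g e, ?_⟩
  apply MulEquiv.ext
  intro x
  rw [MulAut.mul_apply, MulAut.mul_apply, MulAut.conj_apply, MulAut.conj_apply, map_mul, map_mul, map_inv,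
    MulAut.apply_inv_self]

instance innB_normal (B : Subgroup (MulAut E)) : (innB B).Normal := by
  unfold innB
  infer_instance

/-- `B / Inn E` -/
abbrev Gam (B : Subgroup (MulAut E)) : Type u := ↥B ⧸ innB B

instance finiteMulAut [Finite P] : Finite (MulAut E) :=
  Finite.of_injective (fun f : MulAut E => (f : E → E)) DFunLike.coe_injective

/-- the automorphism of `U` induced by `g` -/
def resAut {B : Subgroup (MulAut E)} {U : Subgroup P} (hUE : U ≤ E) (hU : ZInv B U) (g : B) : MulAut U where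
  toFun u := ⟨(((g : MulAut E) ⟨u, hUE u.2⟩ : E) : P), hU g g.2 _ u.2⟩
  invFun u := ⟨(((g⁻¹ : MulAut E) ⟨u, hUE u.2⟩ : E) : P), hU _ (inv_mem g.2) _ u.2⟩
  left_inv u := by
    apply Subtype.ext
    show (((g⁻¹ : MulAut E) ((g : MulAut E) ⟨u, hUE u.2⟩) : E) : P) = u
    rw [MulAut.inv_apply_self]
  right_inv u := by
    apply Subtype.ext
    show (((g : MulAut E) ((g⁻¹ : MulAut E) ⟨u, hUE u.2⟩) : E) : P) = u
    rw [MulAut.apply_inv_self]
  map_mul' u v := by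
    apply Subtype.ext
    show (((g : MulAut E) (⟨u, hUE u.2⟩ * ⟨v, hUE v.2⟩) : E) : P) = _
    rw [map_mul]
    rfl

theorem resAut_apply {B : Subgroup (MulAut E)} {U : Subgroup P} (hUE : U ≤ E) (hU : ZInv B U) (g : B) (u : U) :
    ((resAut hUE hU g u : U) : P) = (((g : MulAut E) ⟨u, hUE u.2⟩ : E) : P) := rfl

/-- the action of `B` on `U` -/
def resHom {B : Subgroup (MulAut E)} {U : Subgroup P} (hUE : U ≤ E) (hU : ZInv B U) : ↥B →* MulAut U where
  toFun g := resAut hUE hU g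
  map_one' := rfl
  map_mul' _ _ := rfl

/-- the action of `B / Inn E` on `U` -/
def rho {B : Subgroup (MulAut E)} {U : Subgroup P} (hUE : U ≤ E) (hU : ZInv B U)
    (hc : ∀ u ∈ U, ∀ e ∈ E, Commute e u) : Gam B →* MulAut U :=
  QuotientGroup.lift (innB B) (resHom hUE hU) (by
    rintro ⟨g, hg⟩ hgi
    obtain ⟨e, he⟩ := mem_subgroupOf.mp hgi
    apply MulEquiv.ext
    intro u
    apply Subtype.ext
    show ((g ⟨u, hUE u.2⟩ : E) : P) = u
    have he' : MulAut.conj e = g := he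
    rw [← he', MulAut.conj_apply]
    show (e : P) * u * (e : P)⁻¹ = u
    rw [(hc u u.2 e e.2).eq, mul_inv_cancel_right])

theorem rho_mk {B : Subgroup (MulAut E)} {U : Subgroup P} (hUE : U ≤ E) (hU : ZInv B U)
    (hc : ∀ u ∈ U, ∀ e ∈ E, Commute e u) (g : B) (u : U) :
    ((rho hUE hU hc (QuotientGroup.mk' (innB B) g) u : U) : P) = (((g : MulAut E) ⟨u, hUE u.2⟩ : E) : P) := rfl

/-- the homomorphism `N_P(E) → B / Inn E` -/
def tau {B : Subgroup (MulAut E)} (hB : ∀ s, E.normalizerMonoidHom s ∈ B) : (normalizer (E : Set P)) →* Gam B :=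
  (QuotientGroup.mk' (innB B)).comp (E.normalizerMonoidHom.codRestrict B hB)

theorem nmh_apply (s : normalizer (E : Set P)) (e : E) :
    ((E.normalizerMonoidHom s e : E) : P) = (s : P) * (e : P) * (s : P)⁻¹ := rfl

theorem tau_mk {B : Subgroup (MulAut E)} (hB : ∀ s, E.normalizerMonoidHom s ∈ B) (s : normalizer (E : Set P)) :
    tau hB s = QuotientGroup.mk' (innB B) ⟨E.normalizerMonoidHom s, hB s⟩ := rfl

theorem rho_tau {B : Subgroup (MulAut E)} (hB : ∀ s, E.normalizerMonoidHom s ∈ B) {U : Subgroup P} (hUE : U ≤ E)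
    (hU : ZInv B U) (hc : ∀ u ∈ U, ∀ e ∈ E, Commute e u) (s : normalizer (E : Set P)) (u : U) :
    ((rho hUE hU hc (tau hB s) u : U) : P) = (s : P) * (u : P) * (s : P)⁻¹ := rfl

/-- equality in `B / Inn E` -/
theorem mk_eq_iff {B : Subgroup (MulAut E)} {g h : B} :
    QuotientGroup.mk' (innB B) g = QuotientGroup.mk' (innB B) h ↔ ∃ e : E, (h : MulAut E) = g * MulAut.conj e := by
  rw [QuotientGroup.mk'_eq_mk']
  constructor
  · rintro ⟨z, hz, e1⟩
    obtain ⟨e, he⟩ := mem_subgroupOf.mp hz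
    refine ⟨e, ?_⟩
    have he' : MulAut.conj e = (z : MulAut E) := he
    rw [← e1, he']
    rfl
  · rintro ⟨e, he⟩
    refine ⟨g⁻¹ * h, ?_, mul_inv_cancel_left _ _⟩
    rw [innB, mem_subgroupOf]
    refine ⟨e, ?_⟩
    rw [Subgroup.coe_mul, Subgroup.coe_inv, he, inv_mul_cancel_left]

/-- the elements of `E` as elements of the normalizer -/
def ofE (e : E) : normalizer (E : Set P) := ⟨e, le_normalizer e.2⟩

theorem nmh_ofE (e : E) : E.normalizerMonoidHom (ofE e) = MulAut.conj e := by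
  apply MulEquiv.ext
  intro x
  rfl

variable {p n : ℕ} {W : ℕ → Subgroup P} [hW1 : (W 1).Normal] {A : Subgroup (MulAut (W 1))}
  {B H : Subgroup (MulAut E)}

theorem mem_B (c : CfgX p n W A E B H) (s : normalizer (E : Set P)) : E.normalizerMonoidHom s ∈ B :=
  c.H_le (c.conj_mem s)

theorem conj_H (c : CfgX p n W A E B H) (e : E) : MulAut.conj e ∈ H := by
  rw [← nmh_ofE]
  exact c.conj_mem _

/-- the image of `H` -/
def Hbar (B H : Subgroup (MulAut E)) : Subgroup (Gam B) := (H.subgroupOf B).map (QuotientGroup.mk' (innB B))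

theorem mk_mem_Hbar (c : CfgX p n W A E B H) {g : B} :
    QuotientGroup.mk' (innB B) g ∈ Hbar B H ↔ (g : MulAut E) ∈ H := by
  constructor
  · rintro ⟨h, hh, e⟩
    obtain ⟨x, hx⟩ := mk_eq_iff.mp e
    rw [hx]
    exact mul_mem (mem_subgroupOf.mp hh) (conj_H c x)
  · intro h
    exact ⟨g, mem_subgroupOf.mpr h, rfl⟩

theorem tau_eq_one (c : CfgX p n W A E B H) {s : normalizer (E : Set P)} :
    tau (mem_B c) s = 1 ↔ (s : P) ∈ E := by
  have h1 : tau (mem_B c) s = 1 ↔ ∃ e : E, (E.normalizerMonoidHom s : MulAut E) = MulAut.conj e := by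
    have h2 : (1 : Gam B) = QuotientGroup.mk' (innB B) 1 := (map_one _).symm
    rw [tau_mk, h2, eq_comm, mk_eq_iff]
    simp only [Subgroup.coe_one, one_mul]
  rw [h1]
  constructor
  · rintro ⟨e, he⟩
    have h3 : (e : P)⁻¹ * s ∈ E := by
      apply c.cent
      intro x hx
      have h4 := congrArg (fun f : MulAut E => ((f ⟨x, hx⟩ : E) : P)) he
      have h5 : (s : P) * x * (s : P)⁻¹ = (e : P) * x * (e : P)⁻¹ := h4
      have h6 : (s : P) * x = (e : P) * x * (e : P)⁻¹ * s := by rw [← h5]; group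
      show (e : P)⁻¹ * s * x = x * ((e : P)⁻¹ * s)
      rw [mul_assoc, h6]
      group
    have h4 := mul_mem e.2 h3
    rwa [mul_inv_cancel_left] at h4
  · intro h
    refine ⟨⟨s, h⟩, ?_⟩
    rw [← nmh_ofE]
    rfl

theorem se [Finite P] [Fact p.Prime] (c : CfgX p n W A E B H) : SE p (Hbar B H) (tau (mem_B c)).range where
  le := by
    rintro _ ⟨s, rfl⟩
    rw [tau_mk, mk_mem_Hbar c]
    exact c.conj_mem s
  pgroup := by
    have h1 : IsPGroup p P := IsPGroup.of_card c.mc.card_group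
    exact (h1.to_subgroup _).of_surjective (tau (mem_B c)).rangeRestrict (MonoidHom.rangeRestrict_surjective _)
  index := by
    intro hd
    apply c.sylowB
    have h1 : (tau (mem_B c)).range = ((E.normalizerMonoidHom.range).subgroupOf B).map (QuotientGroup.mk' (innB B)) := by
      ext x
      constructor
      · rintro ⟨s, rfl⟩
        exact ⟨⟨E.normalizerMonoidHom s, mem_B c s⟩, mem_subgroupOf.mpr ⟨s, rfl⟩, rfl⟩
      · rintro ⟨⟨g, hg⟩, hg', rfl⟩
        obtain ⟨s, hs⟩ := mem_subgroupOf.mp hg'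
        refine ⟨s, ?_⟩
        rw [tau_mk]
        congr 1
        exact Subtype.ext hs
    rw [h1] at hd
    exact hd.trans (index_map_dvd _ (QuotientGroup.mk'_surjective _))
  emb := by
    rintro g hg _ ⟨s, rfl⟩ hs
    obtain ⟨g, rfl⟩ := QuotientGroup.mk'_surjective (innB B) g
    rw [mk_mem_Hbar c] at hg
    rw [tau_mk, ← map_inv, ← map_mul, ← map_mul, mk_mem_Hbar c] at hs
    rw [tau_eq_one c]
    exact c.emb g g.2 hg s hs
  ne := by
    intro h
    apply c.H_ne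
    apply le_antisymm c.H_le
    intro g hg
    have h1 : QuotientGroup.mk' (innB B) ⟨g, hg⟩ ∈ Hbar B H := by rw [h]; trivial
    exact (mk_mem_Hbar c).mp h1

end Cfsg.Agent.H467.XThree
end

-- part: H467/XPlane
section
/-!
# Conjugate transvections generate a plane (helper467; step (W3) of S5267)

`Γ` with a strongly embedded subgroup `H` acts on the abelian group `A`, `z` induces a transvection whose centre is
invariant under `H`, and `A` is generated by the conjugates of the centre. Then `A` is generated by two of them.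
-/

set_option autoImplicit false

namespace Cfsg.Agent.H467.XThree

open Subgroup Cfsg.Agent.H785 Cfsg.Agent.H786

variable {Γ : Type*} [Group Γ] [Finite Γ] {p : ℕ} [hp : Fact p.Prime] {H R : Subgroup Γ}
  {A : Type*} [CommGroup A] [Finite A] {ρ : Γ →* MulAut A}

/-- all lines of the plane are conjugate to the centre -/
theorem lines (h : SE p H R) (hρ : ρ.ker ≤ H) {z : Γ} (hz : z ∈ H) (hzp : IsPGroup p (zpowers z))
    (hcard : Nat.card (com (ρ z)) = p) (hcf : com (ρ z) ≤ fix (ρ z)) {g : Γ} (hg : g ∉ H) {x : A}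
    (hx : x ∈ com (ρ z) ⊔ com (ρ (g * z * g⁻¹))) : ∃ γ : Γ, ρ γ x ∈ com (ρ z) := by
  have htw := h.tw hρ hz hzp hcard hcf hg
  by_cases hx' : x ∈ com (ρ (g * z * g⁻¹))
  · rw [map_mul, map_mul, map_inv, mem_com_conj] at hx'
    exact ⟨g⁻¹, by rw [map_inv]; exact hx'⟩
  · obtain ⟨m, hm⟩ := htw.exists_move hx hx'
    exact ⟨(g * z * g⁻¹) ^ m, by rw [map_zpow]; exact hm⟩

theorem plane (h : SE p H R) (hρ : ρ.ker ≤ H) {z : Γ} (hz : z ∈ H) (hzp : IsPGroup p (zpowers z))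
    (hcard : Nat.card (com (ρ z)) = p) (hcf : com (ρ z) ≤ fix (ρ z))
    (hH : ∀ h ∈ H, ∀ x ∈ com (ρ z), ρ h x ∈ com (ρ z))
    (hgen : ∀ U : Subgroup A, (∀ g : Γ, ∀ x ∈ com (ρ z), ρ g x ∈ U) → U = ⊤)
    {g : Γ} (hg : g ∉ H) : com (ρ z) ⊔ com (ρ (g * z * g⁻¹)) = ⊤ := by
  have htw := h.tw hρ hz hzp hcard hcf hg
  apply hgen
  intro g2 x hx
  by_contra hcon
  set U := com (ρ z) ⊔ com (ρ (g * z * g⁻¹)) with hU
  have hconj : ∀ (g : Γ) (y : A), y ∈ com (ρ (g * z * g⁻¹)) ↔ ρ g⁻¹ y ∈ com (ρ z) := by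
    intro g y
    rw [map_mul, map_mul, map_inv, mem_com_conj]
  -- `g1 = g⁻¹ g2` moves the centre
  have hg1 : g⁻¹ * g2 ∉ H := by
    intro h1
    apply hcon
    apply (le_sup_right : com (ρ (g * z * g⁻¹)) ≤ U)
    rw [hconj]
    have h2 := hH _ h1 x hx
    rwa [map_mul, MulAut.mul_apply] at h2
  have hnt : Nontrivial (com (ρ (g * z * g⁻¹))) := by
    rw [← Finite.one_lt_card_iff_nontrivial, htw.cs']
    exact hp.out.one_lt
  obtain ⟨⟨y, hy⟩, hy1⟩ := exists_ne (1 : com (ρ (g * z * g⁻¹)))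
  have hy1' : y ≠ 1 := fun e => hy1 (Subtype.ext e)
  have hd : del (ρ z) y ≠ 1 := fun e => hy1' (htw.inf' y hy e)
  obtain ⟨m, hm⟩ := exists_zpow_eq hcard (del_mem_com (ρ z) y) hd
    (inv_mem (del_mem_com (ρ z) (ρ g2 x)))
  have hxf : ρ g2 x * y ^ m ∈ fix (ρ z) := by
    show del (ρ z) (ρ g2 x * y ^ m) = 1
    rw [map_mul, map_zpow, hm, mul_inv_cancel]
  have hyU : y ^ m ∈ com (ρ (g * z * g⁻¹)) := zpow_mem hy m
  have hx1 : ρ g2 x * y ^ m ≠ 1 := by
    intro e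
    apply hcon
    apply (le_sup_right : com (ρ (g * z * g⁻¹)) ≤ U)
    rw [eq_inv_of_mul_eq_one_left e]
    exact inv_mem hyU
  -- conjugate into the centre
  obtain ⟨γ, hγ⟩ : ∃ γ : Γ, ρ γ (ρ g2 x * y ^ m) ∈ com (ρ z) := by
    have h1 : ρ g⁻¹ (ρ g2 x * y ^ m) ∈ com (ρ z) ⊔ com (ρ (g⁻¹ * g2 * z * (g⁻¹ * g2)⁻¹)) := by
      rw [map_mul (ρ g⁻¹)]
      apply mul_mem
      · apply (le_sup_right : com (ρ (g⁻¹ * g2 * z * (g⁻¹ * g2)⁻¹)) ≤ _)
        rw [hconj, mul_inv_rev, inv_inv, map_mul, MulAut.mul_apply, map_inv ρ g, MulAut.apply_inv_self,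
          map_inv ρ g2, MulAut.inv_apply_self]
        exact hx
      · apply (le_sup_left : com (ρ z) ≤ _)
        exact (hconj g _).mp hyU
    obtain ⟨γ, hγ⟩ := lines h hρ hz hzp hcard hcf hg1 h1
    exact ⟨γ * g⁻¹, by rw [map_mul ρ, MulAut.mul_apply]; exact hγ⟩
  have h3 : ρ g2 x * y ^ m ∈ com (ρ z) := by
    by_cases hγH : γ⁻¹ ∈ H
    · have h1 := hH _ hγH _ hγ
      rwa [map_inv, MulAut.inv_apply_self] at h1
    · exfalso
      apply hx1
      apply (h.tw hρ hz hzp hcard hcf hγH).inf' _ _ hxf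
      rw [hconj, inv_inv]
      exact hγ
  apply hcon
  have h4 : ρ g2 x = (ρ g2 x * y ^ m) * (y ^ m)⁻¹ := by rw [mul_inv_cancel_right]
  rw [h4]
  exact mul_mem ((le_sup_left : com (ρ z) ≤ U) h3) (inv_mem ((le_sup_right : _ ≤ U) hyU))

/-- in a plane the axis is the centre -/
theorem fix_le_com (h : SE p H R) (hρ : ρ.ker ≤ H) {z : Γ} (hz : z ∈ H) (hzp : IsPGroup p (zpowers z))
    (hcard : Nat.card (com (ρ z)) = p) (hcf : com (ρ z) ≤ fix (ρ z)) {g : Γ} (hg : g ∉ H)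
    (htop : com (ρ z) ⊔ com (ρ (g * z * g⁻¹)) = ⊤) : fix (ρ z) ≤ com (ρ z) := by
  have htw := h.tw hρ hz hzp hcard hcf hg
  intro x hx
  have hxt : x ∈ com (ρ z) ⊔ com (ρ (g * z * g⁻¹)) := by rw [htop]; trivial
  obtain ⟨y, hy, w, hw, rfl⟩ := mem_sup.mp hxt
  have hw' : w ∈ fix (ρ z) := ((fix (ρ z)).mul_mem_cancel_left (hcf hy)).mp hx
  rw [htw.inf' w hw hw', mul_one]
  exact hy

end Cfsg.Agent.H467.XThree
end

-- part: H467/XVZero
section
/-!
# The invariant subgroup generated by the centre (helper467; step (W3) of S5267)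
-/

set_option autoImplicit false

namespace Cfsg.Agent.H467.XThree

open Subgroup Cfsg.Agent.H467.MaxClass Cfsg.Agent.H785 Cfsg.Agent.H786
open scoped commutatorElement

universe u

variable {P : Type u} [Group P]

/-- Exceptional groups have even `n` with `6 ≤ n ≤ p + 1`. -/
theorem six_le {p n : ℕ} {W : ℕ → Subgroup P} [Finite P] [hp : Fact p.Prime] (mc : MC P p n W) (hp3 : 3 ≤ p)
    (exc : mc.Ksub (n - 2) ≠ W 1) : Even n ∧ 6 ≤ n ∧ n ≤ p + 1 := by
  have h4 := mc.four_le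
  have heven : Even n := by
    by_contra hodd
    exact exc (mc.Ksub_last_of_odd hp3 (Nat.not_even_iff_odd.mp hodd))
  have hn4 : n ≠ 4 := by
    intro e
    apply exc
    apply mc.eq_W1
    · intro y hy w hw
      rw [e] at hw ⊢
      exact mc.two (commutator_mem_commutator hw hy)
    · exact mc.Ksub_ne_top' (by omega) (by omega)
  refine ⟨heven, ?_, ?_⟩
  · obtain ⟨k, hk⟩ := heven
    omega
  · by_contra hcon
    exact exc (mc.Ksub_last_of_le hp3 (by omega))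

variable {E : Subgroup P}

/-- the subgroup generated by the images of `Z` under `B` -/
def vz (B : Subgroup (MulAut E)) (Z : Subgroup P) : Subgroup P :=
  Subgroup.closure {x | ∃ g ∈ B, ∃ e : E, (e : P) ∈ Z ∧ ((g e : E) : P) = x}

theorem vz_inv (B : Subgroup (MulAut E)) (Z : Subgroup P) : ZInv B (vz B Z) := by
  intro g hg e he
  have key : vz B Z ≤ (((vz B Z).subgroupOf E).comap g.toMonoidHom).map E.subtype := by
    rw [vz, Subgroup.closure_le]
    rintro _ ⟨g', hg', e', he', rfl⟩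
    refine ⟨g' e', ?_, rfl⟩
    show ((g (g' e') : E) : P) ∈ Subgroup.closure _
    apply Subgroup.subset_closure
    exact ⟨g * g', mul_mem hg hg', e', he', rfl⟩
  obtain ⟨e', he', e1⟩ := key he
  have e2 : e' = e := Subtype.ext e1
  rw [← e2]
  exact he'

theorem le_vz {B : Subgroup (MulAut E)} {Z : Subgroup P} (hZ : Z ≤ E) : Z ≤ vz B Z := by
  intro x hx
  exact Subgroup.subset_closure ⟨1, one_mem _, ⟨x, hZ hx⟩, hx, rfl⟩

/-- the central elements of exponent `p` -/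
def om (E : Subgroup P) (p : ℕ) : Subgroup P where
  carrier := {x | x ∈ E ∧ (∀ e ∈ E, Commute e x) ∧ x ^ p = 1}
  one_mem' := ⟨one_mem _, fun e _ => Commute.one_right e, one_pow _⟩
  mul_mem' := by
    rintro x y ⟨h1, h2, h3⟩ ⟨h1', h2', h3'⟩
    refine ⟨mul_mem h1 h1', fun e he => (h2 e he).mul_right (h2' e he), ?_⟩
    rw [(h2' x h1).mul_pow, h3, h3', one_mul]
  inv_mem' := by
    rintro x ⟨h1, h2, h3⟩
    exact ⟨inv_mem h1, fun e he => (h2 e he).inv_right, by rw [inv_pow, h3, inv_one]⟩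

theorem vz_le_om {B : Subgroup (MulAut E)} {Z : Subgroup P} {p : ℕ} (hZ : Z ≤ om E p) : vz B Z ≤ om E p := by
  rw [vz, Subgroup.closure_le]
  rintro _ ⟨g, hg, e, he, rfl⟩
  obtain ⟨h1, h2, h3⟩ := hZ he
  refine ⟨SetLike.coe_mem _, fun x hx => ?_, ?_⟩
  · obtain ⟨x', hx'⟩ := g.surjective ⟨x, hx⟩
    have h4 : e * x' = x' * e := Subtype.ext (h2 x' x'.2).symm
    have h5 := congrArg g h4
    rw [map_mul, map_mul, hx'] at h5
    exact (congrArg Subtype.val h5).symm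
  · have h4 : e ^ p = 1 := Subtype.ext h3
    have h5 := congrArg g h4
    rw [map_pow, map_one] at h5
    exact congrArg Subtype.val h5

variable {p n : ℕ} {W : ℕ → Subgroup P} [hW1 : (W 1).Normal] {A : Subgroup (MulAut (W 1))}
  {B H : Subgroup (MulAut E)}

/-- `H` preserves the centre of `P` -/
theorem H_Z (c : CfgX p n W A E B H) {h : MulAut E} (hh : h ∈ H) {e : E} (he : (e : P) ∈ W (n - 1)) :
    ((h e : E) : P) ∈ W (n - 1) := by
  obtain ⟨a, ha, h1⟩ := c.ext h hh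
  rw [← h1]
  exact aInv_iff.mp c.Z_inv a ha _ (c.E_le e.2) he

variable [Finite P] [hp : Fact p.Prime]

omit [Finite P] hp in
theorem Z_le (c : CfgX p n W A E B H) : W (n - 1) ≤ om E p := by
  intro x hx
  have h4 := c.mc.four_le
  have hc : ∀ y, Commute x y := fun y => c.mc.center_le hx y
  refine ⟨c.cent x fun e _ => hc e, fun e _ => (hc e).symm, ?_⟩
  have h1 := c.mc.card_W 1 (by omega)
  rw [pow_one] at h1
  have h2 : (⟨x, hx⟩ : W (n - 1)) ^ Nat.card (W (n - 1)) = 1 := pow_card_eq_one'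
  rw [h1] at h2
  exact congrArg Subtype.val h2

/-- **Lemma F.** -/
theorem faithful (c : CfgX p n W A E B H) (h : ¬ ZInv B (W (n - 1))) {U : Subgroup P} (hUE : U ≤ E)
    (hU : ZInv B U) (hc : ∀ u ∈ U, ∀ e ∈ E, Commute e u) (hZU : W (n - 1) ≤ U)
    {s : normalizer (E : Set P)} (hs : ∀ u ∈ U, Commute (s : P) u) : (s : P) ∈ E := by
  by_contra hsE
  apply h
  have hs1 : tau (mem_B c) s ≠ 1 := fun e => hsE ((tau_eq_one c).mp e)
  have hsk : tau (mem_B c) s ∈ (rho hUE hU hc).ker := by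
    rw [MonoidHom.mem_ker]
    apply MulEquiv.ext
    intro u
    apply Subtype.ext
    rw [rho_tau, (hs u u.2).eq, mul_inv_cancel_right]
    rfl
  intro g hg e he
  obtain ⟨y, hy, k, hk, e1⟩ := (se c).frattini hsk ⟨s, rfl⟩ hs1 (QuotientGroup.mk' (innB B) ⟨g, hg⟩)
  obtain ⟨k, rfl⟩ := QuotientGroup.mk'_surjective (innB B) k
  rw [mk_mem_Hbar c] at hk
  have e2 := rho_mk hUE hU hc ⟨g, hg⟩ ⟨e, hZU he⟩
  rw [e1, map_mul, MonoidHom.mem_ker.mp hy, one_mul, rho_mk] at e2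
  have e3 : ((g e : E) : P) = (((k : MulAut E) e : E) : P) := e2.symm
  rw [e3]
  exact H_Z c hk he

/-- `E` is the centralizer -/
theorem mem_E_of_cent (c : CfgX p n W A E B H) (h : ¬ ZInv B (W (n - 1))) {U : Subgroup P} (hUE : U ≤ E)
    (hU : ZInv B U) (hc : ∀ u ∈ U, ∀ e ∈ E, Commute e u) (hZU : W (n - 1) ≤ U)
    {s : P} (hs : ∀ u ∈ U, Commute s u) : s ∈ E := by
  by_contra hsE
  set C : Subgroup P := Subgroup.centralizer (U : Set P) with hC
  have hmemC : ∀ x, x ∈ C ↔ ∀ v ∈ U, Commute x v := by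
    intro x
    rw [hC, mem_centralizer_iff]
    exact ⟨fun h v hv => (h v hv).symm, fun h v hv => (h v hv).symm⟩
  have hEC : E ≤ C := fun e he => (hmemC e).mpr (fun v hv => hc v hv e he)
  have hlt : E.subgroupOf C < ⊤ := by
    rw [lt_top_iff_ne_top]
    intro h
    rw [subgroupOf_eq_top] at h
    exact hsE (h ((hmemC s).mpr hs))
  have hpP : IsPGroup p P := IsPGroup.of_card c.mc.card_group
  have hnil : Group.IsNilpotent C := (hpP.to_subgroup C).isNilpotent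
  have h1 := Group.normalizerCondition_of_isNilpotent (G := C) _ hlt
  obtain ⟨⟨y, hyC⟩, hy, hy'⟩ := SetLike.exists_of_lt h1
  apply hy'
  rw [mem_subgroupOf]
  have hyN : y ∈ normalizer (E : Set P) := by
    rw [mem_normalizer_iff] at hy ⊢
    intro e
    constructor
    · intro he
      have := (hy ⟨e, hEC he⟩).mp (mem_subgroupOf.mpr he)
      simpa [mem_subgroupOf] using this
    · intro he
      have heC : e ∈ C := by
        have := C.mul_mem (C.mul_mem (C.inv_mem hyC) (hEC he)) hyC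
        have e2 : y⁻¹ * (y * e * y⁻¹) * y = e := by group
        rwa [e2] at this
      have := (hy ⟨e, heC⟩).mpr (mem_subgroupOf.mpr (by simpa using he))
      exact mem_subgroupOf.mp this
  exact faithful c h hUE hU hc hZU (s := ⟨y, hyN⟩) ((hmemC y).mp hyC)

end Cfsg.Agent.H467.XThree
end

-- part: H467/XThree
section
/-!
# Step (W3) of the exceptional case of S5267 (helper467)
-/

set_option autoImplicit false

namespace Cfsg.Agent.H467.XThree

open Subgroup Cfsg.Agent.H467.MaxClass Cfsg.Agent.H785 Cfsg.Agent.H786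
open scoped commutatorElement

universe u

variable {P : Type u} [Group P] {E : Subgroup P} {p n : ℕ} {W : ℕ → Subgroup P} [hW1 : (W 1).Normal]
  {A : Subgroup (MulAut (W 1))} {B H : Subgroup (MulAut E)}

theorem mem_norm (c : CfgX p n W A E B H) {j : ℕ} (hE : ⁅W j, W 1⁆ ≤ E) {s : P} (hs : s ∈ W j) :
    s ∈ normalizer (E : Set P) := by
  have key : ∀ s ∈ W j, ∀ e ∈ E, s * e * s⁻¹ ∈ E := by
    intro s hs e he
    have h1 : ⁅s, e⁆ ∈ E := hE (commutator_mem_commutator hs (c.E_le he))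
    have e1 : s * e * s⁻¹ = ⁅s, e⁆ * e := by simp only [commutatorElement_def]; group
    rw [e1]
    exact mul_mem h1 he
  rw [mem_normalizer_iff]
  intro e
  refine ⟨fun he => key s hs e he, fun he => ?_⟩
  have := key s⁻¹ (inv_mem hs) _ he
  have e2 : s⁻¹ * (s * e * s⁻¹) * s⁻¹⁻¹ = e := by group
  rwa [e2] at this

variable [Finite P] [hp : Fact p.Prime]

omit [Finite P] hp in
/-- the index `a` of the invariant subgroup generated by the centre -/
theorem exists_a (c : CfgX p n W A E B H) (h : ¬ ZInv B (W (n - 1))) :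
    ∃ a, 1 ≤ a ∧ a + 2 ≤ n ∧ vz B (W (n - 1)) ≤ W a ∧ ∃ v ∈ vz B (W (n - 1)), v ∉ W (a + 1) := by
  classical
  have h4 := c.mc.four_le
  have hUom : vz B (W (n - 1)) ≤ om E p := vz_le_om (Z_le c)
  have hUW1 : vz B (W (n - 1)) ≤ W 1 := fun u hu => c.E_le (hUom hu).1
  have hZU : W (n - 1) ≤ vz B (W (n - 1)) := le_vz fun x hx => (Z_le c hx).1
  have hlast : ¬ vz B (W (n - 1)) ≤ W (n - 2 + 1) := by
    intro hle
    apply h
    rw [show n - 2 + 1 = n - 1 by omega] at hle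
    rw [le_antisymm hZU hle]
    exact vz_inv B _
  have hex : ∃ j, ¬ vz B (W (n - 1)) ≤ W (j + 1) := ⟨n - 2, hlast⟩
  have h1 : ¬ vz B (W (n - 1)) ≤ W (Nat.find hex + 1) := Nat.find_spec hex
  have ha1 : 1 ≤ Nat.find hex := by
    by_contra h0
    have h2 : Nat.find hex = 0 := by omega
    rw [h2] at h1
    exact h1 hUW1
  have han : Nat.find hex ≤ n - 2 := Nat.find_min' hex hlast
  refine ⟨Nat.find hex, ha1, by omega, ?_, ?_⟩
  · have := Nat.find_min hex (m := Nat.find hex - 1) (by omega)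
    rw [not_not, show Nat.find hex - 1 + 1 = Nat.find hex by omega] at this
    exact this
  · by_contra hcon
    push Not at hcon
    exact h1 hcon

omit [Finite P] hp in
/-- the least `t` with `W t ≤ E` -/
theorem exists_t (c : CfgX p n W A E B H) : ∃ t, 2 ≤ t ∧ t + 1 ≤ n ∧ W t ≤ E ∧ ∃ z ∈ W (t - 1), z ∉ E := by
  classical
  have h4 := c.mc.four_le
  have hZE : W (n - 1) ≤ E := fun x hx => (Z_le c hx).1
  have hex : ∃ j, W j ≤ E := ⟨n - 1, hZE⟩
  have h1 : W (Nat.find hex) ≤ E := Nat.find_spec hex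
  have h2 : Nat.find hex ≤ n - 1 := Nat.find_min' hex hZE
  have h3 : 2 ≤ Nat.find hex := by
    by_contra h0
    have h5 : W 1 ≤ E := (c.mc.antitone (by omega)).trans h1
    exact c.E_ne (le_antisymm c.E_le h5)
  refine ⟨Nat.find hex, h3, by omega, h1, ?_⟩
  have := Nat.find_min hex (m := Nat.find hex - 1) (by omega)
  by_contra hcon
  push Not at hcon
  exact this hcon

/-- **Step (W3).** -/
theorem exists_xdata (c : CfgX p n W A E B H) (h : ¬ ZInv B (W (n - 1))) :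
    ∃ (a t l : ℕ) (v z : P) (k : MulAut E), XData p n W E B H a t l v z k := by
  classical
  have hp5 := c.five
  have hp3 : 3 ≤ p := by omega
  obtain ⟨-, h6, -⟩ := six_le c.mc hp3 c.exc
  have hpP : IsPGroup p P := IsPGroup.of_card c.mc.card_group
  obtain ⟨a, ha1, han, hUa, v, hvU, hva⟩ := exists_a c h
  obtain ⟨t, ht2, htn, hWtE, z, hzW, hzE⟩ := exists_t c
  have hZE : W (n - 1) ≤ E := fun x hx => (Z_le c hx).1
  have hZU : W (n - 1) ≤ vz B (W (n - 1)) := le_vz hZE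
  have hUinv : ZInv B (vz B (W (n - 1))) := vz_inv B _
  have hUgen : ∀ X : Subgroup P, (∀ g ∈ B, ∀ e : E, (e : P) ∈ W (n - 1) → ((g e : E) : P) ∈ X) →
      vz B (W (n - 1)) ≤ X := by
    intro X hX
    rw [vz, Subgroup.closure_le]
    rintro _ ⟨g, hg, e, he, rfl⟩
    exact hX g hg e he
  have hUom : vz B (W (n - 1)) ≤ om E p := vz_le_om (Z_le c)
  generalize vz B (W (n - 1)) = U at hUa hvU hZU hUinv hUgen hUom
  have hUE : U ≤ E := fun u hu => (hUom hu).1
  have hUc : ∀ u ∈ U, ∀ e ∈ E, Commute e u := fun u hu => (hUom hu).2.1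
  have hUp : ∀ u ∈ U, u ^ p = 1 := fun u hu => (hUom hu).2.2
  have hUcomm : ∀ u ∈ U, ∀ w ∈ U, Commute u w := fun u hu w hw => hUc w hw u (hUE hu)
  have hcent : ∀ s : P, (∀ u ∈ U, Commute s u) → s ∈ E := fun s hs =>
    mem_E_of_cent c h hUE hUinv hUc hZU hs
  have hzt : z ∉ W t := fun hz => hzE (hWtE hz)
  -- `a + t = n`
  have hat : n ≤ a + t := by
    by_contra hcon
    obtain ⟨s, hs, hs'⟩ := c.mc.ne_succ (i := n - 1 - a) (by omega)
    have h1 := c.mc.pairing hp3 c.exc (i := a) (j := n - 1 - a) ha1 (by omega) (by omega) (hUa hvU) hva hs hs'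
    apply h1
    rw [commutatorElement_eq_one_iff_commute]
    exact (hUc v hvU s (hWtE (c.mc.antitone (by omega) hs))).symm
  have hat' : a + t = n := by
    have h1 : ∃ u ∈ U, ¬ Commute z u := by
      by_contra hcon
      push Not at hcon
      exact hzE (hcent z hcon)
    obtain ⟨u, hu, hnc⟩ := h1
    by_contra hcon
    apply hnc
    have h2 := c.mc.comm_comm_mem hzW (hUa hu)
    rw [c.mc.bot_of_le (by omega), mem_bot, commutatorElement_eq_one_iff_commute] at h2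
    exact h2
  have hzT : z ∈ normalizer (E : Set P) := by
    refine mem_norm c (j := t - 1) ?_ hzW
    refine le_trans (c.mc.comm_comm 1 (t - 1)) ?_
    rw [show t - 1 + 1 = t by omega]
    exact hWtE
  -- the action of `z`
  have hzc : ∀ u ∈ U, ⁅z, u⁆ ∈ W (n - 1) := by
    intro u hu
    have h1 := c.mc.comm_comm_mem hzW (hUa hu)
    rwa [show t - 1 + a = n - 1 by omega] at h1
  have hzf : ∀ u ∈ U, u ∈ W (a + 1) → ⁅z, u⁆ = 1 := by
    intro u hu hu'
    have h1 := c.mc.comm_comm_mem hzW hu'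
    rwa [c.mc.bot_of_le (by omega), mem_bot] at h1
  have hzv : ∀ u ∈ U, u ∉ W (a + 1) → ⁅z, u⁆ ≠ 1 := by
    intro u hu hu' h1
    apply c.mc.pairing hp3 c.exc (i := a) (j := t - 1) ha1 (by omega) (by omega) (hUa hu) hu' hzW
      (by rwa [show t - 1 + 1 = t by omega])
    rw [← commutatorElement_inv, h1, inv_one]
  -- the action of `Γ`
  let _ : CommGroup U := { (inferInstance : Group U) with
    mul_comm := fun x y => Subtype.ext (hUcomm x x.2 y y.2) }
  have hact : ∀ (s : normalizer (E : Set P)) (u : U),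
      ((rho hUE hUinv hUc (tau (mem_B c) s) u : U) : P) = s * (u : P) * (s : P)⁻¹ := fun s u => rfl
  have hmk : ∀ (g : B) (u : U), ((rho hUE hUinv hUc (QuotientGroup.mk' (innB B) g) u : U) : P) =
      (((g : MulAut E) ⟨u, hUE u.2⟩ : E) : P) := fun g u => rfl
  generalize rho hUE hUinv hUc = ρ at hact hmk
  have hse := se c
  have htau1 : ∀ s : normalizer (E : Set P), tau (mem_B c) s = 1 ↔ (s : P) ∈ E := fun s => tau_eq_one c
  have hsur : ∀ γ ∈ (tau (mem_B c)).range, ∃ s : normalizer (E : Set P), tau (mem_B c) s = γ := by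
    rintro _ ⟨s, rfl⟩
    exact ⟨s, rfl⟩
  have hdel : ∀ (s : normalizer (E : Set P)) (u : U),
      ((del (ρ (tau (mem_B c) s)) u : U) : P) = ⁅(s : P), (u : P)⁆ := by
    intro s u
    have h1 : (s : P) * u * (s : P)⁻¹ ∈ U := by
      rw [← hact]
      exact SetLike.coe_mem _
    rw [del_apply, Subgroup.coe_mul, hact, Subgroup.coe_inv, commutatorElement_def]
    exact (hUcomm _ (inv_mem u.2) _ h1).eq
  set τ := tau (mem_B c) with hτ
  obtain ⟨zT, hzTz⟩ : ∃ zT : normalizer (E : Set P), (zT : P) = z := ⟨⟨z, hzT⟩, rfl⟩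
  have hfix : ∀ u : U, u ∈ fix (ρ (τ zT)) ↔ (u : P) ∈ W (a + 1) := by
    intro u
    have h1 : u ∈ fix (ρ (τ zT)) ↔ ⁅z, (u : P)⁆ = 1 := by
      rw [← hzTz, ← hdel]
      constructor
      · intro h2
        have h3 : del (ρ (τ zT)) u = 1 := h2
        rw [h3]
        rfl
      · intro h2
        exact Subtype.ext h2
    rw [h1]
    constructor
    · intro h2
      by_contra h3
      exact hzv u u.2 h3 h2
    · exact hzf u u.2
  have hcomle : ∀ u : U, u ∈ com (ρ (τ zT)) → (u : P) ∈ W (n - 1) := by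
    rintro _ ⟨u, rfl⟩
    rw [hdel, hzTz]
    exact hzc u u.2
  have hZcard : Nat.card ((W (n - 1)).subgroupOf U) = p := by
    rw [Nat.card_congr (Subgroup.subgroupOfEquivOfLe hZU).toEquiv]
    have h1 := c.mc.card_W 1 (by omega)
    rwa [pow_one] at h1
  have hd1 : del (ρ (τ zT)) ⟨v, hvU⟩ ≠ 1 := by
    intro h1
    have h2 : (⟨v, hvU⟩ : U) ∈ fix (ρ (τ zT)) := h1
    exact hva ((hfix _).mp h2)
  have hcomeq : com (ρ (τ zT)) = (W (n - 1)).subgroupOf U := by
    apply le_antisymm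
    · intro u hu
      exact mem_subgroupOf.mpr (hcomle u hu)
    · exact le_of_card_prime_of_mem hZcard (mem_subgroupOf.mpr (hcomle _ (del_mem_com _ ⟨v, hvU⟩))) hd1
        (del_mem_com _ _)
  have hcom : ∀ u : U, u ∈ com (ρ (τ zT)) ↔ (u : P) ∈ W (n - 1) := by
    intro u
    rw [hcomeq, mem_subgroupOf]
  have hcard : Nat.card (com (ρ (τ zT))) = p := by rw [hcomeq]; exact hZcard
  have hcf : com (ρ (τ zT)) ≤ fix (ρ (τ zT)) := by
    intro u hu
    rw [hfix]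
    exact c.mc.antitone (by omega) (hcomle u hu)
  have hzp : IsPGroup p (zpowers (τ zT)) := by
    have h1 : IsPGroup p (zpowers zT) := (hpP.to_subgroup _).to_subgroup _
    have := h1.map τ
    rwa [MonoidHom.map_zpowers] at this
  have hzH : τ zT ∈ Hbar B H := hse.le ⟨zT, rfl⟩
  -- `H` times the kernel
  have hHZ : ∀ γ ∈ Hbar B H ⊔ ρ.ker, ∀ x ∈ com (ρ (τ zT)), ρ γ x ∈ com (ρ (τ zT)) := by
    intro γ hγ x hx
    have hγ' : γ ∈ ((Hbar B H ⊔ ρ.ker : Subgroup (Gam B)) : Set (Gam B)) := hγ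
    rw [Subgroup.mul_normal] at hγ'
    obtain ⟨y, hy, k, hk, rfl⟩ := hγ'
    obtain ⟨y, rfl⟩ := QuotientGroup.mk'_surjective (innB B) y
    show ρ (QuotientGroup.mk' (innB B) y * k) x ∈ _
    rw [map_mul, MonoidHom.mem_ker.mp hk, mul_one, hcom, hmk]
    exact H_Z c ((mk_mem_Hbar c).mp hy) ((hcom x).mp hx)
  have hstab : ∀ g : B, QuotientGroup.mk' (innB B) g ∈ Hbar B H ⊔ ρ.ker → ∀ e : E, (e : P) ∈ W (n - 1) →
      (((g : MulAut E) e : E) : P) ∈ W (n - 1) := by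
    intro g hg e he
    have h1 := hHZ _ hg ⟨e, hZU he⟩ ((hcom _).mpr he)
    rwa [hcom, hmk] at h1
  have hne : Hbar B H ⊔ ρ.ker ≠ ⊤ := by
    intro htop
    apply h
    intro g hg e he
    exact hstab ⟨g, hg⟩ (by rw [htop]; trivial) e he
  have hse' := hse.sup ρ.ker hne
  obtain ⟨γ, hγ⟩ : ∃ γ, γ ∉ Hbar B H ⊔ ρ.ker := by
    by_contra hcon
    push Not at hcon
    exact hne (eq_top_iff.mpr fun x _ => hcon x)
  have hgen : ∀ X : Subgroup U, (∀ g : Gam B, ∀ x ∈ com (ρ (τ zT)), ρ g x ∈ X) → X = ⊤ := by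
    intro X hX
    have h1 : U ≤ X.map U.subtype := by
      apply hUgen
      intro g hg e he
      have h2 := hX (QuotientGroup.mk' (innB B) ⟨g, hg⟩) ⟨e, hZU he⟩ ((hcom _).mpr he)
      exact ⟨_, h2, hmk ⟨g, hg⟩ ⟨e, hZU he⟩⟩
    rw [eq_top_iff]
    intro x _
    obtain ⟨y, hy, e1⟩ := h1 x.2
    have e2 : y = x := Subtype.ext e1
    rw [← e2]
    exact hy
  have hzH' : τ zT ∈ Hbar B H ⊔ ρ.ker := (le_sup_left : Hbar B H ≤ _) hzH
  have htop := plane hse' le_sup_right hzH' hzp hcard hcf hHZ hgen hγ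
  have hfc := fix_le_com hse' le_sup_right hzH' hzp hcard hcf hγ htop
  have htw := hse'.tw le_sup_right hzH' hzp hcard hcf hγ
  have hUZ : ∀ u ∈ U, u ∈ W (a + 1) → u ∈ W (n - 1) := by
    intro u hu hu'
    exact (hcom ⟨u, hu⟩).mp (hfc ((hfix ⟨u, hu⟩).mpr hu'))
  have hvgen : ∀ u ∈ U, ∃ k : ℤ, (v ^ k)⁻¹ * u ∈ W (n - 1) := by
    intro u hu
    obtain ⟨k, hk⟩ := c.mc.exists_zpow (by omega) (hUa hvU) hva (hUa hu)
    exact ⟨k, hUZ _ (mul_mem (inv_mem (zpow_mem hvU k)) hu) hk⟩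
  have hcv : ∀ s : P, Commute s v → s ∈ E := by
    intro s hs
    apply hcent
    intro u hu
    obtain ⟨k, hk⟩ := hvgen u hu
    have h1 : Commute s (v ^ k * ((v ^ k)⁻¹ * u)) :=
      (hs.zpow_right k).mul_right (c.mc.center_le hk s).symm
    rwa [mul_inv_cancel_left] at h1
  have hUeq : zpowers v ⊔ W (n - 1) = U := by
    apply le_antisymm (sup_le (zpowers_le.mpr hvU) hZU)
    intro u hu
    obtain ⟨k, hk⟩ := hvgen u hu
    have h1 := mul_mem ((le_sup_left : zpowers v ≤ zpowers v ⊔ W (n - 1)) ⟨k, rfl⟩)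
      ((le_sup_right : W (n - 1) ≤ zpowers v ⊔ W (n - 1)) hk)
    simp only at h1
    rwa [mul_inv_cancel_left] at h1
  -- `N_P(E) = E⟨z⟩`
  have hTgen : ∀ s : normalizer (E : Set P), ∃ m : ℤ, (s : P) * z ^ m ∈ E := by
    intro s
    have h1 : del (ρ (τ s)) ⟨v, hvU⟩ ∈ com (ρ (τ zT)) := by
      rw [hcom]
      apply hUZ _ (SetLike.coe_mem _)
      rw [hdel]
      exact c.mc.comm_mem' (hUa hvU)
    obtain ⟨m, hm⟩ := exists_zpow_eq hcard (del_mem_com (ρ (τ zT)) ⟨v, hvU⟩) hd1 (inv_mem h1)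
    refine ⟨m, hcv _ ?_⟩
    have h2 : ρ (τ (s * zT ^ m)) ⟨v, hvU⟩ = ⟨v, hvU⟩ := by
      rw [map_mul, map_mul, map_zpow, map_zpow, MulAut.mul_apply,
        zpow_apply (hcf (del_mem_com _ _)), hm, map_mul, map_inv]
      have h3 : ρ (τ s) (del (ρ (τ s)) ⟨v, hvU⟩) = del (ρ (τ s)) ⟨v, hvU⟩ := by
        apply Subtype.ext
        rw [hact, ← (c.mc.center_le ((hcom _).mp h1) (s : P)).eq, mul_inv_cancel_right]
      rw [h3, apply_eq_mul_del (ρ (τ s)) ⟨v, hvU⟩, mul_inv_cancel_right]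
    have h3 := congrArg Subtype.val h2
    rw [hact, Subgroup.coe_mul, Subgroup.coe_zpow, hzTz] at h3
    show s * z ^ m * v = v * (s * z ^ m)
    have h4 : s * z ^ m * v * (s * z ^ m)⁻¹ = v := h3
    exact mul_inv_eq_iff_eq_mul.mp h4
  -- `t ≥ 3`
  have ht3 : 3 ≤ t := by
    by_contra hcon
    have ht : t = 2 := by omega
    subst ht
    have hE2 : E ≤ W 2 := by
      intro e he
      by_contra he'
      have h1 := c.mc.le_of_mem (i := 1) (by omega) (c.E_le he) he' he hWtE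
      exact c.E_ne (le_antisymm c.E_le h1)
    have hEeq : E = W 2 := le_antisymm hE2 hWtE
    obtain ⟨x, hx, hx'⟩ := c.mc.ne_succ (i := 0) (by omega)
    have hxN : x ∈ normalizer (E : Set P) := by
      have hn : E.Normal := by rw [hEeq]; exact c.mc.normal 2
      rw [Subgroup.normalizer_eq_top]
      trivial
    obtain ⟨m, hm⟩ := hTgen ⟨x, hxN⟩
    apply hx'
    have h1 : x * z ^ m ∈ W 1 := c.E_le hm
    have h2 : z ^ m ∈ W 1 := zpow_mem hzW m
    exact (mul_mem_cancel_right h2).mp h1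
  -- an element of index `t - 2`
  have hye : ∃ y ∈ E, y ∈ W (t - 2) ∧ y ∉ W (t - 1) := by
    obtain ⟨y0, hy0, hy0'⟩ := c.mc.ne_succ (i := t - 2) (by omega)
    rw [show t - 2 + 1 = t - 1 by omega] at hy0'
    have hyN : y0 ∈ normalizer (E : Set P) := by
      refine mem_norm c (j := t - 2) ?_ hy0
      refine le_trans (c.mc.deg_of_add_le hp3 (i := t - 2) (j := 1) (by omega) le_rfl (by omega)) ?_
      rw [show t - 2 + 1 + 1 = t by omega]
      exact hWtE
    obtain ⟨m, hm⟩ := hTgen ⟨y0, hyN⟩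
    have h1 : z ^ m ∈ W (t - 1) := zpow_mem hzW m
    refine ⟨y0 * z ^ m, hm, mul_mem hy0 (c.mc.antitone (by omega) h1), fun h2 => hy0' ?_⟩
    exact (mul_mem_cancel_right h1).mp h2
  -- the torus
  obtain ⟨ζ, hζ⟩ := IsCyclic.exists_generator (α := (ZMod p)ˣ)
  have hl : (p : ℤ) ∣ (((ζ : ZMod p).val : ℕ) : ℤ) * ((((ζ⁻¹ : (ZMod p)ˣ) : ZMod p).val : ℕ) : ℤ) - 1 := by
    rw [← ZMod.intCast_zmod_eq_zero_iff_dvd]
    push_cast
    simp only [ZMod.natCast_val, ZMod.cast_id', id_eq]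
    rw [mul_inv_cancel₀ (Units.ne_zero ζ), sub_self]
  have hζval : (((ζ : ZMod p).val : ℕ) : ZMod p) = ζ := by
    rw [ZMod.natCast_val, ZMod.cast_id', id_eq]
  have hcardU : orderOf ζ = p - 1 := by
    rw [orderOf_eq_card_of_forall_mem_zpowers hζ, Nat.card_eq_fintype_card, ZMod.card_units]
  have hlprim : ∀ m : ℕ, (((ζ : ZMod p).val : ℕ) : ZMod p) ^ m = 1 → p - 1 ∣ m := by
    intro m hm
    rw [hζval, ← Units.val_pow_eq_pow_val] at hm
    rw [← hcardU]
    exact orderOf_dvd_of_pow_eq_one (Units.ext hm)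
  generalize (ζ : ZMod p).val = l at hl hlprim
  generalize ((ζ⁻¹ : (ZMod p)ˣ) : ZMod p).val = l' at hl
  obtain ⟨_, ⟨k0, rfl⟩, hk1, hk2, -, hk4⟩ := htw.torus hl
  have hRN : τ.range ≤ (zpowers (ρ (τ zT))).comap ρ := by
    rintro _ ⟨s, rfl⟩
    obtain ⟨m, hm⟩ := hTgen s
    have h1 : τ (s * zT ^ m) = 1 := by
      rw [htau1, Subgroup.coe_mul, Subgroup.coe_zpow, hzTz]
      exact hm
    rw [map_mul, map_zpow] at h1
    rw [mem_comap, eq_inv_of_mul_eq_one_left h1, map_inv, map_zpow]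
    exact inv_mem ⟨m, rfl⟩
  have hSN : τ.range.map (MulAut.conj k0).toMonoidHom ≤ (zpowers (ρ (τ zT))).comap ρ := by
    rintro _ ⟨r, hr, rfl⟩
    obtain ⟨j, hj⟩ := hRN hr
    have hj' : ρ (τ zT) ^ j = ρ r := hj
    show ρ (k0 * r * k0⁻¹) ∈ zpowers (ρ (τ zT))
    rw [map_mul, map_mul, map_inv, ← hj', ← conj_zpow, hk4]
    exact zpow_mem (zpow_mem (mem_zpowers _) _) _
  have hSp : IsPGroup p (τ.range.map (MulAut.conj k0).toMonoidHom) := hse.pgroup.map _
  obtain ⟨g', hg'N, hg'⟩ := hse.exists_conj_in hRN hSN hSp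
  obtain ⟨j, hj⟩ := hg'N
  have hj' : ρ (τ zT) ^ j = ρ g' := hj
  have hzR : τ zT ∈ τ.range := ⟨zT, rfl⟩
  -- the element `k1`
  obtain ⟨k1, hk1def⟩ : ∃ k1, k1 = τ zT ^ j * g'⁻¹ * k0 := ⟨_, rfl⟩
  have hρk1 : ρ k1 = ρ k0 := by
    rw [hk1def, map_mul, map_mul, map_zpow, hj', map_inv, mul_inv_cancel, one_mul]
  have hk1R : k1 * τ zT * k1⁻¹ ∈ τ.range := by
    have h1 := hg' (k0 * τ zT * k0⁻¹) ⟨τ zT, hzR, rfl⟩
    have h2 : k1 * τ zT * k1⁻¹ = τ zT ^ j * (g'⁻¹ * (k0 * τ zT * k0⁻¹) * g') * (τ zT ^ j)⁻¹ := by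
      rw [hk1def]; group
    rw [h2]
    exact mul_mem (mul_mem (zpow_mem hzR j) h1) (inv_mem (zpow_mem hzR j))
  have hz1 : τ zT ≠ 1 := by
    intro e
    apply hzE
    rw [← hzTz]
    exact (htau1 _).mp e
  have hk1H : k1 ∈ Hbar B H := by
    have h1 := hse.emb_all hzH hzp hz1 (g := k1⁻¹) (by rw [inv_inv]; exact hse.le hk1R)
    simpa using inv_mem h1
  obtain ⟨s', hs'⟩ := hsur _ hk1R
  obtain ⟨k, hk⟩ := QuotientGroup.mk'_surjective (innB B) k1
  have hkH : (k : MulAut E) ∈ H := by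
    rw [← hk] at hk1H
    exact (mk_mem_Hbar c).mp hk1H
  obtain ⟨x, hx⟩ : ∃ x : E, E.normalizerMonoidHom s' =
      (k : MulAut E) * E.normalizerMonoidHom zT * (k : MulAut E)⁻¹ * MulAut.conj x := by
    have h1 : QuotientGroup.mk' (innB B) (k * ⟨E.normalizerMonoidHom zT, mem_B c zT⟩ * k⁻¹) =
        QuotientGroup.mk' (innB B) ⟨E.normalizerMonoidHom s', mem_B c s'⟩ := by
      rw [map_mul, map_mul, map_inv, hk, ← tau_mk, ← tau_mk, ← hτ, hs']
    obtain ⟨x, hx⟩ := mk_eq_iff.mp h1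
    exact ⟨x, hx⟩
  -- the element `z'`
  obtain ⟨z', hz'⟩ : ∃ z' : normalizer (E : Set P), z' = s' * ofE x⁻¹ := ⟨_, rfl⟩
  have hz'k : E.normalizerMonoidHom z' * (k : MulAut E) = (k : MulAut E) * E.normalizerMonoidHom zT := by
    rw [hz', map_mul, nmh_ofE, hx, map_inv]
    group
  have hτz' : τ z' = k1 * τ zT * k1⁻¹ := by
    rw [← hs', hz', map_mul]
    have h1 : τ (ofE x⁻¹) = 1 := (htau1 _).mpr (SetLike.coe_mem x⁻¹)
    rw [h1, mul_one]
  have hρz' : ρ (τ z') = ρ (τ zT) ^ ((l : ℤ) ^ 2) := by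
    rw [hτz', map_mul, map_mul, map_inv, hρk1, hk4]
  have hkU : ∀ u : U, (((k : MulAut E) ⟨u, hUE u.2⟩ : E) : P) = ((ρ k0 u : U) : P) := by
    intro u
    rw [← hmk, hk, hρk1]
  refine ⟨a, t, l, v, z, (k : MulAut E), ?_⟩
  exact
  { one_le_a := ha1
    a_add_t := hat'
    three_le_t := ht3
    Wt_le := hWtE
    z_mem := hzW
    z_not := hzE
    v_mem := hUa hvU
    v_not := hva
    v_E := hUE hvU
    v_pow := hUp v hvU
    E_iff := fun w _ => ⟨fun hw => hUc v hvU w hw, fun hw => hcv w hw⟩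
    exists_e := hye
    V0_inv := by rw [hUeq]; exact hUinv
    not_inv := h
    k_H := hkH
    k_Z := by
      intro e he
      apply Subtype.ext
      have h1 := hkU ⟨e, hZU he⟩
      rw [hk1 _ ((hcom ⟨e, hZU he⟩).mpr he)] at h1
      rw [Subgroup.coe_zpow, zpow_natCast] at h1
      rw [Subgroup.coe_pow]
      exact h1
    k_V := by
      intro e he
      rw [hUeq] at he
      have h1 := hkU ⟨e, he⟩
      have h2 : (⟨e, he⟩ : U) ∈ com (ρ (τ zT)) ⊔ com (ρ (γ * τ zT * γ⁻¹)) := by rw [htop]; trivial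
      obtain ⟨y, hy, w, hw, hyw⟩ := mem_sup.mp h2
      have h3 : (ρ k0 ⟨e, he⟩) ^ l * (⟨e, he⟩ : U)⁻¹ = (y ^ (l : ℤ)) ^ l * y⁻¹ := by
        rw [← hyw, map_mul, hk1 y hy, hk2 w hw, mul_pow, mul_inv, mul_mul_mul_comm]
        have h4 : (w ^ (l' : ℤ)) ^ l * w⁻¹ = 1 := by
          have hwp : w ^ p = 1 := Subtype.ext (hUp w w.2)
          rw [← zpow_natCast (w ^ (l' : ℤ)) l, ← zpow_mul, ← zpow_neg_one, ← zpow_add]
          obtain ⟨q, hq⟩ := hl
          rw [show (l' : ℤ) * l + -1 = p * q by rw [← hq]; ring, zpow_mul, zpow_natCast, hwp, one_zpow]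
        rw [h4, mul_one]
      have h4 : (((k : MulAut E) e : E) : P) ^ l * (e : P)⁻¹ = (((y ^ (l : ℤ)) ^ l * y⁻¹ : U) : P) := by
        rw [← h3, Subgroup.coe_mul, Subgroup.coe_pow, Subgroup.coe_inv, ← h1]
      show (((k : MulAut E) e ^ l * e⁻¹ : E) : P) ∈ W (n - 1)
      rw [Subgroup.coe_mul, Subgroup.coe_pow, Subgroup.coe_inv, h4, ← hcom]
      exact mul_mem (pow_mem (zpow_mem hy _) _) (inv_mem hy)
    k_z := by
      refine ⟨z', ?_, ?_⟩
      · have h1 : ρ (τ (z' * (zT ^ (l ^ 2))⁻¹)) = 1 := by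
          rw [map_mul, map_mul, map_inv, map_inv, map_pow, map_pow, hρz', mul_inv_eq_one,
            ← zpow_natCast, Nat.cast_pow]
        apply hcent
        intro u hu
        have h2 : ρ (τ (z' * (zT ^ (l ^ 2))⁻¹)) ⟨u, hu⟩ = ⟨u, hu⟩ := by rw [h1]; rfl
        have h3 := congrArg Subtype.val h2
        rw [hact, Subgroup.coe_mul, Subgroup.coe_inv, Subgroup.coe_pow, hzTz] at h3
        exact mul_inv_eq_iff_eq_mul.mp h3
      · intro e e' he
        have h1 := congrArg (fun f : MulAut E => ((f e : E) : P)) hz'k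
        simp only [MulAut.mul_apply] at h1
        rw [nmh_apply] at h1
        have h2 : E.normalizerMonoidHom zT e = e' := by
          apply Subtype.ext
          rw [nmh_apply, hzTz, he]
        rw [h2] at h1
        exact h1.symm
    l_prim := hlprim }

end Cfsg.Agent.H467.XThree
end

-- part: H779/CoreTorus
section
/-!
# The torus of `A` (helper779, part of S5267)

Let `a` normalize `conjGrp (W 1)`, `a c_s a⁻¹ = c_y` with `y ∈ s ^ k (W 1)`, `s ∉ W 1`. Then `a` acts on `W i / W (i + 1)`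
as the power `b * k ^ (i - 1)` (`sc_all`), and `b ≡ k ^ (1 + δ)` for a number `δ ≥ 1` depending only on the chain, if `W 1`
is not abelian (`exists_delta`).
-/

set_option autoImplicit false
set_option linter.unusedSectionVars false

namespace Cfsg.Agent.H779.Core

open Subgroup Cfsg.Agent.H467.MaxClass Cfsg.Agent.H786
open scoped commutatorElement

universe u

variable {P : Type u} [Group P] {p n : ℕ} {W : ℕ → Subgroup P} [hN1 : (W 1).Normal]
variable [hp : Fact p.Prime]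

theorem pow_congr (h : MC P p n W) {i b b' : ℕ} (hbb : b ≡ b' [MOD p]) {e : P} (he : e ∈ W i) :
    (e ^ b')⁻¹ * e ^ b ∈ W (i + 1) := by
  have hn := h.normal (i + 1)
  set q := QuotientGroup.mk' (W (i + 1)) with hq
  have hq1 : ∀ y : P, y ∈ W (i + 1) ↔ q y = 1 := fun y => (QuotientGroup.eq_one_iff y).symm
  have h1 : q e ^ p = 1 := by
    rw [← map_pow]
    exact (hq1 _).1 (h.pow_p_mem he)
  have h2 : q e ^ b = q e ^ b' :=
    pow_eq_pow_iff_modEq.2 (hbb.of_dvd (orderOf_dvd_of_pow_eq_one h1))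
  rw [hq1, map_mul, map_inv, map_pow, map_pow, h2, inv_mul_cancel]

theorem Sc.congr (h : MC P p n W) {a : MulAut (W 1)} {i b b' : ℕ} (hbb : b ≡ b' [MOD p]) (hs : Sc W a i b) :
    Sc W a i b' := by
  intro e he
  have h1 := pow_congr h hbb he
  have h2 := mul_mem h1 (hs e he)
  rwa [mul_assoc, mul_inv_cancel_left] at h2

theorem Sc.unique (h : MC P p n W) {a : MulAut (W 1)} {i b b' : ℕ} (h1 : 1 ≤ i) (hi : i < n) (hs : Sc W a i b)
    (hs' : Sc W a i b') : b ≡ b' [MOD p] := by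
  obtain ⟨w, hw, hw'⟩ := h.ne_succ hi
  have hn := h.normal (i + 1)
  set q := QuotientGroup.mk' (W (i + 1)) with hq
  have hq1 : ∀ y : P, y ∈ W (i + 1) ↔ q y = 1 := fun y => (QuotientGroup.eq_one_iff y).symm
  have hord : orderOf (q w) = p := by
    refine orderOf_eq_prime ?_ ?_
    · rw [← map_pow]
      exact (hq1 _).1 (h.pow_p_mem hw)
    · intro h8
      exact hw' ((hq1 _).2 h8)
  have hw1 : w ∈ W 1 := h.antitone h1 hw
  have e1 := (hq1 _).1 (hs ⟨w, hw1⟩ hw)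
  have e2 := (hq1 _).1 (hs' ⟨w, hw1⟩ hw)
  rw [map_mul, map_inv, map_pow, inv_mul_eq_one] at e1 e2
  have e3 : q w ^ b = q w ^ b' := e1.trans e2.symm
  have := pow_eq_pow_iff_modEq.1 e3
  rwa [hord] at this

theorem Sc.not_dvd (h : MC P p n W) [Finite P] {a : MulAut (W 1)} {i b : ℕ} (h1 : 1 ≤ i) (hi : i < n) (ha : Nor a)
    (hs : Sc W a i b) : ¬ p ∣ b := by
  intro hd
  obtain ⟨w, hw, hw'⟩ := h.ne_succ hi
  have hw1 : w ∈ W 1 := h.antitone h1 hw
  have h2 : Sc W a i 0 := hs.congr h ((Nat.modEq_zero_iff_dvd).2 hd)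
  have h3 := h2 ⟨w, hw1⟩ hw
  rw [pow_zero, inv_one, one_mul] at h3
  exact hw' ((pres_iff h ha (by omega) ⟨w, hw1⟩).1 h3)

/-- the action of a composite -/
theorem Sc.mul (h : MC P p n W) {a b : MulAut (W 1)} {i r t : ℕ} (hb1 : ∀ e : W 1, (e : P) ∈ W i → ((b e : W 1) : P) ∈ W i)
    (hs : Sc W a i r) (hs' : Sc W b i t) : Sc W (a * b) i (t * r) := by
  intro e he
  have hn := h.normal (i + 1)
  set q := QuotientGroup.mk' (W (i + 1)) with hq
  have hq1 : ∀ y : P, y ∈ W (i + 1) ↔ q y = 1 := fun y => (QuotientGroup.eq_one_iff y).symm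
  have e1 := (hq1 _).1 (hs' e he)
  have e2 := (hq1 _).1 (hs (b e) (hb1 e he))
  rw [map_mul, map_inv, map_pow, inv_mul_eq_one] at e1 e2
  rw [hq1, map_mul, map_inv, map_pow, inv_mul_eq_one, MulAut.mul_apply, ← e2, ← e1, pow_mul]

/-- The scalars on consecutive factors, general case. -/
theorem sc_succ' (h : MC P p n W)
    (deg : ∀ i j, 1 ≤ i → 1 ≤ j → ⁅W i, W j⁆ ≤ W (i + j + 1)) {s w : P} {k : ℕ} (hs : s ∉ W 1) (hw : w ∈ W 1)
    {a : MulAut (W 1)} (ha : Nor a)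
    (hc : a * MulAut.conjNormal (H := W 1) s * a⁻¹ = MulAut.conjNormal (H := W 1) (s ^ k * w))
    {i b : ℕ} (h1 : 1 ≤ i) (hi : i + 1 < n) (hsc : Sc W a i b) : Sc W a (i + 1) (b * k) := by
  obtain ⟨w1, hw1, hw1'⟩ := h.ne_succ (show i < n by omega)
  have hw11 : w1 ∈ W 1 := h.antitone h1 hw1
  set f : P := ⁅w1, s⁆ with hf
  have hf1 : f ∈ W (i + 1) := h.comm_mem hw1
  have hf2 : f ∉ W (i + 2) := comm_notMem h deg hs h1 hi hw1 hw1'
  have hf3 : f ∈ W 1 := h.antitone (by omega) hf1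
  refine sc_of_gen h (by omega) (pres h ha (i + 2) (by omega)) (w := ⟨f, hf3⟩) hf1 hf2 ?_
  have h2 : ((a ⟨f, hf3⟩ : W 1) : P) = ⁅((a ⟨w1, hw11⟩ : W 1) : P), s ^ k * w⁆ :=
    apply_comm hc (e := ⟨w1, hw11⟩) (f := ⟨f, hf3⟩) rfl
  have hn := h.normal (i + 2)
  set q := QuotientGroup.mk' (W (i + 2)) with hq
  have hq1 : ∀ y : P, y ∈ W (i + 2) ↔ q y = 1 := fun y => (QuotientGroup.eq_one_iff y).symm
  have hcen : ∀ y ∈ W (i + 1), ∀ z : P, Commute (q y) (q z) := by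
    intro y hy z
    have h3 := (hq1 _).1 (h.comm_mem hy (x := z))
    rw [map_commutatorElement] at h3
    exact commutatorElement_eq_one_iff_mul_comm.1 h3
  have hcf : ∀ x, Commute ⁅q w1, q s⁆ x := by
    intro x
    obtain ⟨z, rfl⟩ := QuotientGroup.mk'_surjective _ x
    have := hcen f hf1 z
    rwa [hf, map_commutatorElement] at this
  have hA : ((a ⟨w1, hw11⟩ : W 1) : P) ∈ W i := pres h ha i h1 _ hw1
  set B : P := ((a ⟨w1, hw11⟩ : W 1) : P) with hB
  set v : P := (w1 ^ b)⁻¹ * B with hv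
  have hv1 : v ∈ W (i + 1) := hsc ⟨w1, hw11⟩ hw1
  have hBv : B = w1 ^ b * v := by rw [hv]; group
  have h5 : Commute (q v) (q (s ^ k * w)) := hcen v hv1 _
  have h6 : q ⁅B, s ^ k * w⁆ = ⁅q w1 ^ b, q (s ^ k * w)⁆ := by
    rw [hBv, map_commutatorElement, map_mul q (w1 ^ b), map_pow q w1 b]
    generalize q (s ^ k * w) = y at h5
    rw [commutatorElement_def, commutatorElement_def, mul_inv_rev]
    calc q w1 ^ b * q v * y * ((q v)⁻¹ * (q w1 ^ b)⁻¹) * y⁻¹
        = q w1 ^ b * (q v * y * (q v)⁻¹) * (q w1 ^ b)⁻¹ * y⁻¹ := by group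
      _ = q w1 ^ b * y * (q w1 ^ b)⁻¹ * y⁻¹ := by rw [h5.eq, mul_inv_cancel_right]
  have h7 : ⁅q w1 ^ b, q w⁆ = 1 := by
    rw [← map_pow, ← map_commutatorElement]
    exact (hq1 _).1 (deg i 1 h1 le_rfl (commutator_mem_commutator (pow_mem hw1 b) hw))
  have h8 : ⁅q w1 ^ b, q s ^ k * q w⁆ = ⁅q w1 ^ b, q s ^ k⁆ * (q s ^ k * ⁅q w1 ^ b, q w⁆ * (q s ^ k)⁻¹) := by
    simp only [commutatorElement_def]; group
  have h9 : ⁅q w1 ^ b, q s⁆ = ⁅q w1, q s⁆ ^ b := comm_pow_left hcf b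
  have h10 : ⁅q w1 ^ b, q s ^ k⁆ = ⁅q w1, q s⁆ ^ (b * k) := by
    rw [pow_mul, ← h9]
    refine comm_pow_right (fun x => ?_) k
    rw [h9]
    exact (hcf x).pow_left b
  have h11 : q ((⟨f, hf3⟩ : W 1) : P) = ⁅q w1, q s⁆ := map_commutatorElement q w1 s
  rw [hq1, map_mul, map_inv, map_pow, h2, h6, map_mul q (s ^ k), map_pow q s k, h8, h7, mul_one, mul_inv_cancel, mul_one,
    h10, h11, inv_mul_cancel]

/-- **All scalars.** -/
theorem sc_all (h : MC P p n W)
    (deg : ∀ i j, 1 ≤ i → 1 ≤ j → ⁅W i, W j⁆ ≤ W (i + j + 1)) {s w : P} {k : ℕ} (hs : s ∉ W 1) (hw : w ∈ W 1)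
    {a : MulAut (W 1)} (ha : Nor a)
    (hc : a * MulAut.conjNormal (H := W 1) s * a⁻¹ = MulAut.conjNormal (H := W 1) (s ^ k * w))
    {b : ℕ} (hsc : Sc W a 1 b) : ∀ i, 1 ≤ i → i < n → Sc W a i (b * k ^ (i - 1)) := by
  intro i hi
  induction i, hi using Nat.le_induction with
  | base => intro _; simpa using hsc
  | succ i hi ih =>
    intro hin
    have h1 := sc_succ' h deg hs hw ha hc hi hin (ih (by omega))
    have h2 : b * k ^ (i - 1) * k = b * k ^ (i + 1 - 1) := by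
      rw [mul_assoc, ← pow_succ]
      congr 2
      omega
    rwa [h2] at h1

/-- existence of the data `k`, `w`, `b` -/
theorem exists_data (h : MC P p n W) {s : P} (hs : s ∉ W 1) {a : MulAut (W 1)} (ha : Nor a) :
    ∃ (k : ℕ) (w : P) (b : ℕ), w ∈ W 1 ∧
      a * MulAut.conjNormal (H := W 1) s * a⁻¹ = MulAut.conjNormal (H := W 1) (s ^ k * w) ∧ Sc W a 1 b := by
  have h4 := h.four_le
  obtain ⟨y, hy⟩ := ha s
  obtain ⟨k, hk⟩ := exists_pow h (i := 0) (by omega) (a := s) (by rw [h.zero]; trivial) hs (b := y)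
    (by rw [h.zero]; trivial)
  obtain ⟨b, hb⟩ := exists_sc h le_rfl (show 1 < n by omega) (pres h ha 1 le_rfl) (pres h ha 2 (by omega))
  refine ⟨k, _, b, hk, ?_, hb⟩
  rw [hy]
  congr 1
  group

/-- **The number `δ`.** There are `i, j ≥ 1` and `k ≥ i + j + 1`, `k < n`, such that the scalars satisfy
`χ_i χ_j = χ_k`. -/
theorem exists_triple (h : MC P p n W) [Finite P]
    (deg : ∀ i j, 1 ≤ i → 1 ≤ j → ⁅W i, W j⁆ ≤ W (i + j + 1)) (nonab : ⁅W 1, W 1⁆ ≠ ⊥) :
    ∃ i j k, 1 ≤ i ∧ 1 ≤ j ∧ i + j + 1 ≤ k ∧ k < n ∧ ∀ (a : MulAut (W 1)) (r t v : ℕ), Nor a →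
      Sc W a i r → Sc W a j t → Sc W a k v → r * t ≡ v [MOD p] := by
  classical
  have h4 := h.four_le
  -- a pair `(i, j)` with maximal sum
  set Q : ℕ → Prop := fun m => ∃ i j, 1 ≤ i ∧ 1 ≤ j ∧ i + j = m ∧ ⁅W i, W j⁆ ≠ ⊥ with hQ
  have hQ2 : Q 2 := ⟨1, 1, le_rfl, le_rfl, rfl, nonab⟩
  have hQn : ∀ m, Q m → m < n := by
    rintro m ⟨i, j, h1, h2, rfl, h3⟩
    by_contra hlt
    apply h3
    rw [eq_bot_iff]
    calc ⁅W i, W j⁆ ≤ W (i + j) := h.comm_comm j i
      _ = ⊥ := h.bot_of_le (by omega)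
  set m := Nat.findGreatest Q n with hm
  have hQm : Q m := Nat.findGreatest_spec (P := Q) (m := 2) (by omega) hQ2
  have hmax : ∀ i j, 1 ≤ i → 1 ≤ j → m < i + j → ⁅W i, W j⁆ = ⊥ := by
    intro i j h1 h2 h3
    by_contra h5
    have h6 : Q (i + j) := ⟨i, j, h1, h2, rfl, h5⟩
    have := Nat.le_findGreatest (P := Q) (hQn _ h6).le h6
    omega
  obtain ⟨i, j, hi, hj, hij, hne⟩ := hQm
  obtain ⟨e, he, f, hf, hef⟩ : ∃ e ∈ W i, ∃ f ∈ W j, ⁅e, f⁆ ≠ 1 := by
    by_contra hcon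
    push Not at hcon
    apply hne
    rw [eq_bot_iff, commutator_le]
    intro x hx y hy
    exact Subgroup.mem_bot.2 (hcon x hx y hy)
  set g : P := ⁅e, f⁆ with hg
  have hg0 : g ∈ W (i + j + 1) := deg i j hi hj (commutator_mem_commutator he hf)
  have hijn : i + j + 1 < n := by
    by_contra hlt
    rw [h.bot_of_le (not_lt.1 hlt), Subgroup.mem_bot] at hg0
    exact hef hg0
  have hg1 : g ∈ W 1 := h.antitone (by omega) hg0
  -- the level of `g`
  set k := Nat.findGreatest (fun k => g ∈ W k) n with hk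
  have hgk : g ∈ W k := Nat.findGreatest_spec (P := fun k => g ∈ W k) (m := 1) (by omega) hg1
  have hk1 : i + j + 1 ≤ k := Nat.le_findGreatest (by omega) hg0
  have hkn : k < n := by
    have h5 : k ≤ n := Nat.findGreatest_le n
    rcases Nat.lt_or_ge k n with h6 | h6
    · exact h6
    · exfalso
      apply hef
      rw [h.bot_of_le h6] at hgk
      exact Subgroup.mem_bot.1 hgk
  have hgk' : g ∉ W (k + 1) := by
    intro h5
    have := Nat.le_findGreatest (P := fun k => g ∈ W k) (show k + 1 ≤ n by omega) h5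
    omega
  refine ⟨i, j, k, hi, hj, hk1, hkn, fun a r t c ha hsr hst hsc => ?_⟩
  have hn := h.normal (k + 1)
  set q := QuotientGroup.mk' (W (k + 1)) with hq
  have hq1 : ∀ y : P, y ∈ W (k + 1) ↔ q y = 1 := fun y => (QuotientGroup.eq_one_iff y).symm
  have hcen : ∀ x, Commute ⁅q e, q f⁆ x := by
    intro x
    obtain ⟨z, rfl⟩ := QuotientGroup.mk'_surjective _ x
    have h3 := (hq1 _).1 (h.comm_mem hgk (x := z))
    rw [map_commutatorElement, hg, map_commutatorElement] at h3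
    exact commutatorElement_eq_one_iff_mul_comm.1 h3
  have he1 : e ∈ W 1 := h.antitone hi he
  have hf1 : f ∈ W 1 := h.antitone hj hf
  set A : P := ((a ⟨e, he1⟩ : W 1) : P) with hA
  set B : P := ((a ⟨f, hf1⟩ : W 1) : P) with hB
  have hAB : ((a ⟨g, hg1⟩ : W 1) : P) = ⁅A, B⁆ := by
    have : (⟨g, hg1⟩ : W 1) = ⁅(⟨e, he1⟩ : W 1), (⟨f, hf1⟩ : W 1)⁆ := rfl
    rw [this, map_commutatorElement]
    rfl
  set u' : P := (e ^ r)⁻¹ * A with hu'
  have hu1 : u' ∈ W (i + 1) := hsr ⟨e, he1⟩ he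
  set v' : P := (f ^ t)⁻¹ * B with hv'
  have hv1 : v' ∈ W (j + 1) := hst ⟨f, hf1⟩ hf
  have hAe : A = e ^ r * u' := by rw [hu']; group
  have hBe : B = f ^ t * v' := by rw [hv']; group
  have hBj : B ∈ W j := pres h ha j hj _ hf
  have hcomm : ∀ (i j : ℕ) (x y : P), 1 ≤ i → 1 ≤ j → m < i + j → x ∈ W i → y ∈ W j → Commute x y := by
    intro i j x y h1 h2 h3 hx hy
    have h5 : ⁅x, y⁆ ∈ ⁅W i, W j⁆ := commutator_mem_commutator hx hy
    rw [hmax i j h1 h2 h3, Subgroup.mem_bot] at h5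
    exact commutatorElement_eq_one_iff_mul_comm.1 h5
  have h5 : ⁅A, B⁆ = ⁅e ^ r, f ^ t⁆ := by
    have h6 : Commute u' B := hcomm (i + 1) j u' B (by omega) hj (by omega) hu1 hBj
    have h7 : Commute (e ^ r) v' := hcomm i (j + 1) _ _ hi (by omega) (by omega) (pow_mem he r) hv1
    calc ⁅A, B⁆ = e ^ r * (u' * B * u'⁻¹) * (e ^ r)⁻¹ * B⁻¹ := by
          rw [hAe, commutatorElement_def]; group
      _ = e ^ r * B * (e ^ r)⁻¹ * B⁻¹ := by rw [h6.eq, mul_inv_cancel_right]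
      _ = e ^ r * f ^ t * (v' * (e ^ r)⁻¹ * v'⁻¹) * (f ^ t)⁻¹ := by rw [hBe]; group
      _ = e ^ r * f ^ t * (e ^ r)⁻¹ * (f ^ t)⁻¹ := by rw [h7.inv_left.eq.symm, mul_inv_cancel_right]
      _ = ⁅e ^ r, f ^ t⁆ := by rw [commutatorElement_def]
  have h6 : q ⁅A, B⁆ = (q g) ^ (r * t) := by
    rw [h5, map_commutatorElement, map_pow, map_pow]
    have h7 : ⁅q e ^ r, q f⁆ = ⁅q e, q f⁆ ^ r := comm_pow_left hcen r
    have h8 : ⁅q e ^ r, q f ^ t⁆ = ⁅q e ^ r, q f⁆ ^ t := by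
      refine comm_pow_right (fun x => ?_) t
      rw [h7]
      exact (hcen x).pow_left r
    rw [h8, h7, ← pow_mul, hg, map_commutatorElement]
  have h7 : q ⁅A, B⁆ = (q g) ^ c := by
    have h8 := (hq1 _).1 (hsc ⟨g, hg1⟩ hgk)
    rw [map_mul, map_inv, map_pow, hAB] at h8
    exact (inv_mul_eq_one.1 h8).symm
  have hord : orderOf (q g) = p := by
    refine orderOf_eq_prime ?_ ?_
    · rw [← map_pow]
      exact (hq1 _).1 (h.pow_p_mem hgk)
    · intro h8
      exact hgk' ((hq1 _).2 h8)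
  have h8 : (q g) ^ (r * t) = (q g) ^ c := by rw [← h6, ← h7]
  have := pow_eq_pow_iff_modEq.1 h8
  rwa [hord] at this

/-- **The number `δ`.** -/
theorem exists_delta (h : MC P p n W) [Finite P]
    (deg : ∀ i j, 1 ≤ i → 1 ≤ j → ⁅W i, W j⁆ ≤ W (i + j + 1)) (nonab : ⁅W 1, W 1⁆ ≠ ⊥) :
    ∃ δ, 1 ≤ δ ∧ ∀ (a : MulAut (W 1)) (s w : P) (k b : ℕ), s ∉ W 1 → w ∈ W 1 → Nor a →
      a * MulAut.conjNormal (H := W 1) s * a⁻¹ = MulAut.conjNormal (H := W 1) (s ^ k * w) → Sc W a 1 b →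
        b ≡ k ^ (1 + δ) [MOD p] ∧ ¬ p ∣ k := by
  obtain ⟨i, j, l, hi, hj, hl, hln, hT⟩ := exists_triple h deg nonab
  refine ⟨l - i - j, by omega, fun a s w k b hs hw ha hc hb => ?_⟩
  have h4 := h.four_le
  have hall := sc_all h deg hs hw ha hc hb
  have h1 := hT a _ _ _ ha (hall i hi (by omega)) (hall j hj (by omega)) (hall l (by omega) hln)
  have hb0 : ¬ p ∣ b := Sc.not_dvd h le_rfl (by omega) ha hb
  have hk0 : ¬ p ∣ k := by
    intro hd
    have h5 := Sc.not_dvd h (i := 2) (by omega) (by omega) ha (hall 2 (by omega) (by omega))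
    apply h5
    rw [show 2 - 1 = 1 by omega, pow_one]
    exact Dvd.dvd.mul_left hd b
  refine ⟨?_, hk0⟩
  have h5 : b * k ^ (i - 1) * (b * k ^ (j - 1)) = b * k ^ (i + j - 2) * b := by
    have : k ^ (i + j - 2) = k ^ (i - 1) * k ^ (j - 1) := by rw [← pow_add]; congr 1; omega
    rw [this]; ring
  have h6 : b * k ^ (l - 1) = b * k ^ (i + j - 2) * k ^ (1 + (l - i - j)) := by
    rw [mul_assoc, ← pow_add]
    congr 2
    omega
  rw [h5, h6] at h1
  have h7 : Nat.Coprime p (b * k ^ (i + j - 2)) := by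
    rw [Nat.Prime.coprime_iff_not_dvd hp.out]
    intro hd
    rcases hp.out.dvd_mul.1 hd with h8 | h8
    · exact hb0 h8
    · exact hk0 (hp.out.dvd_of_dvd_pow h8)
  exact Nat.ModEq.cancel_left_of_coprime h7 h1

end Cfsg.Agent.H779.Core
end

-- part: H779/W5Abs
section
/-!
# Step (W5) of the exceptional case of S5267 (helper779): abstract form

`Sit.le_conjGrp_of_weights`.
-/

set_option autoImplicit false
set_option linter.unusedSectionVars false

namespace Cfsg.Agent.H779.Core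

open Subgroup Cfsg.Agent.H467.MaxClass Cfsg.Agent.H786
open scoped commutatorElement

universe u

theorem eq_one_of_weights {p : ℕ} [hp : Fact p.Prime] {k₀ l k M : ℕ} (hM : ((k₀ : ZMod p)) ^ M = l)
    (l_prim : ∀ m : ℕ, (l : ZMod p) ^ m = 1 → p - 1 ∣ m) (h0 : ¬ p ∣ k₀) (hk0 : ¬ p ∣ k)
    (hk : (k : ZMod p) ^ M = 1) : k ≡ 1 [MOD p] := by
  have hp2 := hp.out.two_le
  have hz : ∀ a : ℕ, ¬ p ∣ a → (a : ZMod p) ^ (p - 1) = 1 := fun a ha =>
    ZMod.pow_card_sub_one_eq_one (by rwa [Ne, ZMod.natCast_eq_zero_iff])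
  set g := Nat.gcd M (p - 1) with hg
  have hg0 : 0 < g := Nat.gcd_pos_of_pos_right _ (by omega)
  obtain ⟨M', hM'⟩ := Nat.gcd_dvd_left M (p - 1)
  obtain ⟨r, hr⟩ := Nat.gcd_dvd_right M (p - 1)
  rw [← hg] at hM' hr
  have h1 : (l : ZMod p) ^ r = 1 := by
    rw [← hM, ← pow_mul, hM', show g * M' * r = (g * r) * M' by ring, ← hr, pow_mul, hz _ h0, one_pow]
  have h2 := l_prim r h1
  have hr0 : 0 < r := by
    rcases Nat.eq_zero_or_pos r with h | h
    · rw [h, mul_zero] at hr; omega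
    · exact h
  have h3 := Nat.le_of_dvd hr0 h2
  have hg1 : g = 1 := by
    by_contra hne
    have h4 : 2 ≤ g := by omega
    have h5 : 2 * r ≤ g * r := Nat.mul_le_mul_right r h4
    omega
  have h6 := (pow_gcd_eq_one (a := (k : ZMod p))).2 ⟨hk, hz k hk0⟩
  rw [← hg, hg1, pow_one] at h6
  rw [← ZMod.natCast_eq_natCast_iff, h6, Nat.cast_one]

variable {P : Type u} [Group P] {p n : ℕ} {W : ℕ → Subgroup P} [hN1 : (W 1).Normal] {A : Subgroup (MulAut (W 1))}
variable [hp : Fact p.Prime] [Finite P]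

/-- Frattini argument. -/
theorem Sit.frattini (S : Sit p n W A) {K : Subgroup (MulAut (W 1))}
    (hKn : ∀ a ∈ A, ∀ c ∈ K, a * c * a⁻¹ ∈ K) (hcK : conjGrp (W 1) ≤ K) {a : MulAut (W 1)} (ha : a ∈ A) :
    ∃ c ∈ K, Nor (c * a) := by
  let N : Subgroup A := K.subgroupOf A
  have hN : N.Normal := ⟨fun c hc g => hKn g g.2 c hc⟩
  have hle : (S.syl : Subgroup A) ≤ N := fun c hc => hcK (S.mem_syl.1 hc)
  have h1 := Sylow.normalizer_sup_eq_top' S.syl hle
  have h2 : (⟨a, ha⟩ : A) ∈ (⊤ : Subgroup A) := trivial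
  rw [← h1] at h2
  obtain ⟨x, hx, y, hy, hxy⟩ := Subgroup.mem_sup_of_normal_right.1 h2
  have hxa : (x : MulAut (W 1)) * y = a := congrArg Subtype.val hxy
  refine ⟨a * (y : MulAut (W 1))⁻¹ * a⁻¹, hKn a ha _ (inv_mem hy), fun s => ?_⟩
  have h3 : a * (y : MulAut (W 1))⁻¹ * a⁻¹ * a = x := by
    rw [inv_mul_cancel_right, ← hxa, mul_inv_cancel_right]
  rw [h3]
  have h4 : (⟨MulAut.conjNormal (H := W 1) s, S.conj_le ⟨s, rfl⟩⟩ : A) ∈ (S.syl : Subgroup A) := S.mem_syl.2 ⟨s, rfl⟩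
  have h5 := (Subgroup.mem_normalizer_iff.1 hx _).1 h4
  obtain ⟨y', hy'⟩ := S.mem_syl.1 h5
  exact ⟨y', hy'.symm⟩

/-- **Abstract form of (W5).** -/
theorem Sit.le_conjGrp_of_weights (S : Sit p n W A) {K : Subgroup (MulAut (W 1))} (hKA : K ≤ A)
    (hKn : ∀ a ∈ A, ∀ c ∈ K, a * c * a⁻¹ ∈ K) (hcK : conjGrp (W 1) ≤ K) {a₀ : MulAut (W 1)} (ha₀ : a₀ ∈ A)
    {l : ℕ} (l_prim : ∀ m : ℕ, (l : ZMod p) ^ m = 1 → p - 1 ∣ m)
    (h1 : ∀ c ∈ K, Nor c → ∀ r t, Sc W c 1 r → Sc W c (n - 1) t → r * t ≡ 1 [MOD p])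
    (h2 : ∀ c ∈ K, Nor (c * a₀) → ∀ r t, Sc W (c * a₀) 1 r → Sc W (c * a₀) (n - 1) t → r * t ≡ l [MOD p]) :
    K ≤ conjGrp (W 1) := by
  have h4 := S.mc.four_le
  obtain ⟨s, hs⟩ := S.exists_s
  obtain ⟨δ, -, hδ⟩ := exists_delta S.mc S.deg S.nonab
  obtain ⟨c, hc, hnor⟩ := S.frattini hKn hcK ha₀
  obtain ⟨k₀, w₀, b₀, hw₀, hcj₀, hb₀⟩ := exists_data S.mc hs hnor
  obtain ⟨hbk₀, hk₀⟩ := hδ _ _ _ _ _ hs hw₀ hnor hcj₀ hb₀
  have hM : ∀ (k b l : ℕ), b ≡ k ^ (1 + δ) [MOD p] → b * (b * k ^ (n - 1 - 1)) ≡ l [MOD p] →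
      (k : ZMod p) ^ ((1 + δ) + ((1 + δ) + (n - 1 - 1))) = l := by
    intro k b l hb hl
    rw [← ZMod.natCast_eq_natCast_iff] at hb hl
    push_cast at hb hl
    rw [hb] at hl
    rw [pow_add, pow_add _ (1 + δ), hl]
  have hM₀ := hM _ _ _ hbk₀ (h2 c hc hnor _ _ hb₀ (sc_all S.mc S.deg hs hw₀ hnor hcj₀ hb₀ (n - 1) (by omega) (by omega)))
  refine S.eq_conjGrp hKA hKn hcK fun a ha hna => ?_
  obtain ⟨k, w, b, hw, hcj, hb⟩ := exists_data S.mc hs hna
  obtain ⟨hbk, hk⟩ := hδ _ _ _ _ _ hs hw hna hcj hb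
  have hM₁ := hM _ _ _ hbk (h1 a ha hna _ _ hb (sc_all S.mc S.deg hs hw hna hcj hb (n - 1) (by omega) (by omega)))
  rw [Nat.cast_one] at hM₁
  have hk1 := eq_one_of_weights hM₀ l_prim hk₀ hk hM₁
  refine S.mem_conjGrp (hKA ha) hs ?_
  have hsp : s ^ p ∈ W 1 := by
    have h5 := Subgroup.pow_index_mem (W 1) s
    rwa [S.mc.W1_index] at h5
  have hk0 : 1 ≤ k := by
    rcases Nat.eq_zero_or_pos k with h | h
    · rw [h] at hk; exact absurd (dvd_zero p) hk
    · exact h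
  obtain ⟨m, hm⟩ := (Nat.modEq_iff_dvd' hk0).1 hk1.symm
  have hsk : s ^ k * s⁻¹ ∈ W 1 := by
    have h5 : s ^ k = s ^ (k - 1) * s := by rw [← pow_succ]; congr 1; omega
    rw [h5, mul_inv_cancel_right, hm, pow_mul]
    exact pow_mem hsp _
  rw [hcj, ← map_inv, ← map_mul]
  refine conjNormal_mem_inn ?_
  have h6 : s ^ k * w * s⁻¹ = s ^ k * s⁻¹ * (s * w * s⁻¹) := by group
  rw [h6]
  exact mul_mem hsk (hN1.conj_mem w hw s)

end Cfsg.Agent.H779.Core
end

-- part: H779/W5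
section
/-!
# Step (W5) of the exceptional case of S5267 (helper779)
-/

set_option autoImplicit false
set_option linter.unusedSectionVars false

namespace Cfsg.Agent.H779.Core

open Subgroup Cfsg.Agent.H467.MaxClass Cfsg.Agent.H786
open scoped commutatorElement

universe u

variable {P : Type u} [Group P] {p n : ℕ} {W : ℕ → Subgroup P} [hN1 : (W 1).Normal] {A : Subgroup (MulAut (W 1))}
variable [hp : Fact p.Prime] [Finite P]

omit hN1 hp [Finite P] in
theorem Z_pow (mc : MC P p n W) {z : P} (hz : z ∈ W (n - 1)) : z ^ p = 1 := by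
  have h4 := mc.four_le
  have h1 := mc.card_W 1 (by omega)
  have h2 : (⟨z, hz⟩ : W (n - 1)) ^ Nat.card (W (n - 1)) = 1 := pow_card_eq_one'
  rw [h1, pow_one] at h2
  exact congrArg Subtype.val h2

omit hN1 hp [Finite P] in
theorem comm_aux {v w s z : P} (hz : ∀ x, Commute z x) (hws : Commute w s) : ⁅v * w, s * z⁆ = ⁅v, s⁆ := by
  have h1 : w * (s * z) = s * z * w := (hws.mul_right (hz w).symm).eq
  calc ⁅v * w, s * z⁆ = v * (w * (s * z)) * w⁻¹ * v⁻¹ * z⁻¹ * s⁻¹ := by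
        simp only [commutatorElement_def]; group
    _ = v * s * (z * v⁻¹) * z⁻¹ * s⁻¹ := by rw [h1]; group
    _ = v * s * (v⁻¹ * z) * z⁻¹ * s⁻¹ := by rw [(hz v⁻¹).eq]
    _ = ⁅v, s⁆ := by simp only [commutatorElement_def]; group

/-- The weights on the first and the next-to-last factor multiply to the weight on the centre. -/
theorem pair_weight (mc : MC P p n W) (hn : 5 ≤ n) (hp3 : 3 ≤ p) (exc : mc.Ksub (n - 2) ≠ W 1) {a : MulAut (W 1)}
    {r t m : ℕ} (hr : ∀ e : W 1, ((e : P) ^ r)⁻¹ * ((a e : W 1) : P) ∈ W 2)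
    (ht : ∀ e : W 1, (e : P) ∈ W (n - 2) → ((e : P) ^ t)⁻¹ * ((a e : W 1) : P) ∈ W (n - 1))
    (hm : ∀ e : W 1, (e : P) ∈ W (n - 1) → a e = e ^ m) : r * t ≡ m [MOD p] := by
  obtain ⟨v, hv, hv'⟩ := mc.ne_succ (show 1 < n by omega)
  obtain ⟨s, hs, hs'⟩ := mc.ne_succ (show n - 2 < n by omega)
  have hs1 : s ∈ W 1 := mc.antitone (by omega) hs
  obtain ⟨h1, h2⟩ := mc.D4 hp3 exc le_rfl (by omega) hv hv' (s' := s) (by rwa [show n - 1 - 1 = n - 2 by omega])
    (by rwa [show n - 2 + 1 = n - 1 by omega] at hs')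
  have hcen : ∀ x : P, Commute ⁅v, s⁆ x := fun x => mc.center_le h2 x
  have h3 := hr ⟨v, hv⟩
  have h4 := ht ⟨s, hs1⟩ hs
  set w := (v ^ r)⁻¹ * ((a ⟨v, hv⟩ : W 1) : P) with hw
  set z := (s ^ t)⁻¹ * ((a ⟨s, hs1⟩ : W 1) : P) with hz
  have h5 : ((a ⟨v, hv⟩ : W 1) : P) = v ^ r * w := by rw [hw]; group
  have h6 : ((a ⟨s, hs1⟩ : W 1) : P) = s ^ t * z := by rw [hz]; group
  have h7 : ((a ⁅(⟨v, hv⟩ : W 1), ⟨s, hs1⟩⁆ : W 1) : P) = ⁅v, s⁆ ^ (r * t) := by
    rw [map_commutatorElement]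
    show ⁅((a ⟨v, hv⟩ : W 1) : P), ((a ⟨s, hs1⟩ : W 1) : P)⁆ = _
    have hws : Commute w (s ^ t) := by
      have h8 := mc.comm_comm_mem (i := 2) (j := n - 2) h3 (pow_mem hs t)
      rw [mc.bot_of_le (by omega), Subgroup.mem_bot] at h8
      exact commutatorElement_eq_one_iff_mul_comm.1 h8
    rw [h5, h6, comm_aux (fun x => mc.center_le h4 x) hws]
    have e2 : ⁅v, s ^ t⁆ = ⁅v, s⁆ ^ t := comm_pow_right hcen t
    have e3 : ⁅v ^ r, s ^ t⁆ = ⁅v, s ^ t⁆ ^ r := by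
      refine comm_pow_left (fun x => ?_) r
      rw [e2]
      exact (hcen x).pow_left t
    rw [e3, e2, ← pow_mul, mul_comm]
  have h8 := hm ⁅(⟨v, hv⟩ : W 1), ⟨s, hs1⟩⁆ h2
  rw [h8] at h7
  have h9 : ⁅v, s⁆ ^ m = ⁅v, s⁆ ^ (r * t) := h7
  have h10 : orderOf ⁅v, s⁆ = p := orderOf_eq_prime (Z_pow mc h2) h1
  rw [pow_eq_pow_iff_modEq, h10] at h9
  exact h9.symm

/-- the action on the centre is a power map -/
theorem exists_weight_Z (mc : MC P p n W) {a : MulAut (W 1)}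
    (ha : ∀ e : W 1, (e : P) ∈ W (n - 1) → ((a e : W 1) : P) ∈ W (n - 1)) :
    ∃ m : ℕ, ∀ e : W 1, (e : P) ∈ W (n - 1) → a e = e ^ m := by
  have h4 := mc.four_le
  have hnn : n - 1 + 1 = n := by omega
  obtain ⟨m, hm⟩ := exists_sc mc (a := a) (i := n - 1) (by omega) (by omega) ha (by
    intro e he
    rw [hnn, mc.bot, Subgroup.mem_bot] at he
    have h5 : e = 1 := Subtype.ext he
    rw [h5, map_one]
    exact one_mem _)
  refine ⟨m, fun e he => ?_⟩
  have h5 := hm e he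
  rw [hnn, mc.bot, Subgroup.mem_bot, inv_mul_eq_one] at h5
  exact Subtype.ext h5.symm

/-- **Step (W5).** -/
theorem w5 (mc : MC P p n W) (five : 5 ≤ p) (exc : mc.Ksub (n - 2) ≠ W 1) (conj_le : conjGrp (W 1) ≤ A)
    (sylow : ¬ p ∣ (conjGrp (W 1)).relIndex A) (Z_inv : AInv A (W (n - 1)))
    (hnab : ¬ ⁅W 1, W 1⁆ ≤ W (n - 1)) {k : MulAut (W 1)} (hk : k ∈ A) {l : ℕ}
    (hkl : ∀ e : W 1, (e : P) ∈ W (n - 1) → k e = e ^ l)
    (l_prim : ∀ m : ℕ, (l : ZMod p) ^ m = 1 → p - 1 ∣ m) : PClosed A := by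
  classical
  have hp3 : 3 ≤ p := by omega
  have h4 := mc.four_le
  have hn5 : 5 ≤ n := by
    by_contra hlt
    have hn4 : n = 4 := by omega
    apply mc.last_comm_ne_bot exc
    rw [eq_bot_iff, ← mc.bot]
    subst hn4
    exact mc.two
  have hnj := mc.normal (n - 1)
  set q := QuotientGroup.mk' (W (n - 1)) with hq
  have hqs : Function.Surjective q := QuotientGroup.mk'_surjective _
  have hq1 : ∀ x, q x = 1 ↔ x ∈ W (n - 1) := fun x => QuotientGroup.eq_one_iff _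
  let W' : ℕ → Subgroup (P ⧸ W (n - 1)) := fun i => (W i).map q
  have hmc : MC (P ⧸ W (n - 1)) p (n - 1) W' := mc.quot (by omega) (by omega)
  have hn1' : (W' 1).Normal := hmc.normal 1
  let θ : W 1 →* P ⧸ W (n - 1) := q.comp (W 1).subtype
  have hr : θ.range = W' 1 := by
    show (q.comp (W 1).subtype).range = (W 1).map q
    rw [MonoidHom.range_comp, Subgroup.range_subtype]
  have hθ : ∀ v : W' 1, ∃ x, θ x = v := fun v => by
    have hv : (v : P ⧸ W (n - 1)) ∈ θ.range := by rw [hr]; exact v.2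
    exact hv
  have hθW : ∀ x : W 1, θ x ∈ W' 1 := fun x => by rw [← hr]; exact ⟨x, rfl⟩
  obtain ⟨ρ, hρ⟩ := Cfsg.Agent.H42.MaxEss.exists_act θ (W' 1) hr.ge A.subtype
    (fun a x hx => (hq1 _).2 (Z_inv a a.2 x ((hq1 _).1 hx))) (fun a x _ => hθW _)
  have hconj : ∀ (y : P) (a : A), (a : MulAut (W 1)) = MulAut.conjNormal (H := W 1) y →
      ρ a = MulAut.conjNormal (H := W' 1) (q y) := by
    intro y a ha
    apply MulEquiv.ext
    intro v
    apply Subtype.ext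
    obtain ⟨x, hx⟩ := hθ v
    rw [hρ a v x hx, MulAut.conjNormal_apply, ← hx]
    show q (((a : MulAut (W 1)) x : W 1) : P) = q y * q (x : P) * (q y)⁻¹
    rw [ha, MulAut.conjNormal_apply, map_mul, map_mul, map_inv]
  have S : Sit p (n - 1) W' ρ.range := by
    refine ⟨hmc, ?_, five, ?_, ?_, ?_⟩
    · intro i j hi hj
      show ⁅(W i).map q, (W j).map q⁆ ≤ (W (i + j + 1)).map q
      rw [← map_commutator]
      rcases Nat.lt_or_ge (n - 2) (i + j) with h | h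
      · have h1 : (⁅W i, W j⁆).map q = ⊥ := by
          rw [Subgroup.map_eq_bot_iff, QuotientGroup.ker_mk']
          exact (mc.comm_comm j i).trans (mc.antitone (by omega))
        rw [h1]
        exact bot_le
      · exact Subgroup.map_mono (mc.deg_of_add_le hp3 hi hj h)
    · rintro _ ⟨y', rfl⟩
      obtain ⟨y, rfl⟩ := hqs y'
      exact ⟨⟨_, conj_le ⟨y, rfl⟩⟩, hconj y _ rfl⟩
    · intro hd
      apply sylow
      refine hd.trans ?_
      have h1 : ((conjGrp (W 1)).subgroupOf A).map ρ ≤ conjGrp (W' 1) := by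
        rintro _ ⟨a, ⟨y, hy⟩, rfl⟩
        exact ⟨q y, (hconj y a hy.symm).symm⟩
      refine (Subgroup.relIndex_dvd_of_le_left ρ.range h1).trans ?_
      have e1 : (((conjGrp (W 1)).subgroupOf A).map ρ).relIndex ρ.range =
          (((conjGrp (W 1)).subgroupOf A).map ρ.rangeRestrict).index := by
        rw [Subgroup.relIndex]
        congr 1
        ext ⟨y, hy⟩
        constructor
        · rintro ⟨a, ha, hay⟩
          exact ⟨a, ha, Subtype.ext hay⟩
        · rintro ⟨a, ha, hay⟩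
          exact ⟨a, ha, congrArg Subtype.val hay⟩
      rw [e1]
      exact ((conjGrp (W 1)).subgroupOf A).index_map_dvd ρ.rangeRestrict_surjective
    · intro h
      apply hnab
      have h1 : (⁅W 1, W 1⁆).map q = ⊥ := by
        rw [map_commutator]
        exact h
      rwa [Subgroup.map_eq_bot_iff, QuotientGroup.ker_mk'] at h1
  -- the weights
  have hsc1 : ∀ (a : A) (r : ℕ), Sc W' (ρ a) 1 r → ∀ e : W 1, ((e : P) ^ r)⁻¹ * (((a : MulAut (W 1)) e : W 1) : P) ∈ W 2 := by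
    intro a r h e
    have h1 := h ⟨θ e, hθW e⟩ (hθW e)
    rw [hρ a _ e rfl] at h1
    refine (Cfsg.Agent.H42.MaxEss.mem_map_mk (mc.antitone (show 2 ≤ n - 1 by omega))).1 ?_
    rw [map_mul, map_inv, map_pow]
    exact h1
  have hsc2 : ∀ (a : A) (t : ℕ), Sc W' (ρ a) (n - 2) t → ∀ e : W 1, (e : P) ∈ W (n - 2) →
      ((e : P) ^ t)⁻¹ * (((a : MulAut (W 1)) e : W 1) : P) ∈ W (n - 1) := by
    intro a t h e he
    have h1 := h ⟨θ e, hθW e⟩ ⟨(e : P), he, rfl⟩
    rw [hρ a _ e rfl, show n - 2 + 1 = n - 1 by omega] at h1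
    refine (Cfsg.Agent.H42.MaxEss.mem_map_mk (N := W (n - 1)) le_rfl).1 ?_
    rw [map_mul, map_inv, map_pow]
    exact h1
  -- the kernel of the action on the centre
  let K₀ : Subgroup A :=
    { carrier := {a | ∀ e : W 1, (e : P) ∈ W (n - 1) → (a : MulAut (W 1)) e = e}
      one_mem' := fun e _ => rfl
      mul_mem' := by
        intro a b ha hb e he
        show (a : MulAut (W 1)) ((b : MulAut (W 1)) e) = e
        rw [hb e he, ha e he]
      inv_mem' := by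
        intro a ha e he
        show (a : MulAut (W 1))⁻¹ e = e
        conv_lhs => rw [← ha e he]
        exact MulAut.inv_apply_self _ _ _ }
  have hK₀ : ∀ a : A, a ∈ K₀ ↔ ∀ e : W 1, (e : P) ∈ W (n - 1) → (a : MulAut (W 1)) e = e := fun a => Iff.rfl
  have hK₀n : ∀ a c : A, c ∈ K₀ → a * c * a⁻¹ ∈ K₀ := by
    intro a c hc e he
    show (a : MulAut (W 1)) ((c : MulAut (W 1)) ((a : MulAut (W 1))⁻¹ e)) = e
    have h1 : (((a : MulAut (W 1))⁻¹ e : W 1) : P) ∈ W (n - 1) := Z_inv _ (inv_mem a.2) e he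
    rw [hc _ h1, MulAut.apply_inv_self]
  have hcK₀ : ∀ c : A, (c : MulAut (W 1)) ∈ conjGrp (W 1) → c ∈ K₀ := by
    rintro c ⟨y, hy⟩ e he
    rw [← hy]
    apply Subtype.ext
    rw [MulAut.conjNormal_apply]
    have h1 : Commute (e : P) y := mc.center_le he y
    rw [← h1.eq, mul_inv_cancel_right]
  have key : K₀.map ρ ≤ conjGrp (W' 1) := by
    refine S.le_conjGrp_of_weights (a₀ := ρ ⟨k, hk⟩) (l := l) ?_ ?_ ?_ ⟨_, rfl⟩ l_prim ?_ ?_
    · rintro _ ⟨a, -, rfl⟩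
      exact ⟨a, rfl⟩
    · rintro _ ⟨a, rfl⟩ _ ⟨c, hc, rfl⟩
      refine ⟨a * c * a⁻¹, hK₀n a c hc, ?_⟩
      rw [map_mul, map_mul, map_inv]
    · rintro _ ⟨y', rfl⟩
      obtain ⟨y, rfl⟩ := hqs y'
      exact ⟨⟨_, conj_le ⟨y, rfl⟩⟩, hcK₀ _ ⟨y, rfl⟩, hconj y _ rfl⟩
    · rintro _ ⟨c, hc, rfl⟩ - r t h1 h2
      rw [show n - 1 - 1 = n - 2 by omega] at h2
      refine pair_weight mc hn5 hp3 exc (hsc1 c r h1) (hsc2 c t h2) fun e he => ?_
      rw [pow_one]
      exact hc e he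
    · rintro _ ⟨c, hc, rfl⟩ - r t h1 h2
      rw [show n - 1 - 1 = n - 2 by omega] at h2
      rw [← map_mul] at h1 h2
      refine pair_weight mc hn5 hp3 exc (hsc1 _ r h1) (hsc2 _ t h2) fun e he => ?_
      show (c : MulAut (W 1)) (k e) = e ^ l
      rw [hkl e he, map_pow, hc e he]
  -- the kernel of `ρ`
  have hker : ∀ d : A, ρ d = 1 → ∀ e : W 1, (e : P)⁻¹ * (((d : MulAut (W 1)) e : W 1) : P) ∈ W (n - 1) := by
    intro d hd e
    have h1 := hρ d ⟨θ e, hθW e⟩ e rfl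
    rw [hd] at h1
    have h2 : q (e : P) = q (((d : MulAut (W 1)) e : W 1) : P) := h1
    rw [← hq1, map_mul, map_inv, h2, inv_mul_cancel]
  have hkerZ : ∀ d : A, ρ d = 1 → d ∈ K₀ := by
    intro d hd
    obtain ⟨m, hm⟩ := exists_weight_Z mc (a := (d : MulAut (W 1))) (fun e he => Z_inv d d.2 e he)
    have h1 := pair_weight mc hn5 hp3 exc (a := (d : MulAut (W 1))) (r := 1) (t := 1) (m := m)
      (fun e => by rw [pow_one]; exact mc.antitone (show 2 ≤ n - 1 by omega) (hker d hd e))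
      (fun e _ => by rw [pow_one]; exact hker d hd e) hm
    rw [mul_one] at h1
    intro e he
    rw [hm e he]
    apply Subtype.ext
    have h2 : ((e : P)) ^ m = (e : P) ^ 1 := by
      by_cases he1 : (e : P) = 1
      · rw [he1, one_pow, one_pow]
      · rw [pow_eq_pow_iff_modEq, orderOf_eq_prime (Z_pow mc he) he1]
        exact h1.symm
    rw [Subgroup.coe_pow, h2, pow_one]
  have hpow : ∀ d : A, ρ d = 1 → d ^ p = 1 := by
    intro d hd
    have h1 : ∀ (j : ℕ) (e : W 1), ((((d : MulAut (W 1)) ^ j) e : W 1) : P) =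
        e * ((e : P)⁻¹ * (((d : MulAut (W 1)) e : W 1) : P)) ^ j := by
      intro j
      induction j with
      | zero => intro e; simp
      | succ j ih =>
        intro e
        rw [pow_succ', MulAut.mul_apply]
        set z : P := (e : P)⁻¹ * (((d : MulAut (W 1)) e : W 1) : P) with hz
        have hzZ : z ∈ W (n - 1) := hker d hd e
        have hz1 : z ∈ W 1 := mc.antitone (by omega) hzZ
        have h2 : ((d : MulAut (W 1)) ^ j) e = e * (⟨z, hz1⟩ : W 1) ^ j := Subtype.ext (ih e)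
        rw [h2, map_mul, map_pow, hkerZ d hd ⟨z, hz1⟩ hzZ]
        show (((d : MulAut (W 1)) e : W 1) : P) * z ^ j = e * z ^ (j + 1)
        have h3 : (((d : MulAut (W 1)) e : W 1) : P) = e * z := by rw [hz]; group
        rw [h3, pow_succ', mul_assoc]
    apply Subtype.ext
    apply MulEquiv.ext
    intro e
    apply Subtype.ext
    show ((((d : MulAut (W 1)) ^ p) e : W 1) : P) = e
    rw [h1 p e, Z_pow mc (hker d hd e), mul_one]
  -- the Sylow subgroup
  have hpP : IsPGroup p P := IsPGroup.of_card mc.card_group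
  have hpc : IsPGroup p (conjGrp (W 1)) := by
    have : IsPGroup p (MulAut.conjNormal (H := W 1)).range :=
      hpP.of_surjective (MulAut.conjNormal (H := W 1)).rangeRestrict
        (MulAut.conjNormal (H := W 1)).rangeRestrict_surjective
    exact this
  let T : Sylow p A := IsPGroup.toSylow (P := (conjGrp (W 1)).subgroupOf A)
    (hpc.comap_of_injective _ (Subgroup.subtype_injective A)) sylow
  have hT : ∀ a : A, a ∈ (T : Subgroup A) ↔ (a : MulAut (W 1)) ∈ conjGrp (W 1) := fun a => Iff.rfl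
  have hkT : ρ.ker ≤ (T : Subgroup A) := by
    refine IsPGroup.le_sylow_of_normal (fun d => ⟨1, ?_⟩) T
    rw [pow_one]
    exact Subtype.ext (hpow d d.2)
  intro a ha c hc
  obtain ⟨d, hd, hdK⟩ : ∃ d : A, (d : MulAut (W 1)) = a * c * a⁻¹ ∧ d ∈ K₀ :=
    ⟨(⟨a, ha⟩ : A) * ⟨c, conj_le hc⟩ * (⟨a, ha⟩ : A)⁻¹, rfl, hK₀n _ _ (hcK₀ _ hc)⟩
  obtain ⟨y', hy'⟩ := key ⟨_, hdK, rfl⟩
  obtain ⟨y, rfl⟩ := hqs y'
  obtain ⟨b, hb, hbρ⟩ : ∃ b : A, (b : MulAut (W 1)) = MulAut.conjNormal (H := W 1) y ∧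
      ρ b = MulAut.conjNormal (H := W' 1) (q y) :=
    ⟨⟨MulAut.conjNormal (H := W 1) y, conj_le ⟨y, rfl⟩⟩, rfl, hconj y _ rfl⟩
  have h1 : d * b⁻¹ ∈ ρ.ker := by
    rw [MonoidHom.mem_ker, map_mul, map_inv, hbρ, ← hy']
    exact mul_inv_cancel _
  have h2 : (d : MulAut (W 1)) * (b : MulAut (W 1))⁻¹ ∈ conjGrp (W 1) := (hT _).1 (hkT h1)
  rw [hd, hb] at h2
  have h4 := mul_mem h2 (show MulAut.conjNormal (H := W 1) y ∈ conjGrp (W 1) from ⟨y, rfl⟩)
  rwa [inv_mul_cancel_right] at h4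

/-- **Step (W5) in the form of `XData`.** -/
theorem w5_xdata {E : Subgroup P} {B H : Subgroup (MulAut E)} (c : CfgX p n W A E B H) {a t l : ℕ} {v z : P}
    {k : MulAut E} (x : XData p n W E B H a t l v z k) (hnab : ¬ ⁅W 1, W 1⁆ ≤ W (n - 1)) : PClosed A := by
  obtain ⟨a', ha', hk⟩ := c.ext k x.k_H
  refine w5 c.mc c.five c.exc c.conj_le c.sylow c.Z_inv hnab ha' (l := l) ?_ x.l_prim
  intro e he
  have h4 := c.mc.four_le
  have hE : (e : P) ∈ E := x.Wt_le (by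
    have h1 := x.one_le_a
    have h2 := x.a_add_t
    exact c.mc.antitone (by omega) he)
  apply Subtype.ext
  rw [← ap_coe, hk ⟨e, hE⟩, x.k_Z ⟨e, hE⟩ he]
  rfl

end Cfsg.Agent.H779.Core
end

-- part: H779/W4
section
/-!
# Step (W4) of the exceptional case of S5267 (helper779)
-/

set_option autoImplicit false
set_option linter.unusedSectionVars false

namespace Cfsg.Agent.H779.Core

open Subgroup Cfsg.Agent.H467.MaxClass Cfsg.Agent.H786
open scoped commutatorElement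

universe u

variable {P : Type u} [Group P] {p n : ℕ} {W : ℕ → Subgroup P} [hN1 : (W 1).Normal] {A : Subgroup (MulAut (W 1))}
variable [hp : Fact p.Prime] [Finite P]

omit hN1 in
theorem five_le (mc : MC P p n W) (exc : mc.Ksub (n - 2) ≠ W 1) : 5 ≤ n := by
  have h4 := mc.four_le
  by_contra hlt
  have hn4 : n = 4 := by omega
  apply mc.last_comm_ne_bot exc
  rw [eq_bot_iff, ← mc.bot]
  subst hn4
  exact mc.two

/-- **Step (W4).** -/
theorem w4_xdata {E : Subgroup P} {B H : Subgroup (MulAut E)} (c : CfgX p n W A E B H) {a t l : ℕ} {v z : P}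
    {k : MulAut E} (x : XData p n W E B H a t l v z k) (hab : ⁅W 1, W 1⁆ ≤ W (n - 1)) : False := by
  have mc := c.mc
  have h4 := mc.four_le
  have hn5 := five_le c.mc c.exc
  have hp3 : 3 ≤ p := by have := c.five; omega
  have hat := x.a_add_t
  have ha1 := x.one_le_a
  have ht3 := x.three_le_t
  have hv1 : v ∈ W 1 := mc.antitone ha1 x.v_mem
  have hz1 : z ∈ W 1 := mc.antitone (by omega) x.z_mem
  have hcomm : ∀ {y w : P}, y ∈ W 1 → w ∈ W 1 → ⁅y, w⁆ ∈ W (n - 1) := fun hy hw =>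
    hab (commutator_mem_commutator hy hw)
  have hcen : ∀ {y w : P}, y ∈ W 1 → w ∈ W 1 → ∀ u, Commute ⁅y, w⁆ u := fun hy hw u =>
    mc.center_le (hcomm hy hw) u
  have hzv : ⁅z, v⁆ ≠ 1 := by
    intro h
    exact x.z_not ((x.E_iff z hz1).2 (commutatorElement_eq_one_iff_mul_comm.1 h))
  -- powers on the centre
  have hgen : ∀ {y w : P}, y ∈ W (n - 1) → y ≠ 1 → w ∈ W (n - 1) → ∃ m : ℕ, w = y ^ m := by
    intro y w hy hy1 hw
    obtain ⟨m, hm⟩ := exists_pow mc (i := n - 1) (by omega) hy (by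
      rw [show n - 1 + 1 = n by omega, mc.bot, Subgroup.mem_bot]; exact hy1) hw
    rw [show n - 1 + 1 = n by omega, mc.bot, Subgroup.mem_bot, inv_mul_eq_one] at hm
    exact ⟨m, hm.symm⟩
  -- elements of `E` of all indices but `t - 1`
  have hex : ∀ i, 1 ≤ i → i < n → i ≠ t - 1 → ∃ e ∈ E, e ∈ W i ∧ e ∉ W (i + 1) := by
    intro i hi hin hne
    obtain ⟨w, hw, hw'⟩ := mc.ne_succ hin
    rcases Nat.lt_or_ge i t with hlt | hge
    · have hit : i + 1 ≤ t - 1 := by omega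
      have hw1 : w ∈ W 1 := mc.antitone hi hw
      obtain ⟨m, hm⟩ := hgen (hcomm hz1 hv1) hzv (hcomm hw1 hv1)
      have hzm : (z ^ m)⁻¹ ∈ W (i + 1) := mc.antitone hit (inv_mem (pow_mem x.z_mem m))
      have hzm1 : (z ^ m)⁻¹ ∈ W 1 := inv_mem (pow_mem hz1 m)
      refine ⟨w * (z ^ m)⁻¹, ?_, mul_mem hw (mc.antitone (Nat.le_succ i) hzm), fun h => ?_⟩
      · refine (x.E_iff _ (mul_mem hw1 hzm1)).2 ?_
        have h5 : ⁅z ^ m, v⁆ = ⁅z, v⁆ ^ m := comm_pow_left (hcen hz1 hv1) m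
        have h6 : ⁅w * (z ^ m)⁻¹, v⁆ = 1 := by
          have e1 : ⁅w * (z ^ m)⁻¹, v⁆ = w * ((z ^ m)⁻¹ * ⁅z ^ m, v⁆⁻¹ * z ^ m) * w⁻¹ * ⁅w, v⁆ := by
            simp only [commutatorElement_def]; group
          have e2 : (z ^ m)⁻¹ * ⁅z ^ m, v⁆⁻¹ * z ^ m = ⁅z ^ m, v⁆⁻¹ := by
            have h7 := ((hcen (pow_mem hz1 m) hv1 (z ^ m)).inv_left).eq
            rw [mul_assoc, h7, inv_mul_cancel_left]
          have h8 := ((hcen (pow_mem hz1 m) hv1 w⁻¹).inv_left).eq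
          rw [e1, e2, mul_assoc w, h8, mul_inv_cancel_left, h5, ← hm, inv_mul_cancel]
        exact commutatorElement_eq_one_iff_mul_comm.1 h6
      · apply hw'
        have h9 := mul_mem h (inv_mem hzm)
        rwa [inv_inv, inv_mul_cancel_right] at h9
    · exact ⟨w, x.Wt_le (mc.antitone hge hw), hw, hw'⟩
  obtain ⟨i, hi1, hi2, hi3, hi4⟩ : ∃ i, 1 ≤ i ∧ i ≤ n - 2 ∧ i ≠ t - 1 ∧ i ≠ a := by
    by_cases h1 : 1 ≠ t - 1 ∧ 1 ≠ a
    · exact ⟨1, le_rfl, by omega, h1.1, h1.2⟩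
    · by_cases h2 : 2 ≠ t - 1 ∧ 2 ≠ a
      · exact ⟨2, by omega, by omega, h2.1, h2.2⟩
      · exact ⟨3, by omega, by omega, by omega, by omega⟩
  obtain ⟨e, heE, he, he'⟩ := hex i hi1 (by omega) hi3
  obtain ⟨f, hfE, hf, hf'⟩ := hex (n - 1 - i) (by omega) (by omega) (by omega)
  obtain ⟨h5, h6⟩ := mc.D4 hp3 c.exc hi1 hi2 he he' hf (by rwa [show n - 1 - i + 1 = n - i by omega] at hf')
  refine x.not_inv fun g _ u hu => ?_
  obtain ⟨m, hm⟩ := hgen h6 h5 hu
  have h7 : u = ⁅(⟨e, heE⟩ : E), ⟨f, hfE⟩⁆ ^ m := Subtype.ext hm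
  rw [h7, map_pow, map_commutatorElement]
  exact pow_mem (hcomm (c.E_le (SetLike.coe_mem _)) (c.E_le (SetLike.coe_mem _))) m

end Cfsg.Agent.H779.Core
end

-- part: H467/CoreXOf
section
/-!
# The exceptional core lemma of S5267 from step (W6) (helper467)
-/

set_option autoImplicit false

namespace Cfsg.Agent.H467.XThree

open Subgroup Cfsg.Agent.H467.MaxClass Cfsg.Agent.H786
open scoped commutatorElement

universe u

variable {P : Type u} [Group P] {E : Subgroup P} {p n : ℕ} {W : ℕ → Subgroup P} [hW1 : (W 1).Normal]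
  {A : Subgroup (MulAut (W 1))} {B H : Subgroup (MulAut E)} [Finite P] [hp : Fact p.Prime]

/-- The exceptional core lemma, from (W6). -/
theorem coreX_of (c : CfgX p n W A E B H)
    (hW6 : ∀ (a t l : ℕ) (v z : P) (k : MulAut E), XData p n W E B H a t l v z k →
      ¬ ⁅W 1, W 1⁆ ≤ W (n - 1) → PClosed A → False) : ZInv B (W (n - 1)) := by
  by_contra h
  obtain ⟨a, t, l, v, z, k, x⟩ := exists_xdata c h
  by_cases hab : ⁅W 1, W 1⁆ ≤ W (n - 1)
  · exact Cfsg.Agent.H779.Core.w4_xdata c x hab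
  · exact hW6 a t l v z k x hab (Cfsg.Agent.H779.Core.w5_xdata c x hab)

end Cfsg.Agent.H467.XThree
end
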