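import Mathlib
set_option linter.all false

-- part: H467/MaxClassBasic
section
/-!
# p-groups of maximal class: the abstract chain (helper467)

`MC P p n W`: the chain `W 0 = P > W 1 > W 2 = P' > W 3 = [W 2, P] > ... > W n = 1` of a group of
order `p ^ n` of maximal class, with `W 1` the two-step centralizer of `W 2 / W 4`.

Main facts here: `comm_comm` (`[W i, W j] ≤ W (i + j)`), two-step centralizers `K i`
(elements centralizing `W i / W (i + 2)`) are proper subgroups, `mem_K_iff` (one element of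
`W i - W (i + 1)` suffices), quotients `MC.quot`.
-/

set_option autoImplicit false

namespace Cfsg.Agent.H467.MaxClass

open Subgroup
open scoped commutatorElement

universe u

variable {P : Type u} [Group P]

theorem three_le {A B C N : Subgroup P} (hN : N.Normal) (h1 : ⁅⁅B, C⁆, A⁆ ≤ N)
    (h2 : ⁅⁅C, A⁆, B⁆ ≤ N) : ⁅⁅A, B⁆, C⁆ ≤ N := by
  have key : ∀ H : Subgroup P, H ≤ N ↔ H.map (QuotientGroup.mk' N) = ⊥ := by
    intro H
    rw [Subgroup.map_eq_bot_iff, QuotientGroup.ker_mk']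
  rw [key, map_commutator, map_commutator] at h1 h2 ⊢
  exact commutator_commutator_eq_bot_of_rotate h1 h2

/-- The chain of a group of maximal class. -/
structure MC (P : Type u) [Group P] (p n : ℕ) (W : ℕ → Subgroup P) : Prop where
  four_le : 4 ≤ n
  zero : W 0 = ⊤
  comm_top : ⁅(⊤ : Subgroup P), ⊤⁆ = W 2
  comm : ∀ i, 2 ≤ i → ⁅W i, (⊤ : Subgroup P)⁆ = W (i + 1)
  bot : W n = ⊥
  le_succ : ∀ i, W (i + 1) ≤ W i
  relIndex : ∀ i, i < n → (W (i + 1)).relIndex (W i) = p
  two : ⁅W 2, W 1⁆ ≤ W 4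

namespace MC

variable {p n : ℕ} {W : ℕ → Subgroup P}

theorem antitone (h : MC P p n W) : Antitone W := antitone_nat_of_succ_le h.le_succ

theorem bot_of_le (h : MC P p n W) {i : ℕ} (hi : n ≤ i) : W i = ⊥ := by
  rw [eq_bot_iff, ← h.bot]
  exact h.antitone hi

theorem normal (h : MC P p n W) (i : ℕ) : (W i).Normal := by
  have h2 : (W 2).Normal := by rw [← h.comm_top]; infer_instance
  match i with
  | 0 => rw [h.zero]; infer_instance
  | 1 =>
    apply Subgroup.Normal.of_commutator_le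
    rw [_root_.commutator_def, h.comm_top]
    exact h.le_succ 1
  | 2 => exact h2
  | (j + 3) =>
    have hj : ∀ j, (W (j + 2)).Normal := by
      intro j
      induction j with
      | zero => exact h2
      | succ j ih =>
        have h3 := h.comm (j + 2) (by omega)
        have : (W (j + 1 + 2)) = ⁅W (j + 2), (⊤ : Subgroup P)⁆ := by rw [h3]
        rw [this]
        exact Subgroup.commutator_normal _ _
    exact hj (j + 1)

theorem comm_le (h : MC P p n W) (i : ℕ) : ⁅W i, (⊤ : Subgroup P)⁆ ≤ W (i + 1) := by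
  match i with
  | 0 => rw [h.zero, h.comm_top]; exact h.le_succ 1
  | 1 =>
    calc ⁅W 1, (⊤ : Subgroup P)⁆ ≤ ⁅(⊤ : Subgroup P), (⊤ : Subgroup P)⁆ := commutator_mono le_top le_rfl
      _ = W 2 := h.comm_top
  | (j + 2) => exact (h.comm (j + 2) (by omega)).le

theorem comm_mem (h : MC P p n W) {i : ℕ} {a x : P} (ha : a ∈ W i) : ⁅a, x⁆ ∈ W (i + 1) :=
  h.comm_le i (commutator_mem_commutator ha (mem_top x))

theorem comm_mem' (h : MC P p n W) {i : ℕ} {a x : P} (ha : a ∈ W i) : ⁅x, a⁆ ∈ W (i + 1) := by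
  rw [← commutatorElement_inv]
  exact inv_mem (h.comm_mem ha)

theorem conj_mem (h : MC P p n W) {i : ℕ} {a : P} (ha : a ∈ W i) (x : P) : x * a * x⁻¹ ∈ W i :=
  (h.normal i).conj_mem a ha x

/-- generation of `W i` by one element modulo `W (i + 1)` -/
theorem exists_zpow (h : MC P p n W) [hp : Fact p.Prime] {i : ℕ} (hi : i < n) {a : P}
    (ha : a ∈ W i) (ha' : a ∉ W (i + 1)) {b : P} (hb : b ∈ W i) :
    ∃ k : ℤ, (a ^ k)⁻¹ * b ∈ W (i + 1) := by
  have hn := h.normal (i + 1)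
  have h1 : ((W (i + 1)).subgroupOf (W i)).index = p := h.relIndex i hi
  have hcard : Nat.card (W i ⧸ (W (i + 1)).subgroupOf (W i)) = p := h1
  have : Fact (Nat.card (W i ⧸ (W (i + 1)).subgroupOf (W i))).Prime := by rw [hcard]; exact hp
  set q : W i →* W i ⧸ (W (i + 1)).subgroupOf (W i) := QuotientGroup.mk' _
  have hqa : q ⟨a, ha⟩ ≠ 1 := by
    intro hh
    rw [QuotientGroup.mk'_apply, QuotientGroup.eq_one_iff, mem_subgroupOf] at hh
    exact ha' hh
  have hfin : Finite (W i ⧸ (W (i + 1)).subgroupOf (W i)) :=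
    Nat.finite_of_card_ne_zero (by rw [hcard]; exact hp.out.ne_zero)
  have h2 : q ⟨b, hb⟩ ∈ Subgroup.zpowers (q ⟨a, ha⟩) :=
    mem_zpowers_of_prime_card (p := p) hcard hqa
  obtain ⟨k, hk⟩ := Subgroup.mem_zpowers_iff.mp h2
  refine ⟨k, ?_⟩
  have h3 : q (((⟨a, ha⟩ : W i) ^ k)⁻¹ * ⟨b, hb⟩) = 1 := by
    rw [map_mul, map_inv, map_zpow, hk, inv_mul_cancel]
  rw [QuotientGroup.mk'_apply, QuotientGroup.eq_one_iff, mem_subgroupOf] at h3
  simpa using h3

theorem ne_succ (h : MC P p n W) [hp : Fact p.Prime] {i : ℕ} (hi : i < n) :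
    ∃ a ∈ W i, a ∉ W (i + 1) := by
  by_contra hcon
  push Not at hcon
  have h1 : W i ≤ W (i + 1) := hcon
  have h2 := h.relIndex i hi
  rw [Subgroup.relIndex_eq_one.mpr h1] at h2
  exact hp.out.one_lt.ne h2

/-- the elements centralizing `W i / W (i + 2)` -/
def K (W : ℕ → Subgroup P) (i : ℕ) : Set P := {x | ∀ w ∈ W i, ⁅w, x⁆ ∈ W (i + 2)}

/-- One element of `W i - W (i + 1)` suffices. -/
theorem mem_K_iff (h : MC P p n W) [hp : Fact p.Prime] {i : ℕ} (hi : i < n) {a : P}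
    (ha : a ∈ W i) (ha' : a ∉ W (i + 1)) (x : P) : x ∈ K W i ↔ ⁅a, x⁆ ∈ W (i + 2) := by
  have hn := h.normal (i + 2)
  constructor
  · intro hx; exact hx a ha
  · intro hax w hw
    obtain ⟨k, hk⟩ := h.exists_zpow hi ha ha' hw
    have h1 : w = a ^ k * ((a ^ k)⁻¹ * w) := by group
    set y := (a ^ k)⁻¹ * w
    -- the elements `u` with `⁅u, x⁆ ∈ W (i + 2)`, among `W i`
    have hmul : ∀ u v : P, ⁅u, x⁆ ∈ W (i + 2) → ⁅v, x⁆ ∈ W (i + 2) → ⁅u * v, x⁆ ∈ W (i + 2) := by
      intro u v hu hv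
      have e : ⁅u * v, x⁆ = (u * ⁅v, x⁆ * u⁻¹) * ⁅u, x⁆ := by
        simp only [commutatorElement_def]; group
      rw [e]
      exact mul_mem (hn.conj_mem _ hv u) hu
    have hinv : ∀ u : P, ⁅u, x⁆ ∈ W (i + 2) → ⁅u⁻¹, x⁆ ∈ W (i + 2) := by
      intro u hu
      have e : ⁅u⁻¹, x⁆ = u⁻¹ * ⁅u, x⁆⁻¹ * u⁻¹⁻¹ := by
        simp only [commutatorElement_def]; group
      rw [e]
      exact hn.conj_mem _ (inv_mem hu) _
    have hnat : ∀ m : ℕ, ⁅a ^ m, x⁆ ∈ W (i + 2) := by
      intro m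
      induction m with
      | zero => simp
      | succ m ih => rw [pow_succ]; exact hmul _ _ ih hax
    have hz : ⁅a ^ k, x⁆ ∈ W (i + 2) := by
      obtain ⟨m, rfl | rfl⟩ := k.eq_nat_or_neg
      · rw [zpow_natCast]; exact hnat m
      · rw [zpow_neg, zpow_natCast]; exact hinv _ (hnat m)
    rw [h1]
    exact hmul _ _ hz (h.comm_mem hk)

/-- `K i` as a subgroup -/
def Ksub (h : MC P p n W) (i : ℕ) : Subgroup P where
  carrier := K W i
  one_mem' := by intro w _; simp
  mul_mem' := by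
    intro x y hx hy w hw
    have e : ⁅w, x * y⁆ = ⁅w, x⁆ * (x * ⁅w, y⁆ * x⁻¹) := by
      simp only [commutatorElement_def]; group
    rw [e]
    exact mul_mem (hx w hw) ((h.normal (i + 2)).conj_mem _ (hy w hw) x)
  inv_mem' := by
    intro x hx w hw
    have e : ⁅w, x⁻¹⁆ = x⁻¹ * ⁅w, x⁆⁻¹ * x⁻¹⁻¹ := by
      simp only [commutatorElement_def]; group
    rw [e]
    exact (h.normal (i + 2)).conj_mem _ (inv_mem (hx w hw)) _

theorem mem_Ksub (h : MC P p n W) {i : ℕ} {x : P} : x ∈ h.Ksub i ↔ ∀ w ∈ W i, ⁅w, x⁆ ∈ W (i + 2) :=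
  Iff.rfl

theorem Ksub_ne_top (h : MC P p n W) [hp : Fact p.Prime] {i : ℕ} (h2 : 2 ≤ i) (hi : i + 1 < n) :
    h.Ksub i ≠ ⊤ := by
  intro htop
  obtain ⟨a, ha, ha'⟩ := h.ne_succ hi
  apply ha'
  have h1 : W (i + 1) ≤ W (i + 2) := by
    rw [← h.comm i h2, commutator_le]
    intro w hw x _
    have : x ∈ h.Ksub i := by rw [htop]; trivial
    exact this w hw
  exact h1 ha

/-- `[W 1, P] = W 2` -/
theorem comm_one (h : MC P p n W) [hp : Fact p.Prime] : ⁅W 1, (⊤ : Subgroup P)⁆ = W 2 := by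
  apply le_antisymm (h.comm_le 1)
  have hn1 := h.normal 1
  have hNn : (⁅W 1, (⊤ : Subgroup P)⁆).Normal := Subgroup.commutator_normal _ _
  obtain ⟨s, -, hs⟩ := h.ne_succ (i := 0) (by have := h.four_le; omega)
  rw [zero_add] at hs
  -- every element is `s ^ k * w`
  have hgen : ∀ x : P, ∃ k : ℤ, ∃ w ∈ W 1, x = s ^ k * w := by
    intro x
    obtain ⟨k, hk⟩ := h.exists_zpow (i := 0) (by have := h.four_le; omega) (a := s)
      (by rw [h.zero]; trivial) (by rw [zero_add]; exact hs) (b := x) (by rw [h.zero]; trivial)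
    exact ⟨k, _, hk, by group⟩
  rw [← h.comm_top, commutator_le]
  intro x _ y _
  -- in the quotient
  rw [← QuotientGroup.eq_one_iff (N := ⁅W 1, (⊤ : Subgroup P)⁆)]
  set q : P →* P ⧸ ⁅W 1, (⊤ : Subgroup P)⁆ := QuotientGroup.mk' _ with hq
  change q ⁅x, y⁆ = 1
  have hc : ∀ w ∈ W 1, ∀ z : P, Commute (q w) (q z) := by
    intro w hw z
    rw [← commutatorElement_eq_one_iff_commute, ← map_commutatorElement, hq,
      QuotientGroup.mk'_apply, QuotientGroup.eq_one_iff]
    exact commutator_mem_commutator hw (mem_top z)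
  obtain ⟨k, w, hw, rfl⟩ := hgen x
  obtain ⟨l, v, hv, rfl⟩ := hgen y
  rw [map_commutatorElement, commutatorElement_eq_one_iff_commute]
  rw [map_mul, map_mul, map_zpow, map_zpow]
  have c1 : Commute (q w) (q s ^ l * q v) := by
    have := hc w hw (s ^ l * v)
    rwa [map_mul, map_zpow] at this
  have c2 : Commute (q v) (q s ^ k) := by
    have := hc v hv (s ^ k)
    rwa [map_zpow] at this
  have c3 : Commute (q s ^ k) (q s ^ l) := (Commute.refl (q s)).zpow_zpow k l
  exact Commute.mul_left (Commute.mul_right c3 c2.symm) c1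

theorem comm_eq (h : MC P p n W) [hp : Fact p.Prime] {i : ℕ} (hi : 1 ≤ i) :
    ⁅W i, (⊤ : Subgroup P)⁆ = W (i + 1) := by
  rcases Nat.lt_or_ge i 2 with h1 | h1
  · have : i = 1 := by omega
    subst this
    exact h.comm_one
  · exact h.comm i h1

/-- `[W i, W j] ≤ W (i + j)` -/
theorem comm_comm (h : MC P p n W) [hp : Fact p.Prime] (j : ℕ) : ∀ i : ℕ, ⁅W i, W j⁆ ≤ W (i + j) := by
  induction j with
  | zero =>
    intro i
    rw [h.zero]
    exact (h.comm_le i).trans (h.le_succ i)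
  | succ j ih =>
    intro i
    rcases Nat.eq_zero_or_pos j with rfl | hj
    · calc ⁅W i, W (0 + 1)⁆ ≤ ⁅W i, (⊤ : Subgroup P)⁆ := commutator_mono le_rfl le_top
        _ ≤ W (i + 1) := h.comm_le i
    · rw [← h.comm_eq hj, commutator_comm]
      have hn := h.normal (i + (j + 1))
      apply three_le hn
      · calc ⁅⁅(⊤ : Subgroup P), W i⁆, W j⁆ ≤ ⁅W (i + 1), W j⁆ := by
              apply commutator_mono _ le_rfl
              rw [commutator_comm]
              exact h.comm_le i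
          _ ≤ W (i + 1 + j) := ih (i + 1)
          _ = W (i + (j + 1)) := by congr 1; omega
      · calc ⁅⁅W i, W j⁆, (⊤ : Subgroup P)⁆ ≤ ⁅W (i + j), (⊤ : Subgroup P)⁆ :=
              commutator_mono (ih i) le_rfl
          _ ≤ W (i + j + 1) := h.comm_le _
          _ = W (i + (j + 1)) := by congr 1

theorem comm_comm_mem (h : MC P p n W) [hp : Fact p.Prime] {i j : ℕ} {a b : P} (ha : a ∈ W i)
    (hb : b ∈ W j) : ⁅a, b⁆ ∈ W (i + j) :=
  h.comm_comm j i (commutator_mem_commutator ha hb)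

/-- `[W i, W i] ≤ W (2 i + 1)` since `W i / W (i + 1)` is cyclic. -/
theorem comm_self (h : MC P p n W) [hp : Fact p.Prime] {i : ℕ} {a b : P} (ha : a ∈ W i)
    (hb : b ∈ W i) : ⁅a, b⁆ ∈ W (2 * i + 1) := by
  rcases Nat.lt_or_ge i n with hi | hi
  · obtain ⟨c, hc, hc'⟩ := h.ne_succ hi
    obtain ⟨k, hk⟩ := h.exists_zpow hi hc hc' ha
    obtain ⟨l, hl⟩ := h.exists_zpow hi hc hc' hb
    have hn := h.normal (2 * i + 1)
    have h1 : a = c ^ k * ((c ^ k)⁻¹ * a) := by group
    have h2 : b = c ^ l * ((c ^ l)⁻¹ * b) := by group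
    set y := (c ^ k)⁻¹ * a
    set z := (c ^ l)⁻¹ * b
    have hck : c ^ k ∈ W i := zpow_mem hc k
    have hcl : c ^ l ∈ W i := zpow_mem hc l
    have e1 : ⁅c ^ k, c ^ l⁆ = 1 := by
      rw [commutatorElement_eq_one_iff_commute]
      exact (Commute.refl c).zpow_zpow k l
    have e2 : ⁅c ^ k, z⁆ ∈ W (2 * i + 1) := by
      have := h.comm_comm_mem hck hl
      rwa [show i + (i + 1) = 2 * i + 1 by ring] at this
    have e3 : ⁅y, b⁆ ∈ W (2 * i + 1) := by
      have := h.comm_comm_mem hk hb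
      rwa [show i + 1 + i = 2 * i + 1 by ring] at this
    have e4 : ⁅c ^ k, b⁆ ∈ W (2 * i + 1) := by
      rw [h2]
      have e : ⁅c ^ k, c ^ l * z⁆ = ⁅c ^ k, c ^ l⁆ * (c ^ l * ⁅c ^ k, z⁆ * (c ^ l)⁻¹) := by
        simp only [commutatorElement_def]; group
      rw [e, e1, one_mul]
      exact hn.conj_mem _ e2 _
    rw [h1]
    have e : ⁅c ^ k * y, b⁆ = (c ^ k * ⁅y, b⁆ * (c ^ k)⁻¹) * ⁅c ^ k, b⁆ := by
      simp only [commutatorElement_def]; group
    rw [e]
    exact mul_mem (hn.conj_mem _ e3 _) e4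
  · rw [h.bot_of_le hi, mem_bot] at ha
    rw [ha, commutatorElement_one_left]
    exact one_mem _

theorem Ksub_ne_top' (h : MC P p n W) [hp : Fact p.Prime] {i : ℕ} (h1 : 1 ≤ i) (hi : i + 1 < n) :
    h.Ksub i ≠ ⊤ := by
  intro htop
  obtain ⟨a, ha, ha'⟩ := h.ne_succ hi
  apply ha'
  have h1 : W (i + 1) ≤ W (i + 2) := by
    rw [← h.comm_eq h1, commutator_le]
    intro w hw x _
    have : x ∈ h.Ksub i := by rw [htop]; trivial
    exact this w hw
  exact h1 ha

theorem W2_le_Ksub (h : MC P p n W) [hp : Fact p.Prime] (i : ℕ) : W 2 ≤ h.Ksub i := by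
  intro x hx w hw
  exact h.comm_comm_mem hw hx

theorem W1_index (h : MC P p n W) : (W 1).index = p := by
  have := h.relIndex 0 (by have := h.four_le; omega)
  rwa [zero_add, h.zero, Subgroup.relIndex_top_right] at this

/-- proper subgroups containing `W 1` equal `W 1` -/
theorem eq_W1 (h : MC P p n W) [hp : Fact p.Prime] {H : Subgroup P} (h1 : W 1 ≤ H) (h2 : H ≠ ⊤) :
    H = W 1 := by
  have h3 := Subgroup.relIndex_mul_index h1
  rw [h.W1_index] at h3
  have h4 : H.index ∣ p := ⟨_, by rw [← h3, mul_comm]⟩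
  rcases (Nat.dvd_prime hp.out).mp h4 with h5 | h5
  · exact absurd (Subgroup.index_eq_one.mp h5) h2
  · rw [h5] at h3
    have h6 : (W 1).relIndex H = 1 := Nat.eq_of_mul_eq_mul_right hp.out.pos (by rw [h3, one_mul])
    exact le_antisymm (Subgroup.relIndex_eq_one.mp h6) h1

/-- Passing to the quotient by `W m`. -/
theorem quot (h : MC P p n W) {m : ℕ} (h4 : 4 ≤ m) (hm : m ≤ n) :
    haveI := h.normal m
    MC (P ⧸ W m) p m (fun i => (W i).map (QuotientGroup.mk' (W m))) := by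
  have := h.normal m
  have htop : (⊤ : Subgroup P).map (QuotientGroup.mk' (W m)) = ⊤ :=
    Subgroup.map_top_of_surjective _ (QuotientGroup.mk'_surjective _)
  refine ⟨h4, ?_, ?_, ?_, ?_, ?_, ?_, ?_⟩
  · show (W 0).map _ = ⊤
    rw [h.zero, htop]
  · show _ = (W 2).map _
    rw [← h.comm_top, map_commutator, htop]
  · intro i hi
    show ⁅(W i).map _, (⊤ : Subgroup (P ⧸ W m))⁆ = (W (i + 1)).map _
    rw [← h.comm i hi, map_commutator, htop]
  · show (W m).map _ = ⊥
    rw [Subgroup.map_eq_bot_iff, QuotientGroup.ker_mk']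
  · intro i
    exact Subgroup.map_mono (h.le_succ i)
  · intro i hi
    show ((W (i + 1)).map (QuotientGroup.mk' (W m))).relIndex ((W i).map _) = p
    rw [Subgroup.relIndex_map_map, QuotientGroup.ker_mk',
      sup_eq_left.mpr (h.antitone (by omega : i + 1 ≤ m)),
      sup_eq_left.mpr (h.antitone (by omega : i ≤ m))]
    exact h.relIndex i (by omega)
  · show ⁅(W 2).map _, (W 1).map _⁆ ≤ (W 4).map _
    rw [← map_commutator]
    exact Subgroup.map_mono h.two

end MC

end Cfsg.Agent.H467.MaxClass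
end

-- part: H467/PowFilt
section
/-!
# Powers and an automorphism of order `p` on a filtered abelian group (helper467)

`τ` raises the filtration by one, `(τ + 1) ^ p = 1`, `ker τ ≤ F c` and `p F c = 0`.  Then
`p • v = - τ ^ (p - 1) v` modulo terms one step deeper.
-/

set_option autoImplicit false

namespace Cfsg.Agent.H467.PowFilt

variable {V : Type*} [AddCommGroup V] {p : ℕ}

theorem pow_mem {τ : AddMonoid.End V} {F : ℕ → AddSubgroup V}
    (hτ : ∀ j, ∀ v ∈ F j, τ v ∈ F (j + 1)) (l : ℕ) :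
    ∀ j, ∀ v ∈ F j, (τ ^ l) v ∈ F (j + l) := by
  induction l with
  | zero => intro j v hv; simpa using hv
  | succ l ih =>
    intro j v hv
    rw [pow_succ']
    have := hτ _ _ (ih j v hv)
    exact this

theorem key (hp : p.Prime) {τ : AddMonoid.End V} (h1 : (τ + 1) ^ p = 1) (v : V) :
    ∃ w, τ w = 0 ∧ p • v = w - (τ ^ (p - 1)) v -
      ∑ l ∈ Finset.Ico 1 (p - 1), (p.choose (l + 1)) • (τ ^ l) v := by
  have hN : (τ + 1) ^ p = τ * (∑ l ∈ Finset.range p, (p.choose (l + 1)) • τ ^ l) + 1 := by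
    rw [(Commute.one_right τ).add_pow, Finset.sum_range_succ']
    simp only [one_pow, mul_one, pow_zero, Nat.choose_zero_right, Nat.cast_one]
    rw [Finset.mul_sum]
    congr 1
    apply Finset.sum_congr rfl
    intro l _
    rw [pow_succ', nsmul_eq_mul, mul_assoc, (Nat.cast_commute (p.choose (l + 1)) (τ ^ l)).eq]
  rw [hN] at h1
  have h2 : τ * (∑ l ∈ Finset.range p, (p.choose (l + 1)) • τ ^ l) = 0 := by
    have := add_right_cancel (b := (1 : AddMonoid.End V))
      (a := τ * (∑ l ∈ Finset.range p, (p.choose (l + 1)) • τ ^ l)) (c := 0) (by rw [h1, zero_add])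
    exact this
  refine ⟨(∑ l ∈ Finset.range p, (p.choose (l + 1)) • τ ^ l : AddMonoid.End V) v, ?_, ?_⟩
  · have := DFunLike.congr_fun h2 v
    exact this
  · have h3 : (∑ l ∈ Finset.range p, (p.choose (l + 1)) • τ ^ l : AddMonoid.End V) v =
        ∑ l ∈ Finset.range p, (p.choose (l + 1)) • (τ ^ l) v := by
      have h5 : ∀ s : Finset ℕ, (∑ l ∈ s, (p.choose (l + 1)) • τ ^ l : AddMonoid.End V) v =
          ∑ l ∈ s, (p.choose (l + 1)) • (τ ^ l) v := by
        intro s
        induction s using Finset.induction_on with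
        | empty => rfl
        | insert a s ha ih =>
          rw [Finset.sum_insert ha, Finset.sum_insert ha, ← ih]
          rfl
      exact h5 _
    rw [h3]
    obtain ⟨q, hq⟩ : ∃ q, p = q + 2 := ⟨p - 2, by have := hp.two_le; omega⟩
    have h4 : ∑ l ∈ Finset.range p, (p.choose (l + 1)) • (τ ^ l) v =
        p • v + (∑ l ∈ Finset.Ico 1 (p - 1), (p.choose (l + 1)) • (τ ^ l) v + (τ ^ (p - 1)) v) := by
      rw [Finset.range_eq_Ico, ← Finset.sum_Ico_consecutive _ (Nat.zero_le 1) (by omega : 1 ≤ p),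
        ← Finset.sum_Ico_consecutive _ (by omega : 1 ≤ p - 1) (by omega : p - 1 ≤ p)]
      congr 1
      · simp
      · congr 1
        have : p = (p - 1) + 1 := by omega
        rw [show Finset.Ico (p - 1) p = {p - 1} by
          rw [show Finset.Ico (p - 1) p = Finset.Ico (p - 1) (p - 1 + 1) by rw [← this]]
          exact Nat.Ico_succ_singleton _]
        rw [Finset.sum_singleton, ← this, Nat.choose_self, one_smul]
    rw [h4]
    abel

/-- the main statement -/
theorem main (hp : p.Prime) {τ : AddMonoid.End V} {F : ℕ → AddSubgroup V} (hF : Antitone F)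
    (hτ : ∀ j, ∀ v ∈ F j, τ v ∈ F (j + 1)) (h1 : (τ + 1) ^ p = 1) (c : ℕ)
    (hker : ∀ v, τ v = 0 → v ∈ F c) (hc : ∀ v ∈ F c, p • v = 0) (d : ℕ) :
    ∀ j, c ≤ j + d → ∀ v ∈ F j, p • v ∈ F (min (j + (p - 1)) c) ∧
      ∃ r ∈ F (min (j + p) c), p • v = -((τ ^ (p - 1)) v) + r := by
  induction d with
  | zero =>
    intro j hj v hv
    have hv' : v ∈ F c := hF (by omega) hv
    have h0 : p • v = 0 := hc v hv'
    refine ⟨by rw [h0]; exact zero_mem _, (τ ^ (p - 1)) v, ?_, by rw [h0]; abel⟩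
    have := pow_mem hτ (p - 1) j v hv
    exact hF (by omega) this
  | succ d ih =>
    intro j hj v hv
    obtain ⟨w, hw, he⟩ := key hp h1 v
    have hsum : ∑ l ∈ Finset.Ico 1 (p - 1), (p.choose (l + 1)) • (τ ^ l) v ∈ F (min (j + p) c) := by
      apply sum_mem
      intro l hl
      rw [Finset.mem_Ico] at hl
      obtain ⟨m, hm⟩ := hp.dvd_choose_self (by omega : l + 1 ≠ 0) (by omega : l + 1 < p)
      rw [hm, mul_comm, mul_smul]
      apply nsmul_mem
      have h2 := pow_mem hτ l j v hv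
      have h3 := (ih (j + l) (by omega) _ h2).1
      exact hF (by omega) h3
    have hw' : w ∈ F c := hker w hw
    have h5 : w - ∑ l ∈ Finset.Ico 1 (p - 1), (p.choose (l + 1)) • (τ ^ l) v ∈
        F (min (j + p) c) := sub_mem (hF (min_le_right _ _) hw') hsum
    have h6 : p • v = -((τ ^ (p - 1)) v) +
        (w - ∑ l ∈ Finset.Ico 1 (p - 1), (p.choose (l + 1)) • (τ ^ l) v) := by
      rw [he]; abel
    refine ⟨?_, _, h5, h6⟩
    rw [h6]
    refine add_mem (neg_mem ?_) ?_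
    · exact hF (min_le_left _ _) (pow_mem hτ (p - 1) j v hv)
    · exact hF (by omega) h5

end Cfsg.Agent.H467.PowFilt
end

-- part: H467/MaxClassStep
section
/-!
# p-groups of maximal class: the key step of Blackburn's theorem (helper467)

`MC.step`: `p` odd, order `p ^ (k + 3)`; if `[W j, W 1] ≤ W (j + 2)` for `2 ≤ j < k` then
`[W k, W 1] ≤ W (k + 2)`.
-/

set_option autoImplicit false

namespace Cfsg.Agent.H467.MaxClass

open Subgroup
open scoped commutatorElement

universe u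

variable {P : Type u} [Group P]

/-- The derivation identity. -/
theorem deriv_one {u v s : P} (c1 : Commute ⁅u, s⁆ ⁅v, s⁆) (c2 : ∀ x, Commute ⁅u, ⁅v, s⁆⁆ x)
    (c3 : ∀ x, Commute ⁅⁅u, s⁆, v⁆ x) (c4 : Commute ⁅u, v⁆ ⁅u, s⁆) (c5 : Commute ⁅u, v⁆ ⁅v, s⁆) :
    ⁅⁅u, v⁆, s⁆ = ⁅⁅u, s⁆, v⁆ * ⁅u, ⁅v, s⁆⁆ := by
  have hsu : s * u * s⁻¹ = ⁅u, s⁆⁻¹ * u := by simp only [commutatorElement_def]; group
  have hsv : s * v * s⁻¹ = ⁅v, s⁆⁻¹ * v := by simp only [commutatorElement_def]; group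
  have hw : s * ⁅u, v⁆ * s⁻¹ = ⁅⁅u, s⁆⁻¹ * u, ⁅v, s⁆⁻¹ * v⁆ := by
    rw [conjugate_commutatorElement, hsu, hsv]
  have hres : ⁅⁅u, v⁆, s⁆ = ⁅u, v⁆ * (s * ⁅u, v⁆ * s⁻¹)⁻¹ := by
    rw [commutatorElement_def ⁅u, v⁆ s]; group
  rw [hres, hw]
  generalize ha : ⁅u, s⁆ = a at *
  generalize hb : ⁅v, s⁆ = b at *
  have hF : ∀ x, ⁅u, b⁆⁻¹ * x = x * ⁅u, b⁆⁻¹ := fun x => (c2 x).inv_left.eq
  have hG : ∀ x, ⁅a, v⁆⁻¹ * x = x * ⁅a, v⁆⁻¹ := fun x => (c3 x).inv_left.eq
  have h1 : u * b⁻¹ = ⁅u, b⁆⁻¹ * (b⁻¹ * u) := by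
    rw [← mul_assoc, hF b⁻¹, commutatorElement_def]; group
  have h2 : a * v⁻¹ = ⁅a, v⁆⁻¹ * (v⁻¹ * a) := by
    rw [← mul_assoc, hG v⁻¹, commutatorElement_def]; group
  have h3 : a⁻¹ * b⁻¹ * ⁅u, v⁆ * a * b = ⁅u, v⁆ := by
    have e1 : a⁻¹ * b⁻¹ * ⁅u, v⁆ * a * b = a⁻¹ * (b⁻¹ * (⁅u, v⁆ * a)) * b := by group
    rw [e1, c4.eq]
    have e2 : a⁻¹ * (b⁻¹ * (a * ⁅u, v⁆)) * b = a⁻¹ * b⁻¹ * a * (⁅u, v⁆ * b) := by group
    rw [e2, c5.eq]
    have e3 : a⁻¹ * b⁻¹ * a * (b * ⁅u, v⁆) = a⁻¹ * (b⁻¹ * (a * b)) * ⁅u, v⁆ := by group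
    rw [e3, c1.eq]; group
  have h4 : ⁅a⁻¹ * u, b⁻¹ * v⁆ = ⁅u, b⁆⁻¹ * ⁅a, v⁆⁻¹ * ⁅u, v⁆ := by
    calc ⁅a⁻¹ * u, b⁻¹ * v⁆ = a⁻¹ * (u * b⁻¹) * v * u⁻¹ * (a * v⁻¹) * b := by
          rw [commutatorElement_def]; group
      _ = a⁻¹ * (⁅u, b⁆⁻¹ * (b⁻¹ * u)) * v * u⁻¹ * (⁅a, v⁆⁻¹ * (v⁻¹ * a)) * b := by rw [h1, h2]
      _ = (a⁻¹ * ⁅u, b⁆⁻¹) * ((b⁻¹ * u * v * u⁻¹) * ⁅a, v⁆⁻¹) * (v⁻¹ * a * b) := by group
      _ = (⁅u, b⁆⁻¹ * a⁻¹) * (⁅a, v⁆⁻¹ * (b⁻¹ * u * v * u⁻¹)) * (v⁻¹ * a * b) := by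
          rw [← hF a⁻¹, ← hG (b⁻¹ * u * v * u⁻¹)]
      _ = ⁅u, b⁆⁻¹ * (a⁻¹ * ⁅a, v⁆⁻¹) * (b⁻¹ * (u * v * u⁻¹ * v⁻¹) * a * b) := by group
      _ = ⁅u, b⁆⁻¹ * (⁅a, v⁆⁻¹ * a⁻¹) * (b⁻¹ * ⁅u, v⁆ * a * b) := by
          rw [← hG a⁻¹, ← commutatorElement_def u v]
      _ = ⁅u, b⁆⁻¹ * ⁅a, v⁆⁻¹ * (a⁻¹ * b⁻¹ * ⁅u, v⁆ * a * b) := by group
      _ = _ := by rw [h3]
  rw [h4]
  have h5 : (⁅u, b⁆⁻¹ * ⁅a, v⁆⁻¹ * ⁅u, v⁆)⁻¹ = ⁅u, v⁆⁻¹ * (⁅a, v⁆ * ⁅u, b⁆) := by group
  rw [h5, mul_inv_cancel_left]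

namespace MC

variable {p n : ℕ} {W : ℕ → Subgroup P}

theorem deriv (h : MC P p n W) [hp : Fact p.Prime] {i j : ℕ} (hi : 1 ≤ i) (hj : 1 ≤ j) {u v : P}
    (hu : u ∈ W i) (hv : v ∈ W j) (s : P) :
    (⁅⁅u, v⁆, s⁆)⁻¹ * (⁅⁅u, s⁆, v⁆ * ⁅u, ⁅v, s⁆⁆) ∈ W (i + j + 2) := by
  have hn := h.normal (i + j + 2)
  set q : P →* P ⧸ W (i + j + 2) := QuotientGroup.mk' _ with hq
  have hcm : ∀ a b : P, ⁅a, b⁆ ∈ W (i + j + 2) → Commute (q a) (q b) := by
    intro a b hab
    rw [← commutatorElement_eq_one_iff_commute, ← map_commutatorElement, hq,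
      QuotientGroup.mk'_apply, QuotientGroup.eq_one_iff]
    exact hab
  have hcx : ∀ a : P, (∀ y, ⁅a, y⁆ ∈ W (i + j + 2)) → ∀ x, Commute (q a) x := by
    intro a ha x
    obtain ⟨y, rfl⟩ := QuotientGroup.mk'_surjective _ x
    exact hcm a y (ha y)
  have h1 : q ⁅⁅u, v⁆, s⁆ = q (⁅⁅u, s⁆, v⁆ * ⁅u, ⁅v, s⁆⁆) := by
    rw [map_mul]
    simp only [map_commutatorElement]
    apply deriv_one
    · rw [← map_commutatorElement, ← map_commutatorElement]
      apply hcm
      have := h.comm_comm_mem (h.comm_mem (x := s) hu) (h.comm_mem (x := s) hv)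
      rwa [show i + 1 + (j + 1) = i + j + 2 by ring] at this
    · intro x
      rw [← map_commutatorElement, ← map_commutatorElement]
      apply hcx
      intro y
      have := h.comm_mem (x := y) (h.comm_comm_mem hu (h.comm_mem (x := s) hv))
      rwa [show i + (j + 1) + 1 = i + j + 2 by ring] at this
    · intro x
      rw [← map_commutatorElement, ← map_commutatorElement]
      apply hcx
      intro y
      have := h.comm_mem (x := y) (h.comm_comm_mem (h.comm_mem (x := s) hu) hv)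
      rwa [show i + 1 + j + 1 = i + j + 2 by ring] at this
    · rw [← map_commutatorElement, ← map_commutatorElement]
      apply hcm
      have := h.comm_comm_mem (h.comm_comm_mem hu hv) (h.comm_mem (x := s) hu)
      exact h.antitone (by omega) this
    · rw [← map_commutatorElement, ← map_commutatorElement]
      apply hcm
      have := h.comm_comm_mem (h.comm_comm_mem hu hv) (h.comm_mem (x := s) hv)
      exact h.antitone (by omega) this
  rw [hq, QuotientGroup.mk'_apply, QuotientGroup.mk'_apply, QuotientGroup.eq] at h1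
  exact h1

/-- Positive degree of commutativity up to degree `k`. -/
theorem deg (h : MC P p n W) [hp : Fact p.Prime] {k : ℕ}
    (hpos : ∀ j, 2 ≤ j → j < k → ⁅W j, W 1⁆ ≤ W (j + 2)) (j : ℕ) :
    ∀ i, 1 ≤ i → 1 ≤ j → i + j ≤ k → ⁅W i, W j⁆ ≤ W (i + j + 1) := by
  induction j with
  | zero => intro i _ h0; omega
  | succ j ih =>
    intro i hi _ hij
    rcases Nat.eq_zero_or_pos j with rfl | hj
    · rcases Nat.lt_or_ge i 2 with h1 | h1
      · have : i = 1 := by omega
        subst this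
        rw [commutator_le]
        intro a ha b hb
        exact h.comm_self ha hb
      · exact hpos i h1 (by omega)
    · rw [← h.comm_eq hj, commutator_comm]
      have hn := h.normal (i + (j + 1) + 1)
      apply three_le hn
      · calc ⁅⁅(⊤ : Subgroup P), W i⁆, W j⁆ ≤ ⁅W (i + 1), W j⁆ := by
              apply commutator_mono _ le_rfl
              rw [commutator_comm]
              exact h.comm_le i
          _ ≤ W (i + 1 + j + 1) := ih (i + 1) (by omega) hj (by omega)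
          _ = W (i + (j + 1) + 1) := by congr 1; omega
      · calc ⁅⁅W i, W j⁆, (⊤ : Subgroup P)⁆ ≤ ⁅W (i + j + 1), (⊤ : Subgroup P)⁆ :=
              commutator_mono (ih i hi hj (by omega)) le_rfl
          _ ≤ W (i + j + 1 + 1) := h.comm_le _
          _ = W (i + (j + 1) + 1) := by congr 1

end MC

/-- Three proper subgroups do not cover a finite `p`-group, `p ≥ 3`. -/
theorem exists_notMem_three [Finite P] {p m : ℕ} [hp : Fact p.Prime] (hp3 : 3 ≤ p)
    (hcard : Nat.card P = p ^ m) (A B C : Subgroup P) (hA : A ≠ ⊤) (hB : B ≠ ⊤) (hC : C ≠ ⊤) :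
    ∃ x, x ∉ A ∧ x ∉ B ∧ x ∉ C := by
  have hle : ∀ D : Subgroup P, D ≠ ⊤ → 1 ≤ Nat.card D ∧ 3 * Nat.card D ≤ Nat.card P := by
    intro D hD
    have h1 := D.card_mul_index
    have h2 : D.index ∣ p ^ m := by rw [← hcard]; exact D.index_dvd_card
    obtain ⟨j, -, hj⟩ := (Nat.dvd_prime_pow hp.out).mp h2
    have hj0 : j ≠ 0 := by
      rintro rfl
      rw [pow_zero, Subgroup.index_eq_one] at hj
      exact hD hj
    have h3 : p ≤ D.index := by
      rw [hj]
      calc p = p ^ 1 := (pow_one p).symm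
        _ ≤ p ^ j := Nat.pow_le_pow_right hp.out.pos (by omega)
    have h4 : 1 ≤ Nat.card D := Nat.card_pos
    refine ⟨h4, ?_⟩
    rw [← h1, mul_comm]
    exact Nat.mul_le_mul_left _ (hp3.trans h3)
  by_contra hcon
  push Not at hcon
  have hcov : ((({1} : Set P) ∪ ((A : Set P) \ {1})) ∪ ((B : Set P) \ {1})) ∪ ((C : Set P) \ {1})
      = Set.univ := by
    rw [Set.eq_univ_iff_forall]
    intro x
    by_cases hx : x = 1
    · left; left; left; exact hx
    · by_cases hxA : x ∈ A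
      · left; left; right; exact ⟨hxA, hx⟩
      · by_cases hxB : x ∈ B
        · left; right; exact ⟨hxB, hx⟩
        · right; exact ⟨hcon x hxA hxB, hx⟩
  have hcD : ∀ D : Subgroup P, ((D : Set P) \ {1}).ncard = Nat.card D - 1 := by
    intro D
    rw [Set.ncard_sdiff_singleton_of_mem D.one_mem]
    rfl
  have h1 := (Set.ncard_union_le ((({1} : Set P) ∪ ((A : Set P) \ {1})) ∪ ((B : Set P) \ {1}))
    ((C : Set P) \ {1}))
  have h2 := (Set.ncard_union_le (({1} : Set P) ∪ ((A : Set P) \ {1})) ((B : Set P) \ {1}))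
  have h3 := (Set.ncard_union_le ({1} : Set P) ((A : Set P) \ {1}))
  rw [hcov, Set.ncard_univ, hcD] at h1
  rw [hcD] at h2
  rw [hcD, Set.ncard_singleton] at h3
  have hA' := hle A hA
  have hB' := hle B hB
  have hC' := hle C hC
  omega

/-- iterated commutators -/
def t (s a : P) : ℕ → P
  | 0 => a
  | i + 1 => ⁅t s a i, s⁆

theorem t_succ (s a : P) (i : ℕ) : t s a (i + 1) = ⁅t s a i, s⁆ := rfl

namespace MC

variable {p k : ℕ} {W : ℕ → Subgroup P}

theorem card_eq {n : ℕ} (h : MC P p n W) (hi : ∀ i, i ≤ n → Nat.card (W (n - i)) = p ^ i) :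
    Nat.card P = p ^ n := by
  have := hi n le_rfl
  rw [Nat.sub_self, h.zero, Subgroup.card_top] at this
  exact this

theorem card_W {n : ℕ} (h : MC P p n W) (i : ℕ) (hi : i ≤ n) : Nat.card (W (n - i)) = p ^ i := by
  induction i with
  | zero => rw [Nat.sub_zero, h.bot, Subgroup.card_bot, pow_zero]
  | succ i ih =>
    have h1 := h.relIndex (n - (i + 1)) (by omega)
    have h2 : n - (i + 1) + 1 = n - i := by omega
    rw [h2] at h1
    have h3 := Subgroup.relIndex_mul_relIndex ⊥ (W (n - i)) (W (n - (i + 1))) bot_le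
      (h.antitone (by omega))
    rw [Subgroup.relIndex_bot_left, Subgroup.relIndex_bot_left, h1, ih (by omega)] at h3
    rw [← h3, pow_succ]

theorem card_group {n : ℕ} (h : MC P p n W) : Nat.card P = p ^ n :=
  h.card_eq h.card_W

/-- an element outside all two-step centralizers -/
theorem exists_s [Finite P] (h : MC P p (k + 3) W) [hp : Fact p.Prime] (hp3 : 3 ≤ p) (hk : 3 ≤ k)
    (hpos : ∀ j, 2 ≤ j → j < k → ⁅W j, W 1⁆ ≤ W (j + 2)) :
    ∃ s, s ∉ W 1 ∧ ∀ i, 1 ≤ i → i ≤ k + 1 → s ∉ h.Ksub i := by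
  have h1t : W 1 ≠ ⊤ := by
    intro htop
    have := h.W1_index
    rw [htop, Subgroup.index_top] at this
    exact hp.out.one_lt.ne this
  obtain ⟨s, h1, h2, h3⟩ := exists_notMem_three hp3 h.card_group (W 1) (h.Ksub k) (h.Ksub (k + 1))
    h1t (h.Ksub_ne_top' (by omega) (by omega)) (h.Ksub_ne_top' (by omega) (by omega))
  refine ⟨s, h1, ?_⟩
  intro i hi1 hi2
  rcases Nat.lt_or_ge i k with hik | hik
  · have : h.Ksub i = W 1 := by
      apply h.eq_W1
      · intro x hx w hw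
        rcases Nat.lt_or_ge i 2 with h4 | h4
        · have : i = 1 := by omega
          subst this
          exact h.comm_self hw hx
        · exact hpos i h4 hik (commutator_mem_commutator hw hx)
      · exact h.Ksub_ne_top' hi1 (by omega)
    rw [this]
    exact h1
  · rcases Nat.eq_or_lt_of_le hik with h5 | h5
    · subst h5; exact h2
    · have : i = k + 1 := by omega
      subst this; exact h3

theorem t_mem {n : ℕ} (h : MC P p n W) {s a : P} (ha : a ∈ W 1) (i : ℕ) : t s a i ∈ W (i + 1) := by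
  induction i with
  | zero => exact ha
  | succ i ih => exact h.comm_mem ih

theorem t_notMem (h : MC P p (k + 3) W) [hp : Fact p.Prime] {s a : P} (ha : a ∈ W 1)
    (ha' : a ∉ W 2) (hs : ∀ i, 1 ≤ i → i ≤ k + 1 → s ∉ h.Ksub i) (i : ℕ) (hi : i ≤ k + 1) :
    t s a i ∉ W (i + 2) := by
  induction i with
  | zero => exact ha'
  | succ i ih =>
    intro hmem
    have h1 := ih (by omega)
    have h2 := (h.mem_K_iff (i := i + 1) (by omega) (h.t_mem (s := s) ha i) h1 s).mpr hmem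
    exact hs (i + 1) (by omega) (by omega) h2

/-- The Lie ring computation: `k ≥ 2 p`. -/
theorem two_p_le [Finite P] (h : MC P p (k + 3) W) [hp : Fact p.Prime] (hk : 3 ≤ k)
    (hpos : ∀ j, 2 ≤ j → j < k → ⁅W j, W 1⁆ ≤ W (j + 2)) (hneg : ¬ ⁅W k, W 1⁆ ≤ W (k + 2))
    {s : P} (hs : ∀ i, 1 ≤ i → i ≤ k + 1 → s ∉ h.Ksub i) : 2 * p ≤ k := by
  have hdeg := h.deg hpos
  obtain ⟨a, ha, ha'⟩ := h.ne_succ (i := 1) (by omega)
  have ht := h.t_mem (s := s) ha
  have ht' := h.t_notMem ha ha' hs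
  have hZ : W (k + 3) = ⊥ := h.bot
  have hZc : ∀ z ∈ W (k + 2), ∀ x : P, Commute z x := by
    intro z hz x
    rw [← commutatorElement_eq_one_iff_commute, ← Subgroup.mem_bot, ← hZ]
    exact h.comm_mem hz
  -- the elements `w j`
  have hw1 : ∀ j, j + 1 ≤ k → ⁅t s a (k - 1 - j), t s a j⁆ ∈ W (k + 1) := by
    intro j hj
    have := h.comm_comm_mem (ht (k - 1 - j)) (ht j)
    rwa [show k - 1 - j + 1 + (j + 1) = k + 1 by omega] at this
  have hz1 : ∀ j, j ≤ k → ⁅t s a (k - j), t s a j⁆ ∈ W (k + 2) := by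
    intro j hj
    have := h.comm_comm_mem (ht (k - j)) (ht j)
    rwa [show k - j + 1 + (j + 1) = k + 2 by omega] at this
  -- R1
  have R1 : ∀ j, j + 2 ≤ k → ⁅t s a (k - 1 - j), t s a j⁆ *
      ⁅t s a (k - 1 - (j + 1)), t s a (j + 1)⁆ ∈ W (k + 2) := by
    intro j hj
    have h1 := h.deriv (i := k - 2 - j + 1) (j := j + 1) (by omega) (by omega)
      (ht (k - 2 - j)) (ht j) s
    rw [show k - 2 - j + 1 + (j + 1) + 2 = k + 2 by omega] at h1
    have h2 : ⁅⁅t s a (k - 2 - j), t s a j⁆, s⁆ ∈ W (k + 2) := by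
      have h3 : ⁅t s a (k - 2 - j), t s a j⁆ ∈ W (k + 1) := by
        have := hdeg (j + 1) (k - 2 - j + 1) (by omega) (by omega) (by omega)
          (commutator_mem_commutator (ht (k - 2 - j)) (ht j))
        rwa [show k - 2 - j + 1 + (j + 1) + 1 = k + 1 by omega] at this
      exact h.comm_mem h3
    have h4 := mul_mem h2 h1
    rw [mul_inv_cancel_left, ← t_succ, ← t_succ] at h4
    rwa [show k - 2 - j + 1 = k - 1 - j by omega, show k - 2 - j = k - 1 - (j + 1) by omega] at h4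
  -- R2
  have R2 : ∀ j, j + 1 ≤ k → ⁅⁅t s a (k - 1 - j), t s a j⁆, s⁆ =
      ⁅t s a (k - j), t s a j⁆ * ⁅t s a (k - (j + 1)), t s a (j + 1)⁆ := by
    intro j hj
    have h1 := h.deriv (i := k - 1 - j + 1) (j := j + 1) (by omega) (by omega)
      (ht (k - 1 - j)) (ht j) s
    rw [show k - 1 - j + 1 + (j + 1) + 2 = k + 3 by omega, hZ, mem_bot, inv_mul_eq_one] at h1
    rw [h1, ← t_succ, ← t_succ, show k - 1 - j + 1 = k - j by omega,
      show k - 1 - j = k - (j + 1) by omega]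
  -- `w 0 ∉ W (k + 2)`
  have hw0 : ⁅t s a (k - 1), t s a 0⁆ ∉ W (k + 2) := by
    intro hmem
    apply hneg
    have h1 : a ∈ h.Ksub k := by
      have hh := h.t_mem (s := s) ha (k - 1)
      have hh' := ht' (k - 1) (by omega)
      rw [show k - 1 + 1 = k by omega] at hh
      rw [show k - 1 + 2 = k + 1 by omega] at hh'
      exact (h.mem_K_iff (i := k) (by omega) hh hh' a).mpr hmem
    have h2 : W 1 ≤ h.Ksub k := by
      intro x hx
      obtain ⟨c, hc⟩ := h.exists_zpow (i := 1) (by omega) ha ha' hx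
      have h3 : x = a ^ c * ((a ^ c)⁻¹ * x) := by group
      rw [h3]
      exact mul_mem (zpow_mem h1 c) (h.W2_le_Ksub k hc)
    rw [commutator_le]
    intro w hw x hx
    exact h2 hx w hw
  -- `z 0 = 1`
  have hz0 : ⁅t s a k, t s a 0⁆ = 1 := by
    have hb : ⁅⁅W (k - 1), W 2⁆, W 1⁆ ≤ (⊥ : Subgroup P) := by
      rw [← hZ]
      apply three_le (h.normal (k + 3))
      · calc ⁅⁅W 2, W 1⁆, W (k - 1)⁆ ≤ ⁅W 4, W (k - 1)⁆ := commutator_mono h.two le_rfl
          _ ≤ W (4 + (k - 1)) := h.comm_comm _ _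
          _ = W (k + 3) := by congr 1; omega
      · calc ⁅⁅W 1, W (k - 1)⁆, W 2⁆ ≤ ⁅W (k + 1), W 2⁆ := by
              apply commutator_mono _ le_rfl
              have := hdeg (k - 1) 1 (by omega) (by omega) (by omega)
              rwa [show 1 + (k - 1) + 1 = k + 1 by omega] at this
          _ ≤ W (k + 1 + 2) := h.comm_comm _ _
          _ = W (k + 3) := by congr 1
    have h1 : ⁅t s a (k - 1 - (0 + 1)), t s a (0 + 1)⁆ ∉ W (k + 2) := by
      intro hmem
      apply hw0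
      have := mul_mem (R1 0 (by omega)) (inv_mem hmem)
      rwa [mul_inv_cancel_right] at this
    have h2 := hw1 (0 + 1) (by omega)
    have h3 : t s a k ∈ W (k + 1) := ht k
    obtain ⟨c, hc⟩ := h.exists_zpow (i := k + 1) (by omega) h2 h1 h3
    rw [commutatorElement_eq_one_iff_commute]
    have h4 : Commute ⁅t s a (k - 1 - (0 + 1)), t s a (0 + 1)⁆ (t s a 0) := by
      rw [← commutatorElement_eq_one_iff_commute, ← Subgroup.mem_bot]
      apply hb
      apply commutator_mem_commutator _ (ht 0)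
      apply commutator_mem_commutator _ (ht (0 + 1))
      have := ht (k - 1 - (0 + 1))
      rwa [show k - 1 - (0 + 1) + 1 = k - 1 by omega] at this
    have h5 : t s a k = ⁅t s a (k - 1 - (0 + 1)), t s a (0 + 1)⁆ ^ c *
        ((⁅t s a (k - 1 - (0 + 1)), t s a (0 + 1)⁆ ^ c)⁻¹ * t s a k) := by group
    rw [h5]
    exact (h4.zpow_left c).mul_left (hZc _ hc _)
  set e := ⁅⁅t s a (k - 1), t s a 0⁆, s⁆ with he
  have hemem : e ∈ W (k + 2) := h.comm_mem (hw1 0 (by omega))
  have hene : e ≠ 1 := by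
    intro h1
    have h2 : ⁅⁅t s a (k - 1), t s a 0⁆, s⁆ ∈ W (k + 1 + 2) := by
      rw [← he, h1]; exact one_mem _
    have h3 := (h.mem_K_iff (i := k + 1) (by omega) (hw1 0 (by omega)) hw0 s).mpr h2
    exact hs (k + 1) (by omega) le_rfl h3
  -- `f (w j) = e ^ ((-1)^j)`
  have hf : ∀ j, j + 1 ≤ k → ⁅⁅t s a (k - 1 - j), t s a j⁆, s⁆ = e ^ ((-1 : ℤ) ^ j) := by
    intro j
    induction j with
    | zero => intro _; rw [pow_zero, zpow_one, he, Nat.sub_zero]
    | succ j ih =>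
      intro hj
      have h1 := ih (by omega)
      have h2 := R1 j (by omega)
      set w := ⁅t s a (k - 1 - j), t s a j⁆
      set w' := ⁅t s a (k - 1 - (j + 1)), t s a (j + 1)⁆
      have h3 : w' = w⁻¹ * (w * w') := by group
      have h4 : ⁅w⁻¹ * (w * w'), s⁆ = ⁅w⁻¹, s⁆ := by
        have e1 : ⁅w⁻¹ * (w * w'), s⁆ = (w⁻¹ * ⁅w * w', s⁆ * w⁻¹⁻¹) * ⁅w⁻¹, s⁆ := by
          simp only [commutatorElement_def]; group
        rw [e1, (hZc _ h2 s).commutator_eq]; group
      have h5 : ⁅w⁻¹, s⁆ = ⁅w, s⁆⁻¹ := by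
        have hc : ⁅w, s⁆ ∈ W (k + 2) := h.comm_mem (hw1 j (by omega))
        have e1 : ⁅w⁻¹, s⁆ = w⁻¹ * (⁅w, s⁆⁻¹ * w) := by
          simp only [commutatorElement_def]; group
        rw [e1, ((hZc _ hc w).inv_left).eq]; group
      rw [h3, h4, h5, h1, ← zpow_neg]
      congr 1
      rw [pow_succ]; ring
  -- solve the recursion
  have hz : ∀ j, j ≤ k → ⁅t s a (k - j), t s a j⁆ = e ^ ((-1 : ℤ) ^ (j + 1) * j) := by
    intro j
    induction j with
    | zero => intro _; rw [Nat.sub_zero, hz0]; simp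
    | succ j ih =>
      intro hj
      have h1 := ih (by omega)
      have h2 := R2 j (by omega)
      rw [hf j (by omega), h1] at h2
      have h3 : ⁅t s a (k - (j + 1)), t s a (j + 1)⁆ =
          (e ^ ((-1 : ℤ) ^ (j + 1) * j))⁻¹ * e ^ ((-1 : ℤ) ^ j) := by
        rw [h2]; group
      rw [h3, ← zpow_neg, ← zpow_add]
      congr 1
      push_cast
      ring
  -- the order of `e`
  have hord : orderOf e = p := by
    have h1 : orderOf e ∣ p := by
      have h2 : Nat.card (W (k + 2)) = p := by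
        have := h.card_W 1 (by omega)
        rwa [pow_one, show k + 3 - 1 = k + 2 by omega] at this
      rw [← h2]
      exact Subgroup.orderOf_dvd_natCard _ hemem
    rcases (Nat.dvd_prime hp.out).mp h1 with h2 | h2
    · exact absurd (orderOf_eq_one_iff.mp h2) hene
    · exact h2
  rcases Nat.even_or_odd' k with ⟨m, hm | hm⟩
  · -- even
    have h1 := hz m (by omega)
    rw [show k - m = m by omega, commutatorElement_self] at h1
    have h2 : ((orderOf e : ℕ) : ℤ) ∣ (-1 : ℤ) ^ (m + 1) * m :=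
      orderOf_dvd_iff_zpow_eq_one.mpr h1.symm
    rw [hord] at h2
    have h3 : (p : ℤ) ∣ m := by
      rcases neg_one_pow_eq_or ℤ (m + 1) with h4 | h4
      · rwa [h4, one_mul] at h2
      · rw [h4] at h2
        have := (dvd_neg (a := (p : ℤ))).mpr h2
        simpa using this
    have h4 : p ∣ m := by exact_mod_cast h3
    have := Nat.le_of_dvd (by omega) h4
    omega
  · -- odd
    exfalso
    have h1 := hf m (by omega)
    rw [show k - 1 - m = m by omega, commutatorElement_self, commutatorElement_one_left] at h1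
    apply hene
    rcases neg_one_pow_eq_or ℤ m with h4 | h4
    · rw [h4, zpow_one] at h1; exact h1.symm
    · rw [h4, zpow_neg, zpow_one, eq_comm, inv_eq_one] at h1; exact h1

end MC

end Cfsg.Agent.H467.MaxClass
end

-- part: H467/MaxClassBlackburn
section
/-!
# p-groups of maximal class: Blackburn's theorem (helper467)

* `MC.blackburn` : for `p` odd, `[W i, W 1] ≤ W (i + 2)` for `2 ≤ i ≤ n - 3`, i.e. all two-step
  centralizers except possibly the last one are equal to `W 1`.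
* `MC.card_centralizer` : an element outside `W 1` and outside the last two-step centralizer has
  centralizer of order `p ^ 2`.
-/

set_option autoImplicit false

namespace Cfsg.Agent.H467.MaxClass

open Subgroup
open scoped commutatorElement

universe u

variable {P : Type u} [Group P]

namespace MC

variable {p k : ℕ} {W : ℕ → Subgroup P}

theorem mem_of_commute {n : ℕ} (h : MC P p n W) [hp : Fact p.Prime] {s : P} {m : ℕ} (hm : m + 1 ≤ n)
    (hs : ∀ i, 1 ≤ i → i < m → s ∉ h.Ksub i) {y : P} (hy : y ∈ W 1) (hc : Commute y s) (hm1 : 1 ≤ m) :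
    y ∈ W m := by
  have key : ∀ i, i + 1 ≤ m → y ∈ W (i + 1) := by
    intro i
    induction i with
    | zero => intro _; exact hy
    | succ i ih =>
      intro hi
      by_contra hcon
      have h1 := ih (by omega)
      have h2 : ⁅y, s⁆ ∈ W (i + 1 + 2) := by rw [hc.commutator_eq]; exact one_mem _
      exact hs (i + 1) (by omega) (by omega)
        ((h.mem_K_iff (i := i + 1) (by omega) h1 hcon s).mpr h2)
  have := key (m - 1) (by omega)
  rwa [show m - 1 + 1 = m by omega] at this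

/-- The power map argument. -/
theorem power_contra [Finite P] (h : MC P p (k + 3) W) [hp : Fact p.Prime] (hk : 3 ≤ k)
    (hpos : ∀ j, 2 ≤ j → j < k → ⁅W j, W 1⁆ ≤ W (j + 2)) (hneg : ¬ ⁅W k, W 1⁆ ≤ W (k + 2))
    {s : P} (hs : ∀ i, 1 ≤ i → i ≤ k + 1 → s ∉ h.Ksub i) (h2p : 2 * p ≤ k) : False := by
  have hp2 := hp.out.two_le
  obtain ⟨i0, hi0⟩ : ∃ i0, i0 + p = k + 1 := ⟨k + 1 - p, by omega⟩
  have hcentral : ∀ y ∈ W 1, Commute y s → y ∈ W (k + 2) := fun y hy hc =>
    h.mem_of_commute (by omega) (fun i hi1 hi2 => hs i hi1 (by omega)) hy hc (by omega)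
  have hZc : ∀ z ∈ W (k + 2), ∀ x : P, Commute z x := by
    intro z hz x
    rw [← commutatorElement_eq_one_iff_commute, ← Subgroup.mem_bot, ← h.bot]
    exact h.comm_mem hz
  have hsp : ∀ x : P, Commute (s ^ p) x := by
    have hn := h.normal 1
    have h1 : s ^ p ∈ W 1 := by
      have := (W 1).pow_index_mem s
      rwa [h.W1_index] at this
    exact hZc _ (hcentral _ h1 ((Commute.refl s).pow_left p))
  have hab : ∀ a ∈ W i0, ∀ b ∈ W i0, a * b = b * a := by
    intro a ha b hb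
    have h1 := h.comm_self ha hb
    have h2 : ⁅a, b⁆ ∈ W (k + 3) := h.antitone (by omega) h1
    rw [h.bot, mem_bot, commutatorElement_eq_one_iff_mul_comm] at h2
    exact h2
  let _ : CommGroup (W i0) := { (inferInstance : Group (W i0)) with
    mul_comm := fun a b => Subtype.ext (hab a a.2 b b.2) }
  let c : W i0 →* W i0 :=
    { toFun := fun a => ⟨s * a * s⁻¹, h.conj_mem a.2 s⟩
      map_one' := Subtype.ext (by simp)
      map_mul' := fun a b => Subtype.ext (by simp) }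
  let T : AddMonoid.End (Additive (W i0)) := MonoidHom.toAdditive c
  let τ : AddMonoid.End (Additive (W i0)) := T - 1
  have hT : ∀ v : Additive (W i0), ((Additive.toMul (T v) : W i0) : P) =
      s * (Additive.toMul v : W i0) * s⁻¹ := fun v => rfl
  have hTm : ∀ (m : ℕ) (v : Additive (W i0)), ((Additive.toMul ((T ^ m) v) : W i0) : P) =
      s ^ m * (Additive.toMul v : W i0) * (s ^ m)⁻¹ := by
    intro m
    induction m with
    | zero => intro v; simp
    | succ m ih =>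
      intro v
      have e : (T ^ (m + 1)) v = T ((T ^ m) v) := by rw [pow_succ']; rfl
      rw [e, hT, ih, pow_succ']
      group
  have h1 : (τ + 1) ^ p = 1 := by
    have e : τ + 1 = T := sub_add_cancel T 1
    rw [e]
    ext v
    have e2 := hTm p v
    rw [(hsp _).eq, mul_inv_cancel_right] at e2
    exact congrArg _ (Subtype.ext e2)
  let F : ℕ → AddSubgroup (Additive (W i0)) := fun j =>
    Subgroup.toAddSubgroup ((W (i0 + j)).subgroupOf (W i0))
  have hFmem : ∀ (j : ℕ) (v : Additive (W i0)), v ∈ F j ↔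
      ((Additive.toMul v : W i0) : P) ∈ W (i0 + j) := fun j v => Iff.rfl
  have hFanti : Antitone F := by
    intro i j hij v hv
    rw [hFmem] at hv ⊢
    exact h.antitone (by omega) hv
  have hτv : ∀ v : Additive (W i0), ((Additive.toMul (τ v) : W i0) : P) =
      ⁅s, ((Additive.toMul v : W i0) : P)⁆ := by
    intro v
    have e : τ v = T v - v := rfl
    rw [e, commutatorElement_def, toMul_sub, Subgroup.coe_div, hT, div_eq_mul_inv]
  have hτ : ∀ j, ∀ v ∈ F j, τ v ∈ F (j + 1) := by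
    intro j v hv
    rw [hFmem] at hv ⊢
    rw [hτv]
    exact h.comm_mem' hv
  have hker : ∀ v, τ v = 0 → v ∈ F (p + 1) := by
    intro v hv
    rw [hFmem, show i0 + (p + 1) = k + 2 by omega]
    have e := hτv v
    rw [hv] at e
    have e2 : ⁅s, ((Additive.toMul v : W i0) : P)⁆ = 1 := by rw [← e]; rfl
    rw [commutatorElement_eq_one_iff_commute] at e2
    exact hcentral _ (h.antitone (by omega : 1 ≤ i0) (Additive.toMul v : W i0).2) e2.symm
  have hsm : ∀ (m : ℕ) (v : Additive (W i0)), ((Additive.toMul (m • v) : W i0) : P) =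
      ((Additive.toMul v : W i0) : P) ^ m := fun m v => rfl
  have hc : ∀ v ∈ F (p + 1), p • v = 0 := by
    intro v hv
    rw [hFmem, show i0 + (p + 1) = k + 2 by omega] at hv
    have h2 : Nat.card (W (k + 2)) = p := by
      have := h.card_W 1 (by omega)
      rwa [pow_one, show k + 3 - 1 = k + 2 by omega] at this
    have h3 : ((Additive.toMul v : W i0) : P) ^ p = 1 := by
      have h5 := pow_card_eq_one' (x := (⟨_, hv⟩ : W (k + 2)))
      rw [h2] at h5
      exact congrArg Subtype.val h5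
    have h4 : ((Additive.toMul (p • v) : W i0) : P) = 1 := by rw [hsm, h3]
    exact Additive.toMul.injective (Subtype.ext h4)
  have hmain := PowFilt.main hp.out hFanti hτ h1 (p + 1) hker hc (p + 1)
  -- a generator
  obtain ⟨a, ha, ha'⟩ := h.ne_succ (i := i0) (by omega)
  let v : Additive (W i0) := Additive.ofMul ⟨a, ha⟩
  have hτpow : ∀ m, m ≤ p → (τ ^ m) v ∈ F m ∧ (τ ^ m) v ∉ F (m + 1) := by
    intro m
    induction m with
    | zero =>
      intro _
      refine ⟨?_, ?_⟩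
      · rw [hFmem]; exact ha
      · rw [hFmem]; exact ha'
    | succ m ih =>
      intro hm
      obtain ⟨e1, e2⟩ := ih (by omega)
      have e3 : (τ ^ (m + 1)) v = τ ((τ ^ m) v) := by rw [pow_succ']; rfl
      rw [e3]
      refine ⟨hτ _ _ e1, ?_⟩
      intro e4
      rw [hFmem, hτv] at e4
      rw [hFmem] at e1 e2
      have e5 : ⁅((Additive.toMul ((τ ^ m) v) : W i0) : P), s⁆ ∈ W (i0 + m + 2) := by
        rw [← commutatorElement_inv]
        exact inv_mem e4
      have e6 := (h.mem_K_iff (i := i0 + m) (by omega) e1 e2 s).mpr e5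
      exact hs (i0 + m) (by omega) (by omega) e6
  have hap : a ^ p ∈ W k ∧ a ^ p ∉ W (k + 1) := by
    obtain ⟨e1, r, hr, e2⟩ := hmain 0 (by omega) v (by rw [hFmem]; exact ha)
    constructor
    · rw [hFmem, show i0 + min (0 + (p - 1)) (p + 1) = k by omega] at e1
      exact e1
    · intro e3
      have e4 : p • v ∈ F p := by
        rw [hFmem, show i0 + p = k + 1 by omega]; exact e3
      have e5 : (τ ^ (p - 1)) v ∈ F p := by
        have e6 : (τ ^ (p - 1)) v = r - p • v := by rw [e2]; abel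
        rw [e6]
        refine sub_mem ?_ e4
        rwa [show min (0 + p) (p + 1) = p by omega] at hr
      have e7 := (hτpow (p - 1) (by omega)).2
      rw [show p - 1 + 1 = p by omega] at e7
      exact e7 e5
  apply hneg
  rw [commutator_le]
  intro w hw x hx
  have hxk : x ∈ h.Ksub k := by
    refine (h.mem_K_iff (i := k) (by omega) hap.1 hap.2 x).mpr ?_
    have e1 : ⁅a, x⁆ ∈ W (i0 + 2) := hpos i0 (by omega) (by omega) (commutator_mem_commutator ha hx)
    have e2 : ⁅a, x⁆ ^ p ∈ W (k + 2) := by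
      let v' : Additive (W i0) := Additive.ofMul ⟨⁅a, x⁆, h.antitone (by omega) e1⟩
      have e3 := (hmain 2 (by omega) v' (by rw [hFmem]; exact e1)).1
      rw [hFmem, show i0 + min (2 + (p - 1)) (p + 1) = k + 2 by omega] at e3
      exact e3
    have e4 : ⁅a ^ p, x⁆ = ⁅a, x⁆ ^ p := by
      have e5 : Commute a (x * a⁻¹ * x⁻¹) := hab a ha _ (h.conj_mem (inv_mem ha) x)
      have e6 : ⁅a, x⁆ = a * (x * a⁻¹ * x⁻¹) := by rw [commutatorElement_def]; group
      rw [e6, e5.mul_pow]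
      have e7 : (x * a⁻¹ * x⁻¹) ^ p = x * (a ^ p)⁻¹ * x⁻¹ := by
        rw [conj_pow, inv_pow]
      rw [e7, commutatorElement_def]; group
    rw [e4]
    exact e2
  exact hxk w hw

theorem step [Finite P] (h : MC P p (k + 3) W) [hp : Fact p.Prime] (hp3 : 3 ≤ p) (hk : 3 ≤ k)
    (hpos : ∀ j, 2 ≤ j → j < k → ⁅W j, W 1⁆ ≤ W (j + 2)) : ⁅W k, W 1⁆ ≤ W (k + 2) := by
  by_contra hneg
  obtain ⟨s, -, hs⟩ := h.exists_s hp3 hk hpos
  exact h.power_contra hk hpos hneg hs (h.two_p_le hk hpos hneg hs)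

/-- **Blackburn's theorem.** For `p` odd, all the two-step centralizers of a `p`-group of maximal
class, except possibly the last one, are equal to `W 1`. -/
theorem blackburn [Finite P] {n : ℕ} (h : MC P p n W) [hp : Fact p.Prime] (hp3 : 3 ≤ p) (i : ℕ) :
    2 ≤ i → i + 3 ≤ n → ⁅W i, W 1⁆ ≤ W (i + 2) := by
  induction i using Nat.strong_induction_on with
  | _ k ih =>
  intro h2 h3
  rcases Nat.eq_or_lt_of_le h2 with h4 | h4
  · rw [← h4]; exact h.two
  · have hn := h.normal (k + 3)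
    have hq := h.quot (m := k + 3) (by omega) h3
    have hpos : ∀ j, 2 ≤ j → j < k → ⁅(W j).map (QuotientGroup.mk' (W (k + 3))),
        (W 1).map (QuotientGroup.mk' (W (k + 3)))⁆ ≤
        (W (j + 2)).map (QuotientGroup.mk' (W (k + 3))) := by
      intro j hj1 hj2
      rw [← map_commutator]
      exact Subgroup.map_mono (ih j hj2 hj1 (by omega))
    have h5 := hq.step hp3 (by omega) hpos
    rw [← map_commutator, Subgroup.map_le_iff_le_comap, Subgroup.comap_map_eq,
      QuotientGroup.ker_mk', sup_eq_left.mpr (h.antitone (by omega))] at h5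
    exact h5

end MC

end Cfsg.Agent.H467.MaxClass
end
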