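import Cfsg.Agent.Lib.CoprimeCommutator
import Cfsg.Agent.Lib.FrattiniPGroup
import Cfsg.Agent.PLocal.Uniserial
set_option linter.all false

/-!
# Elements with a small centralizer outside a normal subgroup of index `p` (helper467)

`good_of_good`: `N` normal in the finite group `G`, `|S : S ∩ N|` divides `p` for `S` Sylow,
`u ∉ N`. If `|C_S(u)| ≤ p ^ 2` for one Sylow `p`-subgroup `S` containing `u`, then also for all
others; so `factorization_centralizer`: the `p`-part of `|C_G(u)|` is at most `p ^ 2`.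
-/

set_option autoImplicit false
set_option linter.unusedSectionVars false

namespace Cfsg.Agent.H467.UnifFusion

open Subgroup
open scoped commutatorElement Pointwise

/-- If `|C_D(u)| ≤ c` then `|D : D'| ≤ c`. -/
theorem index_commutator_le {D : Type*} [Group D] [Finite D] (u : D) {c : ℕ}
    (hc : Nat.card (centralizer ({u} : Set D)) ≤ c) : (_root_.commutator D).index ≤ c := by
  classical
  let f : D ⧸ centralizer ({u} : Set D) → _root_.commutator D := fun q =>
    ⟨⁅q.out, u⁆, by
      rw [_root_.commutator_def]; exact commutator_mem_commutator (mem_top _) (mem_top _)⟩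
  have hf : Function.Injective f := by
    intro q r h
    have h1 : ⁅q.out, u⁆ = ⁅r.out, u⁆ := congrArg Subtype.val h
    have h2 : q.out⁻¹ * r.out ∈ centralizer ({u} : Set D) := by
      rw [mem_centralizer_singleton_iff]
      simp only [commutatorElement_def] at h1
      have h3 : q.out * u * q.out⁻¹ = r.out * u * r.out⁻¹ := mul_right_cancel h1
      calc q.out⁻¹ * r.out * u = q.out⁻¹ * (r.out * u * r.out⁻¹) * r.out := by group
        _ = q.out⁻¹ * (q.out * u * q.out⁻¹) * r.out := by rw [h3]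
        _ = u * (q.out⁻¹ * r.out) := by group
    have h3 : (QuotientGroup.mk q.out : D ⧸ centralizer ({u} : Set D)) = QuotientGroup.mk r.out :=
      QuotientGroup.eq.mpr h2
    have h4 : (QuotientGroup.mk q.out : D ⧸ centralizer ({u} : Set D)) = q := Quotient.out_eq' q
    have h5 : (QuotientGroup.mk r.out : D ⧸ centralizer ({u} : Set D)) = r := Quotient.out_eq' r
    rw [← h4, ← h5]; exact h3
  have h1 : (centralizer ({u} : Set D)).index ≤ Nat.card (_root_.commutator D) :=
    Nat.card_le_card_of_injective f hf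
  have h2 := (centralizer ({u} : Set D)).card_mul_index
  have h3 := (_root_.commutator D).card_mul_index
  have h4 : Nat.card (_root_.commutator D) * (_root_.commutator D).index ≤
      Nat.card (_root_.commutator D) * c := by
    rw [h3, ← h2, mul_comm (Nat.card (_root_.commutator D)) c]
    exact Nat.mul_le_mul hc h1
  exact Nat.le_of_mul_le_mul_left h4 Nat.card_pos

variable {G : Type*} [Group G] [Finite G] {p : ℕ} [hp : Fact p.Prime]

/-- An element of prime power order prime to `p` which centralizes the factors of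
`D ≥ B ≥ [D, D]` centralizes the `p`-group `D`. -/
theorem mem_centralizer_of_chain {D B : Subgroup G} (hD : IsPGroup p D) {r m : ℕ} (hr : r.Prime)
    (hrp : r ≠ p) {a : G} (ha : a ^ (r ^ m) = 1)
    (haD : zpowers a ≤ normalizer (D : Set G)) (h1 : ⁅D, zpowers a⁆ ≤ B)
    (h2 : ⁅B, zpowers a⁆ ≤ ⁅D, D⁆) : a ∈ centralizer (D : Set G) := by
  have : Fact r.Prime := ⟨hr⟩
  have hA : IsPGroup r (zpowers a) := by
    obtain ⟨k, -, hk⟩ := (Nat.dvd_prime_pow hr).mp (orderOf_dvd_of_pow_eq_one ha)
    exact IsPGroup.of_card (n := k) (by rw [Nat.card_zpowers, hk])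
  have hrD : ¬ r ∣ Nat.card D := by
    obtain ⟨n, hn⟩ := IsPGroup.iff_card.mp hD
    rw [hn]
    intro h
    exact hrp ((Nat.prime_dvd_prime_iff_eq hr hp.out).1 (hr.dvd_of_dvd_pow h))
  have hcop : (Nat.card (zpowers a)).Coprime (Nat.card D) := by
    obtain ⟨k, hk⟩ := IsPGroup.iff_card.mp hA
    rw [hk]
    exact Nat.Coprime.pow_left k ((Nat.Prime.coprime_iff_not_dvd hr).mpr hrD)
  have h3 : ⁅D, zpowers a⁆ ≤ ⁅D, D⁆ := by
    rw [← Cfsg.Agent.Lib.CoprimeCommutator.commutator_commutator_eq (zpowers a) D haD hcop]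
    exact (commutator_mono h1 le_rfl).trans h2
  have htop : (centralizer (zpowers a : Set G)).subgroupOf D ⊔ frattini D = ⊤ := by
    rw [eq_top_iff]
    rintro ⟨k, hk⟩ -
    obtain ⟨x, hx, c, hcc, hkmc⟩ :=
      Cfsg.Agent.Lib.CoprimeCommutator.exists_commutator_mul_fixed_of_isPGroup r
        (zpowers a) D hA haD hrD k hk
    have hx' : x ∈ (_root_.commutator D).map D.subtype := by
      have e : (_root_.commutator D).map D.subtype = ⁅D, D⁆ := by
        rw [_root_.commutator_def, map_commutator, ← MonoidHom.range_eq_map, range_subtype]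
      rw [e]; exact h3 hx
    obtain ⟨x', hx'', rfl⟩ := hx'
    have hkeq : (⟨k, hk⟩ : D) = x' * ⟨c, hcc.1⟩ := Subtype.ext hkmc
    rw [hkeq]
    refine mul_mem (mem_sup_right ?_) (mem_sup_left ?_)
    · exact Cfsg.Agent.Lib.FrattiniPGroup.commutator_le_frattini hD hx''
    · exact hcc.2
  have htop2 := frattini_nongenerating htop
  have hQc : D ≤ centralizer (zpowers a : Set G) := subgroupOf_eq_top.1 htop2
  exact (le_centralizer_iff.1 hQc) (mem_zpowers _)

/-- The subgroup of `N_G(D)` acting trivially on `D / (D ∩ N)` and `(D ∩ N) / [D, D]`. -/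
def stab (N D : Subgroup G) [hN : N.Normal] : Subgroup G where
  carrier := {h | h ∈ normalizer (D : Set G) ∧ (∀ d ∈ D, ⁅d, h⁆ ∈ N ⊓ D) ∧
    ∀ b ∈ N ⊓ D, ⁅b, h⁆ ∈ ⁅D, D⁆}
  one_mem' := by
    refine ⟨one_mem _, ?_, ?_⟩
    · intro d _; rw [commutatorElement_one_right]; exact one_mem _
    · intro b _; rw [commutatorElement_one_right]; exact one_mem _
  mul_mem' := by
    rintro x y ⟨hx1, hx2, hx3⟩ ⟨hy1, hy2, hy3⟩
    have hconjD : ∀ z ∈ D, x * z * x⁻¹ ∈ D := fun z hz => (mem_normalizer_iff.mp hx1 z).mp hz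
    have e : ∀ w : G, ⁅w, x * y⁆ = ⁅w, x⁆ * (x * ⁅w, y⁆ * x⁻¹) := by
      intro w; simp only [commutatorElement_def]; group
    refine ⟨mul_mem hx1 hy1, ?_, ?_⟩
    · intro d hd
      rw [e]
      exact mul_mem (hx2 d hd) ⟨hN.conj_mem _ (hy2 d hd).1 x, hconjD _ (hy2 d hd).2⟩
    · intro b hb
      rw [e]
      refine mul_mem (hx3 b hb) ?_
      have h1 : (⁅D, D⁆ : Subgroup G).map (MulAut.conj x).toMonoidHom ≤ ⁅D, D⁆ := by
        rw [map_commutator]
        have h2 : D.map (MulAut.conj x).toMonoidHom ≤ D := by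
          rintro _ ⟨z, hz, rfl⟩; exact hconjD z hz
        exact commutator_mono h2 h2
      exact h1 ⟨_, hy3 b hb, rfl⟩
  inv_mem' := by
    rintro x ⟨hx1, hx2, hx3⟩
    have hx1' : x⁻¹ ∈ normalizer (D : Set G) := inv_mem hx1
    have hconjD : ∀ z ∈ D, x⁻¹ * z * x⁻¹⁻¹ ∈ D := fun z hz => (mem_normalizer_iff.mp hx1' z).mp hz
    have e : ∀ w : G, ⁅w, x⁻¹⁆ = x⁻¹ * ⁅w, x⁆⁻¹ * x⁻¹⁻¹ := by
      intro w; simp only [commutatorElement_def]; group
    refine ⟨hx1', ?_, ?_⟩
    · intro d hd
      rw [e]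
      exact ⟨hN.conj_mem _ (inv_mem (hx2 d hd).1) _, hconjD _ (inv_mem (hx2 d hd).2)⟩
    · intro b hb
      rw [e]
      have h1 : (⁅D, D⁆ : Subgroup G).map (MulAut.conj x⁻¹).toMonoidHom ≤ ⁅D, D⁆ := by
        rw [map_commutator]
        have h2 : D.map (MulAut.conj x⁻¹).toMonoidHom ≤ D := by
          rintro _ ⟨z, hz, rfl⟩; exact hconjD z hz
        exact commutator_mono h2 h2
      exact h1 ⟨_, inv_mem (hx3 b hb), rfl⟩

theorem mem_stab {N D : Subgroup G} [hN : N.Normal] {h : G} : h ∈ stab N D ↔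
    h ∈ normalizer (D : Set G) ∧ (∀ d ∈ D, ⁅d, h⁆ ∈ N ⊓ D) ∧ ∀ b ∈ N ⊓ D, ⁅b, h⁆ ∈ ⁅D, D⁆ := Iff.rfl

/-- `p'`-elements of `stab N D` centralize `D`. -/
theorem mem_centralizer_of_coprime {N D : Subgroup G} [hN : N.Normal] (hD : IsPGroup p D) {h : G}
    (hh : h ∈ stab N D) (ho : (orderOf h).Coprime p) : h ∈ centralizer (D : Set G) := by
  have hle : zpowers h ≤ stab N D := by rw [zpowers_le]; exact hh
  refine Cfsg.Agent.Lib.CoprimeCommutator.induction_prime_power (zpowers h)
    (fun a => a ∈ centralizer (D : Set G)) (one_mem _) (fun a _ b _ ha hb => mul_mem ha hb) ?_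
    h (mem_zpowers h)
  intro r m hr a ha hpow
  by_cases hrp : r = p
  · subst hrp
    have h1 : orderOf a ∣ orderOf h := by
      rw [← Nat.card_zpowers h]
      exact Subgroup.orderOf_dvd_natCard _ ha
    have h2 : orderOf a ∣ r ^ m := orderOf_dvd_of_pow_eq_one hpow
    have h3 : orderOf a = 1 := Nat.eq_one_of_dvd_coprimes (ho.pow_right m) h1 h2
    rw [orderOf_eq_one_iff] at h3
    rw [h3]; exact one_mem _
  · have hale : zpowers a ≤ stab N D := by rw [zpowers_le]; exact hle ha
    apply mem_centralizer_of_chain (B := N ⊓ D) hD hr hrp hpow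
    · exact fun x hx => (hale hx).1
    · rw [commutator_le]
      intro d hd x hx
      exact (hale hx).2.1 d hd
    · rw [commutator_le]
      intro b hb x hx
      exact (hale hx).2.2 b hb

/-- The propagation step. -/
theorem good_of_good (N : Subgroup G) [hN : N.Normal] (u : G) (hu : u ∉ N)
    (hNS : ∀ S : Sylow p G, N.relIndex S ∣ p) (m : ℕ) :
    ∀ S T : Sylow p G, u ∈ (S : Subgroup G) → u ∈ (T : Subgroup G) →
      Nat.card G ≤ Nat.card ((S : Subgroup G) ⊓ T : Subgroup G) + m →
      Nat.card ((S : Subgroup G) ⊓ centralizer ({u} : Set G) : Subgroup G) ≤ p ^ 2 →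
      Nat.card ((T : Subgroup G) ⊓ centralizer ({u} : Set G) : Subgroup G) ≤ p ^ 2 := by
  induction m using Nat.strong_induction_on with
  | _ m ih =>
  intro S T huS huT hcard hgood
  by_cases hST : (S : Subgroup G) ≤ T
  · have h1 : (S : Subgroup G) = T := by
      have := S.is_maximal' T.isPGroup' hST
      exact this.symm
    rw [← h1]; exact hgood
  have hTS : ¬ (T : Subgroup G) ≤ S := by
    intro h
    apply hST
    have := T.is_maximal' S.isPGroup' h
    rw [this]
  set D : Subgroup G := (S : Subgroup G) ⊓ T with hDdef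
  have hDS : D ≤ S := inf_le_left
  have hDT : D ≤ T := inf_le_right
  have hDp : IsPGroup p D := S.isPGroup'.to_le hDS
  have huD : u ∈ D := ⟨huS, huT⟩
  -- growth of normalizers
  have hgrow : ∀ Q : Subgroup G, IsPGroup p Q → D ≤ Q → ¬ Q ≤ D →
      ∃ R : Subgroup G, D ≤ R ∧ R ≤ Q ∧ R ≤ normalizer (D : Set G) ∧ ¬ R ≤ D := by
    intro Q hQ hDQ hQD
    refine ⟨Q ⊓ normalizer (D : Set G), le_inf hDQ le_normalizer, inf_le_left, inf_le_right, ?_⟩
    intro hle
    apply hQD
    have hnil : Group.IsNilpotent Q := hQ.isNilpotent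
    have h1 : D.subgroupOf Q = ⊤ := by
      by_contra hne
      have h2 := Group.normalizerCondition_of_isNilpotent (G := Q) (D.subgroupOf Q)
        (lt_top_iff_ne_top.mpr hne)
      apply absurd h2
      apply not_lt_of_ge
      intro x hx
      rw [mem_subgroupOf]
      apply hle
      refine ⟨x.2, ?_⟩
      show (x : G) ∈ normalizer (D : Set G)
      rw [mem_normalizer_iff] at hx ⊢
      intro y
      constructor
      · intro hy
        exact (hx ⟨y, hDQ hy⟩).mp hy
      · intro hy
        have hyQ : y ∈ Q := by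
          have h3 : y = (x : G)⁻¹ * ((x : G) * y * (x : G)⁻¹) * x := by group
          rw [h3]
          exact mul_mem (mul_mem (inv_mem x.2) (hDQ hy)) x.2
        exact (hx ⟨y, hyQ⟩).mpr hy
    exact subgroupOf_eq_top.mp h1
  obtain ⟨T1, hDT1, hT1S, hT1N, hT1D⟩ := hgrow S S.isPGroup' hDS (fun h => hST (h.trans hDT))
  obtain ⟨T2, hDT2, hT2T, hT2N, hT2D⟩ := hgrow T T.isPGroup' hDT (fun h => hTS (h.trans hDS))
  -- index facts for `D`
  have hrel1 : (N ⊓ D).relIndex D ∣ p := by
    have h1 : (N ⊓ D).relIndex D = N.relIndex D := Subgroup.inf_relIndex_right N D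
    rw [h1]
    have h2 : N.relIndex D ≤ p := by
      have h3 : N.relIndex D ≤ N.relIndex S := Subgroup.relIndex_le_of_le_right hDS
        (Subgroup.index_ne_zero_of_finite (H := N.subgroupOf (S : Subgroup G)))
      exact h3.trans (Nat.le_of_dvd hp.out.pos (hNS S))
    obtain ⟨k, hk⟩ := hDp.index (N.subgroupOf D)
    have hk' : N.relIndex D = p ^ k := hk
    rw [hk'] at h2 ⊢
    have h4 : k ≤ 1 := by
      rw [← Nat.pow_le_pow_iff_right hp.out.one_lt, pow_one]; exact h2
    calc p ^ k ∣ p ^ 1 := pow_dvd_pow p h4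
      _ = p := pow_one p
  have hDcomm : ⁅D, D⁆ ≤ N ⊓ D := by
    have h1 : Group.IsNilpotent D := hDp.isNilpotent
    have hn : (N.subgroupOf D).Normal := inferInstance
    have h2 : IsCyclic (D ⧸ N.subgroupOf D) := by
      have h3 : Nat.card (D ⧸ N.subgroupOf D) ∣ p := by
        have : Nat.card (D ⧸ N.subgroupOf D) = N.relIndex D := rfl
        rw [this, ← Subgroup.inf_relIndex_right N D]; exact hrel1
      rcases (Nat.dvd_prime hp.out).mp h3 with h4 | h4
      · have := (Nat.card_eq_one_iff_unique.mp h4).1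
        infer_instance
      · exact isCyclic_of_prime_card h4
    have h3 : IsMulCommutative (D ⧸ N.subgroupOf D) := inferInstance
    have h4 := (Subgroup.Normal.quotient_commutative_iff_commutator_le (N := N.subgroupOf D)).mp h3
    have e : (_root_.commutator D).map D.subtype = ⁅D, D⁆ := by
      rw [_root_.commutator_def, map_commutator, ← MonoidHom.range_eq_map, range_subtype]
    rw [← e]
    rintro _ ⟨x, hx, rfl⟩
    exact ⟨h4 hx, x.2⟩
  have hrel2 : (⁅D, D⁆ : Subgroup G).relIndex (N ⊓ D) ∣ p := by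
    -- `|D : [D, D]| ≤ p ^ 2`
    have e : (_root_.commutator D).map D.subtype = ⁅D, D⁆ := by
      rw [_root_.commutator_def, map_commutator, ← MonoidHom.range_eq_map, range_subtype]
    have h1 : Nat.card (centralizer ({(⟨u, huD⟩ : D)} : Set D)) ≤ p ^ 2 := by
      refine le_trans ?_ hgood
      have h2 : (centralizer ({(⟨u, huD⟩ : D)} : Set D)).map D.subtype ≤
          (S : Subgroup G) ⊓ centralizer ({u} : Set G) := by
        rintro _ ⟨x, hx, rfl⟩
        refine ⟨hDS x.2, ?_⟩
        show (x : G) ∈ centralizer ({u} : Set G)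
        have hx' : x ∈ centralizer ({(⟨u, huD⟩ : D)} : Set D) := hx
        rw [mem_centralizer_singleton_iff] at hx' ⊢
        exact congrArg Subtype.val hx'
      calc Nat.card (centralizer ({(⟨u, huD⟩ : D)} : Set D)) =
            Nat.card ((centralizer ({(⟨u, huD⟩ : D)} : Set D)).map D.subtype) :=
            Nat.card_congr ((centralizer ({(⟨u, huD⟩ : D)} : Set D)).equivMapOfInjective _
              D.subtype_injective).toEquiv
        _ ≤ _ := Subgroup.card_le_of_le h2
    have h2 := index_commutator_le _ h1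
    have h3 : (⁅D, D⁆ : Subgroup G).relIndex D ≤ p ^ 2 := by
      rw [← e]
      have : ((_root_.commutator D).map D.subtype).relIndex D = (_root_.commutator D).index := by
        have h5 := Subgroup.relIndex_map_map_of_injective (_root_.commutator D) ⊤
          D.subtype_injective
        rw [← MonoidHom.range_eq_map, range_subtype, relIndex_top_right] at h5
        exact h5
      rw [this]; exact h2
    have h4 := Subgroup.relIndex_mul_relIndex (⁅D, D⁆ : Subgroup G) (N ⊓ D) D hDcomm inf_le_right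
    have h5 : (N ⊓ D).relIndex D ≠ 1 := by
      intro h6
      rw [Subgroup.relIndex_eq_one] at h6
      exact hu (h6 huD).1
    have h6 : (N ⊓ D).relIndex D = p := by
      rcases (Nat.dvd_prime hp.out).mp hrel1 with h | h
      · exact absurd h h5
      · exact h
    rw [h6] at h4
    rw [← h4, pow_two] at h3
    have h7 : (⁅D, D⁆ : Subgroup G).relIndex (N ⊓ D) ≤ p := Nat.le_of_mul_le_mul_right h3 hp.out.pos
    obtain ⟨k, hk⟩ := (hDp.to_le (inf_le_right : N ⊓ D ≤ D)).index
      ((⁅D, D⁆ : Subgroup G).subgroupOf (N ⊓ D))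
    have hk' : (⁅D, D⁆ : Subgroup G).relIndex (N ⊓ D) = p ^ k := hk
    rw [hk'] at h7 ⊢
    have h8 : k ≤ 1 := by
      rw [← Nat.pow_le_pow_iff_right hp.out.one_lt, pow_one]; exact h7
    calc p ^ k ∣ p ^ 1 := pow_dvd_pow p h8
      _ = p := pow_one p
  -- `p`-subgroups of `N_G(D)` containing `D` lie in `stab N D`
  have hle_stab : ∀ R : Subgroup G, IsPGroup p R → D ≤ R → R ≤ normalizer (D : Set G) →
      R ≤ stab N D := by
    intro R hR hDR hRN
    have hRnN : R ≤ normalizer ((N ⊓ D : Subgroup G) : Set G) := by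
      intro x hx
      rw [mem_normalizer_iff]
      intro y
      have h1 := mem_normalizer_iff.mp (hRN hx) y
      constructor
      · rintro ⟨hy1, hy2⟩
        exact ⟨hN.conj_mem y hy1 x, h1.mp hy2⟩
      · rintro ⟨hy1, hy2⟩
        refine ⟨?_, h1.mpr hy2⟩
        have h2 := hN.conj_mem _ hy1 x⁻¹
        have h3 : x⁻¹ * (x * y * x⁻¹) * x⁻¹⁻¹ = y := by group
        rwa [h3] at h2
    have hRnC : R ≤ normalizer ((⁅D, D⁆ : Subgroup G) : Set G) := by
      have hkey : ∀ x ∈ R, ∀ y ∈ (⁅D, D⁆ : Subgroup G), x * y * x⁻¹ ∈ (⁅D, D⁆ : Subgroup G) := by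
        intro x hx y hy
        have h1 : (⁅D, D⁆ : Subgroup G).map (MulAut.conj x).toMonoidHom ≤ ⁅D, D⁆ := by
          rw [map_commutator]
          have h2 : D.map (MulAut.conj x).toMonoidHom ≤ D := by
            rintro _ ⟨z, hz, rfl⟩; exact (mem_normalizer_iff.mp (hRN hx) z).mp hz
          exact commutator_mono h2 h2
        exact h1 ⟨y, hy, rfl⟩
      intro x hx
      rw [mem_normalizer_iff]
      intro y
      refine ⟨hkey x hx y, fun hy => ?_⟩
      have h2 := hkey x⁻¹ (inv_mem hx) _ hy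
      have h3 : x⁻¹ * (x * y * x⁻¹) * x⁻¹⁻¹ = y := by group
      rwa [h3] at h2
    have h1 : ⁅D, R⁆ ≤ N ⊓ D := Cfsg.Agent.PLocal.Uniserial.iterCommutator_le_of_relIndex R D R hR
      hDR le_rfl hRN (N ⊓ D) inf_le_right hRnN 1 (by rw [pow_one]; exact hrel1)
    have h2 : ⁅(N ⊓ D : Subgroup G), R⁆ ≤ ⁅D, D⁆ :=
      Cfsg.Agent.PLocal.Uniserial.iterCommutator_le_of_relIndex R (N ⊓ D) R hR
        (inf_le_right.trans hDR) le_rfl hRnN (⁅D, D⁆) hDcomm hRnC 1 (by rw [pow_one]; exact hrel2)
    intro x hx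
    exact ⟨hRN hx, fun d hd => h1 (commutator_mem_commutator hd hx),
      fun b hb => h2 (commutator_mem_commutator hb hx)⟩
  have hT1p : IsPGroup p T1 := S.isPGroup'.to_le hT1S
  have hT2p : IsPGroup p T2 := T.isPGroup'.to_le hT2T
  have hT1C := hle_stab T1 hT1p hDT1 hT1N
  have hT2C := hle_stab T2 hT2p hDT2 hT2N
  set C := stab N D with hC
  -- Sylow theory in `C`
  obtain ⟨X1, hX1⟩ := (hT1p.comap_subtype (K := C) : IsPGroup p (T1.comap C.subtype)).exists_le_sylow
  obtain ⟨X2, hX2⟩ := (hT2p.comap_subtype (K := C) : IsPGroup p (T2.comap C.subtype)).exists_le_sylow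
  obtain ⟨c, hc⟩ := MulAction.exists_smul_eq C X1 X2
  let E : Subgroup C := (centralizer (D : Set G)).subgroupOf C
  have hEn : E.Normal := by
    constructor
    intro e he g
    rw [mem_subgroupOf] at he ⊢
    rw [mem_centralizer_iff] at he ⊢
    intro d hd
    have hgN : (g : G)⁻¹ ∈ normalizer (D : Set G) := inv_mem g.2.1
    have h1 : (g : G)⁻¹ * d * (g : G)⁻¹⁻¹ ∈ D := (mem_normalizer_iff.mp hgN d).mp hd
    rw [inv_inv] at h1
    have h2 := he _ h1
    calc d * ((g * e * g⁻¹ : C) : G) = (g : G) * (((g : G)⁻¹ * d * g) * e) * (g : G)⁻¹ := by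
          push_cast; group
      _ = (g : G) * (e * ((g : G)⁻¹ * d * g)) * (g : G)⁻¹ := by rw [h2]
      _ = ((g * e * g⁻¹ : C) : G) * d := by push_cast; group
  have hEX : E ⊔ (X1 : Subgroup C) = ⊤ := by
    have hq : IsPGroup p (C ⧸ E) := by
      intro x
      obtain ⟨x, rfl⟩ := QuotientGroup.mk'_surjective E x
      refine ⟨(orderOf x).factorization p, ?_⟩
      rw [← map_pow, QuotientGroup.mk'_apply, QuotientGroup.eq_one_iff, mem_subgroupOf]
      apply mem_centralizer_of_coprime hDp (x ^ p ^ (orderOf x).factorization p).2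
      rw [Subgroup.orderOf_coe, orderOf_pow_of_dvd (pow_pos hp.out.pos _).ne'
        (Nat.ordProj_dvd _ _)]
      exact (Nat.coprime_ordCompl hp.out (orderOf_pos x).ne').symm
    have h1 : ∃ k, E.index = p ^ k := by
      obtain ⟨k, hk⟩ := IsPGroup.iff_card.mp hq
      exact ⟨k, hk⟩
    obtain ⟨k, hk⟩ := h1
    have h2 : ¬ p ∣ (X1 : Subgroup C).index := X1.not_dvd_index
    rw [← Subgroup.index_eq_one]
    refine Nat.eq_one_of_dvd_coprimes (a := p ^ k) (b := (X1 : Subgroup C).index) ?_ ?_ ?_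
    · exact Nat.Coprime.pow_left k ((Nat.Prime.coprime_iff_not_dvd hp.out).mpr h2)
    · rw [← hk]; exact Subgroup.index_dvd_of_le le_sup_left
    · exact Subgroup.index_dvd_of_le le_sup_right
  obtain ⟨e, he, x, hx, hex⟩ : ∃ e ∈ E, ∃ x ∈ (X1 : Subgroup C), e * x = c := by
    have : c ∈ E ⊔ (X1 : Subgroup C) := by rw [hEX]; trivial
    rw [← SetLike.mem_coe, Subgroup.normal_mul] at this
    obtain ⟨e, he, x, hx, h⟩ := this
    exact ⟨e, he, x, hx, h⟩
  have hX2e : X2 = e • X1 := by
    rw [← hc, ← hex, mul_smul]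
    congr 1
    exact Sylow.smul_eq_iff_mem_normalizer.mpr (le_normalizer hx)
  have heD : (e : G) ∈ centralizer (D : Set G) := he
  have heu : (e : G) * u = u * e := (mem_centralizer_iff.mp heD u huD).symm
  obtain ⟨S3, hS3⟩ := (X1.isPGroup'.map C.subtype).exists_le_sylow
  -- `S3` is good
  have hT1S3 : T1 ≤ S3 := by
    intro y hy
    apply hS3
    exact ⟨⟨y, hT1C hy⟩, hX1 hy, rfl⟩
  have hcardlt : ∀ R : Subgroup G, D ≤ R → ¬ R ≤ D → Nat.card D < Nat.card R := by
    intro R h1 h2
    apply lt_of_le_of_ne (Subgroup.card_le_of_le h1)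
    intro h3
    apply h2
    rw [Subgroup.eq_of_le_of_card_ge h1 h3.ge]
  have hm : 0 < m := by
    have h1 := hcardlt T1 hDT1 hT1D
    have h2 : Nat.card T1 ≤ Nat.card G := Subgroup.card_le_card_group T1
    omega
  have hgood3 : Nat.card ((S3 : Subgroup G) ⊓ centralizer ({u} : Set G) : Subgroup G) ≤ p ^ 2 := by
    apply ih (m - 1) (by omega) S S3 huS (hT1S3 (hDT1 huD)) _ hgood
    have h1 := hcardlt T1 hDT1 hT1D
    have h2 : Nat.card T1 ≤ Nat.card ((S : Subgroup G) ⊓ S3 : Subgroup G) :=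
      Subgroup.card_le_of_le (le_inf hT1S hT1S3)
    omega
  -- `S4 = e • S3`
  have hsmul : ∀ (R : Sylow p G) (g y : G), y ∈ ((g • R : Sylow p G) : Subgroup G) ↔
      ∃ z ∈ (R : Subgroup G), g * z * g⁻¹ = y := by
    intro R g y
    rw [Sylow.coe_subgroup_smul, Subgroup.mem_smul_pointwise_iff_exists]
    rfl
  have hsmulC : ∀ (R : Sylow p C) (g y : C), y ∈ ((g • R : Sylow p C) : Subgroup C) ↔
      ∃ z ∈ (R : Subgroup C), g * z * g⁻¹ = y := by
    intro R g y
    rw [Sylow.coe_subgroup_smul, Subgroup.mem_smul_pointwise_iff_exists]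
    rfl
  have huS3 : u ∈ (S3 : Subgroup G) := hT1S3 (hDT1 huD)
  have huS4 : u ∈ (((e : G) • S3 : Sylow p G) : Subgroup G) := by
    rw [hsmul]
    exact ⟨u, huS3, by rw [heu]; group⟩
  have hT2S4 : T2 ≤ (((e : G) • S3 : Sylow p G) : Subgroup G) := by
    intro y hy
    have h1 : (⟨y, hT2C hy⟩ : C) ∈ (X2 : Subgroup C) := hX2 hy
    rw [hX2e, hsmulC] at h1
    obtain ⟨z, hz, hzy⟩ := h1
    rw [hsmul]
    refine ⟨z, hS3 ⟨z, hz, rfl⟩, ?_⟩
    exact congrArg Subtype.val hzy
  have hgood4 : Nat.card ((((e : G) • S3 : Sylow p G) : Subgroup G) ⊓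
      centralizer ({u} : Set G) : Subgroup G) ≤ p ^ 2 := by
    refine le_trans (le_of_eq ?_) hgood3
    have h1 : (((e : G) • S3 : Sylow p G) : Subgroup G) ⊓ centralizer ({u} : Set G) =
        ((S3 : Subgroup G) ⊓ centralizer ({u} : Set G)).map (MulAut.conj (e : G)).toMonoidHom := by
      ext y
      rw [mem_inf, hsmul, mem_map]
      constructor
      · rintro ⟨⟨z, hz, rfl⟩, hy⟩
        refine ⟨z, ⟨hz, ?_⟩, rfl⟩
        show z ∈ centralizer ({u} : Set G)
        rw [mem_centralizer_singleton_iff] at hy ⊢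
        have h2 : (e : G) * (z * u) * (e : G)⁻¹ = (e : G) * (u * z) * (e : G)⁻¹ := by
          calc (e : G) * (z * u) * (e : G)⁻¹ = ((e : G) * z * (e : G)⁻¹) * (((e : G) * u) * (e : G)⁻¹) := by
                group
            _ = ((e : G) * z * (e : G)⁻¹) * u := by rw [heu]; group
            _ = u * ((e : G) * z * (e : G)⁻¹) := hy
            _ = (u * e) * z * (e : G)⁻¹ := by group
            _ = (e * u) * z * (e : G)⁻¹ := by rw [heu]
            _ = _ := by group
        exact mul_left_cancel (mul_right_cancel h2)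
      · rintro ⟨z, ⟨hz, hzc⟩, rfl⟩
        refine ⟨⟨z, hz, rfl⟩, ?_⟩
        show (e : G) * z * (e : G)⁻¹ ∈ centralizer ({u} : Set G)
        have hzc' : z ∈ centralizer ({u} : Set G) := hzc
        rw [mem_centralizer_singleton_iff] at hzc' ⊢
        calc ((e : G) * z * (e : G)⁻¹) * u = (e : G) * z * ((e : G)⁻¹ * (u * e)) * (e : G)⁻¹ := by group
          _ = (e : G) * z * ((e : G)⁻¹ * (e * u)) * (e : G)⁻¹ := by rw [heu]
          _ = (e : G) * (z * u) * (e : G)⁻¹ := by group
          _ = (e : G) * (u * z) * (e : G)⁻¹ := by rw [hzc']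
          _ = (e * u) * z * (e : G)⁻¹ := by group
          _ = (u * e) * z * (e : G)⁻¹ := by rw [heu]
          _ = _ := by group
    rw [h1]
    exact Nat.card_congr (((S3 : Subgroup G) ⊓ centralizer ({u} : Set G)).equivMapOfInjective _
      (MulAut.conj (e : G)).injective).symm.toEquiv
  apply ih (m - 1) (by omega) _ T huS4 huT _ hgood4
  have h1 := hcardlt T2 hDT2 hT2D
  have h2 : Nat.card T2 ≤ Nat.card ((((e : G) • S3 : Sylow p G) : Subgroup G) ⊓ T : Subgroup G) :=
    Subgroup.card_le_of_le (le_inf hT2S4 hT2T)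
  omega

/-- The `p`-part of the centralizer of `u` from the Sylow subgroups containing `u`. -/
theorem factorization_le_of_forall (u : G) (S : Sylow p G) (huS : u ∈ (S : Subgroup G)) {k : ℕ}
    (hall : ∀ T : Sylow p G, u ∈ (T : Subgroup G) →
      Nat.card ((T : Subgroup G) ⊓ centralizer ({u} : Set G) : Subgroup G) ≤ p ^ k) :
    (Nat.card (centralizer ({u} : Set G))).factorization p ≤ k := by
  -- a Sylow subgroup of the centralizer
  obtain ⟨Q⟩ : Nonempty (Sylow p (centralizer ({u} : Set G))) := inferInstance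
  have hucent : u ∈ centralizer ({u} : Set G) := by rw [mem_centralizer_singleton_iff]
  -- `u ∈ Q`
  have huQ : (⟨u, hucent⟩ : centralizer ({u} : Set G)) ∈ (Q : Subgroup (centralizer ({u} : Set G))) := by
    have h1 : IsPGroup p (zpowers (⟨u, hucent⟩ : centralizer ({u} : Set G))) := by
      obtain ⟨k, hk⟩ := (IsPGroup.iff_orderOf (p := p)).mp S.isPGroup' ⟨u, huS⟩
      rw [Subgroup.orderOf_mk] at hk
      exact IsPGroup.of_card (n := k) (by rw [Nat.card_zpowers, Subgroup.orderOf_mk, hk])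
    have h2 : (zpowers (⟨u, hucent⟩ : centralizer ({u} : Set G))).Normal := by
      constructor
      intro x hx g
      obtain ⟨k, rfl⟩ := mem_zpowers_iff.mp hx
      have h3 : g * (⟨u, hucent⟩ : centralizer ({u} : Set G)) = ⟨u, hucent⟩ * g := by
        apply Subtype.ext
        exact (mem_centralizer_singleton_iff.mp g.2)
      have h4 : g * (⟨u, hucent⟩ : centralizer ({u} : Set G)) ^ k * g⁻¹ =
          (⟨u, hucent⟩ : centralizer ({u} : Set G)) ^ k := by
        have : Commute g (⟨u, hucent⟩ : centralizer ({u} : Set G)) := h3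
        rw [(this.zpow_right k).eq, mul_inv_cancel_right]
      rw [h4]
      exact zpow_mem (mem_zpowers _) k
    exact (IsPGroup.le_sylow_of_normal h1 Q) (mem_zpowers _)
  obtain ⟨T, hT⟩ := (Q.isPGroup'.map (centralizer ({u} : Set G)).subtype).exists_le_sylow
  have huT : u ∈ (T : Subgroup G) := hT ⟨⟨u, hucent⟩, huQ, rfl⟩
  have h1 := hall T huT
  have h2 : Nat.card Q ≤ p ^ k := by
    refine le_trans ?_ h1
    calc Nat.card Q = Nat.card ((Q : Subgroup (centralizer ({u} : Set G))).map
          (centralizer ({u} : Set G)).subtype) :=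
          Nat.card_congr ((Q : Subgroup (centralizer ({u} : Set G))).equivMapOfInjective _
            (centralizer ({u} : Set G)).subtype_injective).toEquiv
      _ ≤ _ := by
        apply Subgroup.card_le_of_le
        apply le_inf hT
        rintro _ ⟨y, _, rfl⟩
        exact y.2
  rw [Q.card_eq_multiplicity] at h2
  exact (Nat.pow_le_pow_iff_right hp.out.one_lt).mp h2

/-- The conclusion: the `p`-part of the centralizer of `u` in `G` is at most `p ^ 2`. -/
theorem factorization_centralizer (N : Subgroup G) [hN : N.Normal] (u : G) (hu : u ∉ N)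
    (hNS : ∀ S : Sylow p G, N.relIndex S ∣ p) (S : Sylow p G) (huS : u ∈ (S : Subgroup G))
    (hgood : Nat.card ((S : Subgroup G) ⊓ centralizer ({u} : Set G) : Subgroup G) ≤ p ^ 2) :
    (Nat.card (centralizer ({u} : Set G))).factorization p ≤ 2 :=
  factorization_le_of_forall u S huS fun T huT =>
    good_of_good N u hu hNS (Nat.card G) S T huS huT (Nat.le_add_left _ _) hgood

/-- `|S : S ∩ N|` is the same for all Sylow subgroups. -/
theorem relIndex_sylow (N : Subgroup G) [hN : N.Normal] (S T : Sylow p G) :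
    N.relIndex S = N.relIndex T := by
  have h1 : ∀ R : Sylow p G, N.relIndex R = p ^ (Nat.card (G ⧸ N)).factorization p := by
    intro R
    have h2 := Subgroup.relIndex_ker (QuotientGroup.mk' N) (K := (R : Subgroup G))
    rw [QuotientGroup.ker_mk'] at h2
    rw [h2]
    exact (R.mapSurjective (QuotientGroup.mk'_surjective N)).card_eq_multiplicity
  rw [h1, h1]

end Cfsg.Agent.H467.UnifFusion
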